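import Cfsg.Agent.Lib.Helper68.BG10F
import Cfsg.Agent.S1350
import Cfsg.Agent.S1403
import Cfsg.Agent.S1404

/-!
Bender-Glauberman 12.17 (statement S1426), conditional on parts of the texts of S1416 and S1423.
-/

set_option autoImplicit false

namespace Cfsg.Agent.Lib.Helper31

open Subgroup Cfsg.Agent.Lib.Helper30 Cfsg.Agent.Lib.Helper2 Cfsg.Agent.Lib.Helper68
open scoped commutatorElement

universe u

variable {G : Type u} [Group G]

/-- the part of the text of S1416 that is used. -/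
def T1416a (G : Type u) [Group G] : Prop :=
  ∀ M : Subgroup G, IsCoatom M → ∀ (p : ℕ) [Fact p.Prime] (A : Subgroup G), A ≤ M →
    Cfsg.IsElementaryAbelian p A → Nat.card A = p ^ 2 → centralizer (A : Set G) ≤ M

/-- the part of the text of S1423 that is used. -/
def T1423a (G : Type u) [Group G] : Prop :=
  ∀ M : Subgroup G, IsCoatom M → ∀ (p : ℕ) [Fact p.Prime], p ∈ Cfsg.sigma M → ∀ X : Subgroup G,
    X ≤ M → Nat.card X = p →
    (p ∈ Cfsg.beta M ∨ X ≤ ⁅Cfsg.sigmaCore M, Cfsg.sigmaCore M⁆) → centralizer (X : Set G) ≤ M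

theorem isComplIn_symm {A B M : Subgroup G} (h : Cfsg.IsComplIn A B M) : Cfsg.IsComplIn B A M := by
  obtain ⟨hA, hB, hAB, hmul⟩ := h
  refine ⟨hB, hA, by rw [inf_comm]; exact hAB, fun m hm => ?_⟩
  obtain ⟨a, ha, b, hb, h⟩ := hmul m⁻¹ (M.inv_mem hm)
  refine ⟨b⁻¹, B.inv_mem hb, a⁻¹, A.inv_mem ha, ?_⟩
  rw [← mul_inv_rev, ← h, inv_inv]

theorem sigmaCore_le_commutator [Finite G] (hG : Cfsg.IsMinSimpleOddOrder G)
    {M : Subgroup G} (hM : IsCoatom M) : Cfsg.sigmaCore M ≤ ⁅M, M⁆ := by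
  have hU : UT G := fun K hK h1 h2 => Cfsg.Agent.S1403.result hG K hK h1 h2
  obtain ⟨⟨hle, hpi, hrel⟩, -, -⟩ := Cfsg.Agent.S1350.result hG M hM
  apply le_of_forall_isSylowIn
  intro p _ hp
  obtain ⟨S, hS⟩ := exists_isSylowIn p (Cfsg.sigmaCore M)
  have hpσ : p ∈ Cfsg.sigma M := hpi p Fact.out hp
  refine ⟨S, hS, sylow_le_commutator_of_mem_sigma hG hU hM hpσ ⟨hS.le.trans hle, hS.isPGroup, ?_⟩⟩
  rw [← relIndex_mul_relIndex S (Cfsg.sigmaCore M) M hS.le hle]
  intro hd
  rcases (Nat.Prime.dvd_mul Fact.out).1 hd with h | h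
  · exact hS.not_dvd h
  · exact hrel p Fact.out hpσ h

theorem sigmaCore_coprime [Finite G] (hG : Cfsg.IsMinSimpleOddOrder G)
    {M : Subgroup G} (hM : IsCoatom M) :
    (Nat.card (Cfsg.sigmaCore M)).Coprime ((Cfsg.sigmaCore M).relIndex M) := by
  obtain ⟨⟨hle, hpi, hrel⟩, -, -⟩ := Cfsg.Agent.S1350.result hG M hM
  by_contra hcon
  obtain ⟨p, hp, h1, h2⟩ := Nat.Prime.not_coprime_iff_dvd.1 hcon
  exact hrel p hp (hpi p hp h1) h2

/-- first two parts of B-G 12.17. -/
theorem bg1217_ab [Finite G] (hG : Cfsg.IsMinSimpleOddOrder G)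
    {M : Subgroup G} (hM : IsCoatom M) {E : Subgroup G}
    (hE : Cfsg.IsComplIn E (Cfsg.sigmaCore M) M) :
    Cfsg.sigmaCore M ⊓ centralizer (E : Set G) ≤ ⁅Cfsg.sigmaCore M, Cfsg.sigmaCore M⁆ ∧
      ⁅Cfsg.sigmaCore M, E⁆ = Cfsg.sigmaCore M := by
  set P := Cfsg.sigmaCore M with hP
  have hV := isComplIn_symm hE
  have hPN : P ≤ M := hV.1
  have hPn : M ≤ normalizer (P : Set G) := le_normalizer_piCoreOf (Cfsg.sigma M) M
  have hsol : Group.IsSolvable ↥M := solvable_of_ne_top hG hM.1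
  have hn : (P.subgroupOf M).Normal := (normal_subgroupOf_iff_le_normalizer hPN).mpr hPn
  have h1 : P.subgroupOf M ≤ commutator ↥M := by
    rw [← map_le_map_iff_of_injective M.subtype_injective, map_subtype_commutator,
      map_subgroupOf_eq_of_le hPN]
    exact sigmaCore_le_commutator hG hM
  obtain ⟨h2, h3⟩ := (Cfsg.Agent.S1459.result (G := ↥M)).1 (P.subgroupOf M) (E.subgroupOf M) hn
    (by rw [card_subgroupOf hPN]; exact sigmaCore_coprime hG hM) (isComplement'_of_isComplIn hV) h1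
  constructor
  · intro x hx
    obtain ⟨hxP, hxC⟩ := mem_inf.1 hx
    have hxM : x ∈ M := hPN hxP
    have h4 : (⟨x, hxM⟩ : ↥M) ∈ P.subgroupOf M ⊓ centralizer ((E.subgroupOf M : Subgroup ↥M) : Set ↥M) := by
      refine mem_inf.2 ⟨mem_subgroupOf.2 hxP, ?_⟩
      rw [mem_centralizer_iff]
      intro e he
      apply Subtype.ext
      exact mem_centralizer_iff.1 hxC e (mem_subgroupOf.1 he)
    have h5 := Subgroup.mem_map_of_mem M.subtype (h3 h4)
    rw [map_commutator, map_subgroupOf_eq_of_le hPN] at h5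
    exact h5
  · have h4 := congrArg (Subgroup.map M.subtype) h2
    rw [map_commutator, map_subgroupOf_eq_of_le hPN, map_subgroupOf_eq_of_le hV.2.1] at h4
    exact h4.symm

/-- a nontrivial `q`-subgroup of `M_σ ∩ M^g`, `g ∉ M`, has its centralizer outside `M`. -/
theorem centralizer_not_le_of_le_inter [Finite G] (hG : Cfsg.IsMinSimpleOddOrder G)
    {M : Subgroup G} (hM : IsCoatom M) {g : G} (hg : g ∉ M) {q : ℕ} [Fact q.Prime]
    {X : Subgroup G} (hXq : IsPGroup q X) (hX1 : X ≠ ⊥)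
    (hX : X ≤ Cfsg.sigmaCore M ⊓ M.map (MulAut.conj g).toMonoidHom) :
    ¬ centralizer (X : Set G) ≤ M := by
  intro hC
  obtain ⟨⟨hle, hpi, -⟩, -, -⟩ := Cfsg.Agent.S1350.result hG M hM
  have hXs : X ≤ Cfsg.sigmaCore M := hX.trans inf_le_left
  have hqσ : q ∈ Cfsg.sigma M :=
    hpi q Fact.out ((dvd_card_of_isPGroup_ne_bot hXq hX1).trans (card_dvd_of_le hXs))
  have hconj : X.map (MulAut.conj g⁻¹).toMonoidHom ≤ M := by
    rintro _ ⟨x, hx, rfl⟩
    obtain ⟨m, hm, hmx⟩ := (hX.trans inf_le_right) hx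
    have : x = g * m * g⁻¹ := by simpa using hmx.symm
    have h2 : (MulAut.conj g⁻¹).toMonoidHom x = m := by
      rw [this]; simp only [MulEquiv.coe_toMonoidHom, MulAut.conj_apply, inv_inv]; group
    rw [h2]; exact hm
  obtain ⟨m, hm, c, hc, h⟩ := (Cfsg.Agent.S1404.result hG M hM q hqσ X hXq hX1 (hXs.trans hle)).1
    g⁻¹ hconj
  apply hg
  have : g = (m * c)⁻¹ := by rw [← h, inv_inv]
  rw [this]
  exact M.inv_mem (M.mul_mem hm (hC hc))

theorem bg1217_c [Finite G] (hG : Cfsg.IsMinSimpleOddOrder G) (h16 : T1416a G) (h23 : T1423a G)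
    {M : Subgroup G} (hM : IsCoatom M) {g : G} (hg : g ∉ M) :
    IsCyclic ↥(Cfsg.sigmaCore M ⊓ M.map (MulAut.conj g).toMonoidHom) ∧
      (∀ p : ℕ, p.Prime → p ∣ Nat.card ↥(Cfsg.sigmaCore M ⊓ M.map (MulAut.conj g).toMonoidHom) →
        p ∉ Cfsg.beta M) ∧
      Cfsg.sigmaCore M ⊓ M.map (MulAut.conj g).toMonoidHom ⊓
        ⁅Cfsg.sigmaCore M, Cfsg.sigmaCore M⁆ = ⊥ := by
  obtain ⟨⟨hle, hpi, -⟩, -, -⟩ := Cfsg.Agent.S1350.result hG M hM
  set D := Cfsg.sigmaCore M ⊓ M.map (MulAut.conj g).toMonoidHom with hD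
  have hDs : D ≤ Cfsg.sigmaCore M := inf_le_left
  -- subgroups of prime order
  have key : ∀ (q : ℕ) [Fact q.Prime] (x : G), x ∈ D → orderOf x = q →
      ¬ (q ∈ Cfsg.beta M ∨ zpowers x ≤ ⁅Cfsg.sigmaCore M, Cfsg.sigmaCore M⁆) := by
    intro q _ x hx hox hor
    have hXD : zpowers x ≤ D := zpowers_le.2 hx
    have hcard : Nat.card (zpowers x) = q := by rw [Nat.card_zpowers, hox]
    have hXq : IsPGroup q (zpowers x) := IsPGroup.of_card (n := 1) (by rw [hcard, pow_one])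
    have hX1 : zpowers x ≠ ⊥ := by
      intro h
      rw [h, card_bot] at hcard
      exact (Fact.out : q.Prime).one_lt.ne hcard
    have hqσ : q ∈ Cfsg.sigma M :=
      hpi q Fact.out ((dvd_card_of_isPGroup_ne_bot hXq hX1).trans (card_dvd_of_le (hXD.trans hDs)))
    exact centralizer_not_le_of_le_inter hG hM hg hXq hX1 hXD
      (h23 M hM q hqσ (zpowers x) ((hXD.trans hDs).trans hle) hcard hor)
  have hbot : D ⊓ ⁅Cfsg.sigmaCore M, Cfsg.sigmaCore M⁆ = ⊥ := by
    by_contra hne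
    have hcard : Nat.card ↥(D ⊓ ⁅Cfsg.sigmaCore M, Cfsg.sigmaCore M⁆) ≠ 1 := by
      intro h; exact hne (card_eq_one.1 h)
    obtain ⟨q, hq, hqd⟩ := Nat.exists_prime_and_dvd hcard
    have : Fact q.Prime := ⟨hq⟩
    obtain ⟨x, hx⟩ := exists_prime_orderOf_dvd_card' q hqd
    have hx' : orderOf (x : G) = q := by rw [Subgroup.orderOf_coe]; exact hx
    exact key q (x : G) (mem_inf.1 x.2).1 hx' (Or.inr (zpowers_le.2 (mem_inf.1 x.2).2))
  refine ⟨?_, ?_, hbot⟩
  · -- cyclic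
    have hcomm : ∀ a b : ↥D, a * b = b * a := by
      intro a b
      have h1 : ⁅(a : G), (b : G)⁆ ∈ D ⊓ ⁅Cfsg.sigmaCore M, Cfsg.sigmaCore M⁆ :=
        mem_inf.2 ⟨D.mul_mem (D.mul_mem (D.mul_mem a.2 b.2) (D.inv_mem a.2)) (D.inv_mem b.2),
          commutator_mem_commutator (hDs a.2) (hDs b.2)⟩
      rw [hbot, mem_bot] at h1
      exact Subtype.ext (commutatorElement_eq_one_iff_mul_comm.1 h1)
    have hnil : Group.IsNilpotent ↥D := by
      let _ : CommGroup ↥D := { (inferInstance : Group ↥D) with mul_comm := hcomm }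
      infer_instance
    have hodd : Odd (Nat.card G) := hG.1
    have hZ : IsZGroup ↥D := by
      refine ⟨fun q hq S => ?_⟩
      have : Fact q.Prime := ⟨hq⟩
      by_contra hnc
      have hS := isSylowIn_of_sylow S
      have hnc' : ¬ IsCyclic ↥((S : Subgroup D).map D.subtype) := by
        intro hc
        apply hnc
        exact isCyclic_of_injective ((D.subtype.subgroupMap (S : Subgroup D)))
          (by
            intro a b hab
            have h1 := congrArg (Subtype.val) hab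
            exact Subtype.ext (Subtype.ext h1))
      have hq2 : q ≠ 2 := by
        rintro rfl
        by_cases hS1 : (S : Subgroup D).map D.subtype = ⊥
        · apply hnc'
          rw [hS1]
          infer_instance
        · have h1 := (dvd_card_of_isPGroup_ne_bot hS.isPGroup hS1).trans
            (Subgroup.card_subgroup_dvd_card _)
          exact (Nat.not_even_iff_odd.mpr hodd) (even_iff_two_dvd.mpr h1)
      obtain ⟨A, hAS, -, hA, hAc⟩ :=
        Cfsg.Agent.Lib.Helper58.BG9.exists_normal_sq hq2 hS.isPGroup hnc'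
      have hAD : A ≤ D := hAS.trans hS.le
      have hA1 : A ≠ ⊥ := by
        intro h
        rw [h, card_bot] at hAc
        exact (Nat.one_lt_pow (by norm_num) hq.one_lt).ne hAc
      exact centralizer_not_le_of_le_inter hG hM hg (hS.isPGroup.to_le hAS) hA1 hAD
        (h16 M hM q A ((hAD.trans hDs).trans hle) hA hAc)
    infer_instance
  · intro p hp hpd hβ
    have : Fact p.Prime := ⟨hp⟩
    obtain ⟨x, hx⟩ := exists_prime_orderOf_dvd_card' p hpd
    have hx' : orderOf (x : G) = p := by rw [Subgroup.orderOf_coe]; exact hx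
    exact key p (x : G) x.2 hx' (Or.inl hβ)

end Cfsg.Agent.Lib.Helper31
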