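import Cfsg.Agent.Lib.Helper31.BG11Aux
import Cfsg.Agent.S1404

/-!
Rung 12 of the ladder of B-G section 11 / Theorem 12.5: part (e) of Theorem 12.5.
-/

set_option autoImplicit false

namespace Cfsg.Agent.Lib.Helper31

open Subgroup Cfsg.Agent.Lib.Helper30 Cfsg.Agent.Lib.Helper39.BG11

universe u

variable {G : Type u} [Group G] [Finite G] {M A A₀ : Subgroup G} {p : ℕ} [Fact p.Prime]

theorem sE (hG : Cfsg.IsMinSimpleOddOrder G) (h16 : T16 G) (h11 : T11 G) (hC : SC G) : SE G := by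
  intro M p _ A A₀ H h hH hHM hAH
  have res := h11 M p A A₀ h
  by_contra hD
  set D := Cfsg.sigmaCore M ⊓ H with hDdef
  have hMσ := Cfsg.Agent.Lib.Helper28.BG12.sigmaCore_le M
  have hMn := Cfsg.Agent.Lib.Helper28.BG12.le_normalizer_sigmaCore M
  have hAtop : A ≠ ⊤ := fun e => h.max.1 (top_le_iff.1 (e ▸ h.le))
  have hAsol : Group.IsSolvable A := solvable_of_ne_top hG hAtop
  have hAD : A ≤ normalizer (D : Set G) :=
    le_normalizer_inf (h.le.trans hMn) (hAH.trans le_normalizer)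
  have hDle : D ≤ Cfsg.sigmaCore M := inf_le_left
  have hDH : D ≤ H := inf_le_right
  have hcoD := bg11_coprime hG h hDle
  -- the prime q
  have hcard : Nat.card D ≠ 1 := fun e => hD ((Subgroup.eq_bot_iff_card D).2 e)
  obtain ⟨q, hq, hqD⟩ := Nat.exists_prime_and_dvd hcard
  have : Fact q.Prime := ⟨hq⟩
  obtain ⟨Dq, hDq, hADq⟩ := exists_invariant_isSylowIn hAD hcoD (Or.inl hAsol) q
  have hDqne : Dq ≠ ⊥ := bg11_sylow_ne_bot hDq hqD
  obtain ⟨Q, hQ, hDqQ, hAQ⟩ := exists_invariant_isSylowIn_ge (h.le.trans hMn)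
    (bg11_coprime hG h le_rfl) (Or.inl hAsol) q (hDq.le.trans hDle) hDq.isPGroup hADq
  have hqσ : q ∈ Cfsg.sigma M :=
    bg11_mem_sigma_of_le hG h.max hDq.isPGroup hDqne (hDq.le.trans hDle)
  have hqp : q ≠ p := fun e => h.ns (e ▸ hqσ)
  have hqA : ¬ q ∣ Nat.card A := by
    rw [h.card]
    intro hd
    exact hqp ((Nat.prime_dvd_prime_iff_eq hq Fact.out).1 (hq.dvd_of_dvd_pow hd))
  have hQtop := bg11_sylow_top hG h.max hqσ hQ
  have hQmax : Q ∈ Cfsg.maxInvSubgroups ⊤ A {q} :=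
    ⟨mem_invSubgroups_top_iff.2 ⟨hQ.isPGroup, hAQ⟩, fun R hR hle =>
      hQtop.eq_of_le le_top (mem_invSubgroups_top_iff.1 hR).1 hle⟩
  have hHQ : H ⊓ Q ≠ ⊥ := fun e => hDqne (le_bot_iff.1 (e ▸ le_inf (hDq.le.trans hDH) hDqQ))
  -- (e1)
  have e1 : ∀ Y : Subgroup G, Y ≤ H → IsPGroup q Y → A ≤ normalizer (Y : Set G) →
      Y ≤ Cfsg.sigmaCore M := by
    intro Y hYH hYq hAY
    by_cases hY : Y = ⊥
    · rw [hY]; exact bot_le
    obtain ⟨Ys, hYs, hle⟩ := exists_maxInv_ge hYq hAY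
    have hHY : H ⊓ Ys ≠ ⊥ := fun e => hY (le_bot_iff.1 (e ▸ le_inf hYH hle))
    obtain ⟨k, hk, he⟩ := kconj_of_common_overgroup hG res.trans hqA hQmax hYs hH.1 hAH hHQ hHY
    have hkM : k ∈ M := res.cent (transK_le_centralizer A hk)
    refine hle.trans ?_
    rw [he, ← cj_eq_of_mem_normalizer (hMn hkM)]
    exact cj_mono k hQ.le
  -- (e2)
  have e2 : H ⊓ normalizer (A : Set G) ≤ M := by
    intro n hn
    by_contra hnM
    have hnA : cj n A = A := cj_eq_of_mem_normalizer hn.2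
    have h1 : cj n Dq ≤ Cfsg.sigmaCore M := by
      apply e1
      · rw [← cj_eq_of_mem hn.1]; exact cj_mono n (hDq.le.trans hDH)
      · exact isPGroup_cj n hDq.isPGroup
      · rw [normalizer_cj, ← hnA]; exact cj_mono n hADq
    have h2 : cj n Dq ≤ cj n M := cj_mono n ((hDq.le.trans hDle).trans hMσ)
    have h3 := res.ti n hnM (by rw [← hnA]; exact cj_mono n h.le)
    have h4 : cj n Dq = ⊥ := le_bot_iff.1 (h3 ▸ le_inf h1 h2)
    apply hDqne
    rw [Subgroup.eq_bot_iff_card] at h4 ⊢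
    rwa [card_cj] at h4
  have hAne : A ≠ ⊥ := by
    intro e
    have := h.card
    rw [e, Subgroup.card_bot] at this
    exact (Nat.one_lt_pow (by norm_num) (Fact.out : p.Prime).one_lt).ne this
  -- (e3)
  have e3 : p ∉ Cfsg.sigma H := by
    intro hpH
    have := (Cfsg.Agent.S1404.result hG H hH p hpH A (isPGroup_of_elementary h.ea) hAne hAH).2
    apply res.nnorm
    rw [this]
    exact sup_le e2 res.cent
  -- (e4)
  obtain ⟨B₀, hB⟩ := h16 H p A hH e3 hAH h.ea h.card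
  have hJ := hC H p A B₀ hB
  have hHσ := Cfsg.Agent.Lib.Helper28.BG12.sigmaCore_le H
  have hHn := Cfsg.Agent.Lib.Helper28.BG12.le_normalizer_sigmaCore H
  -- (e5)
  have hfix : Dq ⊓ centralizer (A : Set G) = ⊥ := by
    obtain ⟨A₁, _, hA₁, _, _, _, _, hf, _⟩ := res.fpf2
    exact le_bot_iff.1 (hf ▸ inf_le_inf (hDq.le.trans hDle)
      (centralizer_le (SetLike.coe_subset_coe.mpr hA₁)))
  have hcoDq : (Nat.card A).Coprime (Nat.card Dq) := bg11_coprime hG h (hDq.le.trans hDle)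
  have hcomm : ⁅Dq, A⁆ = Dq := by
    have := commutator_sup_centralizer hADq hcoDq (Or.inl hAsol)
    rwa [hfix, sup_bot_eq] at this
  have hDqJ : Dq ≤ Cfsg.sigmaCore H ⊔ A := by
    rw [← hcomm, commutator_comm]
    exact (commutator_mono le_sup_right le_rfl).trans
      (commutator_le_of_le_normalizer ((hDq.le.trans hDH).trans hJ))
  have hDqHσ : Dq ≤ Cfsg.sigmaCore H :=
    bg11_le_of_le_sup (hAH.trans hHn) hDqJ hcoDq.symm
  -- (e6)
  have hqH : q ∈ Cfsg.sigma H := bg11_mem_sigma_of_le hG hH hDq.isPGroup hDqne hDqHσ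
  obtain ⟨QH, hQH, hDqQH, hAQH⟩ := exists_invariant_isSylowIn_ge (hAH.trans hHn)
    (bg11_coprime hG hB le_rfl) (Or.inl hAsol) q hDqHσ hDq.isPGroup hADq
  have hQHD : QH ≤ D := le_inf (e1 QH (hQH.le.trans hHσ) hQH.isPGroup hAQH) (hQH.le.trans hHσ)
  have hQHeq : QH = Dq := hDq.eq_of_le hQHD hQH.isPGroup hDqQH
  rw [hQHeq] at hQH
  have hQeq : Q = Dq := (bg11_sylow_top hG hH hqH hQH).eq_of_le le_top hQ.isPGroup hDqQ
  have hNQ : normalizer (Q : Set G) ≤ H := by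
    rw [hQeq]
    exact Cfsg.Agent.Lib.Helper68.normalizer_le_of_mem_sigma hqH (bg11_sylow_max hG hH hqH hQH)
  -- (e7)
  have hMQ : M ≤ normalizer (Q : Set G) := bg11_le_normalizer_sylow_of_nilpotent res.nil hQ hMn
  rcases h.max.le_iff.1 (hMQ.trans hNQ) with e | e
  · exact hH.1 e
  · exact hHM e

end Cfsg.Agent.Lib.Helper31
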