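import Cfsg.Agent.Lib.Helper31.BG11Aux
import Cfsg.Agent.Lib.Helper54.CoprimeGen

/-!
Rung 4b of the ladder of B-G section 11 / Theorem 12.5: a Sylow `p`-subgroup of `M` containing `A`
centralizes `A`.
-/

set_option autoImplicit false

namespace Cfsg.Agent.Lib.Helper31

open Subgroup Cfsg.Agent.Lib.Helper30 Cfsg.Agent.Lib.Helper39.BG11

universe u

variable {G : Type u} [Group G] [Finite G] {M A A₀ : Subgroup G} {p : ℕ} [Fact p.Prime]

/-- an elementary abelian group of order `p ^ 2` is generated by any two "independent" elements. -/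
theorem bg11_ea_sq_gen (hea : Cfsg.IsElementaryAbelian p A) (hc : Nat.card A = p ^ 2) {z w : G}
    (hz : z ∈ A) (hz1 : z ≠ 1) (hw : w ∈ A) (hwz : w ∉ zpowers z) :
    ∀ y ∈ A, ∃ i j : ℕ, y = z ^ i * w ^ j := by
  have hp : p.Prime := Fact.out
  have hzw : z * w = w * z := Cfsg.Agent.Lib.Helper2.ea_comm hea hz hw
  have hcz : Nat.card (zpowers z) = p := by
    rw [Nat.card_zpowers]; exact orderOf_eq_prime (hea.2 z hz) hz1
  have hBA : zpowers z ⊔ zpowers w ≤ A := sup_le (by rwa [zpowers_le]) (by rwa [zpowers_le])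
  have hB : zpowers z ⊔ zpowers w = A := by
    apply Subgroup.eq_of_le_of_card_ge hBA
    obtain ⟨k, hk, hkc⟩ := (Nat.dvd_prime_pow hp).1 (hc ▸ Subgroup.card_dvd_of_le hBA)
    rw [hc, hkc]
    apply Nat.pow_le_pow_right hp.pos
    by_contra hlt
    have hk1 : k ≤ 1 := by omega
    have hle : Nat.card (zpowers z ⊔ zpowers w : Subgroup G) ≤ Nat.card (zpowers z) := by
      rw [hkc, hcz]
      calc p ^ k ≤ p ^ 1 := Nat.pow_le_pow_right hp.pos hk1
        _ = p := pow_one p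
    have he := Subgroup.eq_of_le_of_card_ge (le_sup_left : zpowers z ≤ zpowers z ⊔ zpowers w) hle
    apply hwz
    rw [he]
    exact le_sup_right (a := zpowers z) (mem_zpowers w)
  have hn : zpowers w ≤ normalizer (zpowers z : Set G) := by
    rw [zpowers_le]
    apply centralizer_le_normalizer' (zpowers z)
    rw [mem_centralizer_iff]
    intro t ht
    obtain ⟨k, rfl⟩ := mem_zpowers_iff.1 ht
    exact ((Commute.zpow_left (show Commute z w from hzw) k)).eq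
  intro y hy
  rw [← hB] at hy
  obtain ⟨k, hk, t, ht, rfl⟩ := (mem_sup_of_le_normalizer hn).1 hy
  obtain ⟨i, rfl⟩ := (mem_powers_iff_mem_zpowers).2 hk
  obtain ⟨j, rfl⟩ := (mem_powers_iff_mem_zpowers).2 ht
  exact ⟨i, j, rfl⟩

omit [Finite G] in
theorem bg11_ea_sq_not_isCyclic (hea : Cfsg.IsElementaryAbelian p A) (hc : Nat.card A = p ^ 2) :
    ¬ IsCyclic A := by
  have hp : p.Prime := Fact.out
  intro hcyc
  obtain ⟨x, hx⟩ := hcyc.exists_ofOrder_eq_natCard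
  have h1 : x ^ p = 1 := Subtype.ext (by simpa using hea.2 x.1 x.2)
  have h2 := orderOf_dvd_of_pow_eq_one h1
  rw [hx, hc] at h2
  have h3 := Nat.le_of_dvd hp.pos h2
  have h4 : p < p ^ 2 := by nlinarith [hp.one_lt]
  omega

omit [Finite G] in
/-- a `p`-element `x` centralizing `z` and mapping `a` into `⟨z⟩⟨a⟩` moves `a` by an element
of `⟨z⟩`. -/
theorem bg11_comm_mem_zpowers {x z a : G} {n : ℕ} (hx : x ^ (p ^ n) = 1) (hxz : x * z = z * x)
    (hza : z * a = a * z) (hap : a ^ p = 1) {i j : ℕ} (h : x * a * x⁻¹ = z ^ i * a ^ j) :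
    x * a * x⁻¹ * a⁻¹ ∈ zpowers z := by
  have hcz : ∀ k : ℕ, x * z ^ k * x⁻¹ = z ^ k := by
    intro k
    have : Commute x (z ^ k) := Commute.pow_right hxz k
    rw [this.eq, mul_inv_cancel_right]
  have key : ∀ m : ℕ, ∃ k : ℕ, x ^ m * a * (x ^ m)⁻¹ = z ^ k * a ^ (j ^ m) := by
    intro m
    induction m with
    | zero => exact ⟨0, by simp⟩
    | succ m ih =>
      obtain ⟨k, hk⟩ := ih
      refine ⟨k + i * j ^ m, ?_⟩
      have h1 : x ^ (m + 1) * a * (x ^ (m + 1))⁻¹ = x * (x ^ m * a * (x ^ m)⁻¹) * x⁻¹ := by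
        rw [pow_succ']; group
      have h2 : x * (z ^ k * a ^ (j ^ m)) * x⁻¹ = (x * z ^ k * x⁻¹) * (x * a * x⁻¹) ^ (j ^ m) := by
        rw [conj_pow]; group
      have h3 : Commute (z ^ i) (a ^ j) := Commute.pow_pow hza i j
      rw [h1, hk, h2, hcz, h, h3.mul_pow, ← pow_mul, ← pow_mul, pow_add, pow_succ', mul_assoc]
  obtain ⟨k, hk⟩ := key (p ^ n)
  rw [hx] at hk
  have hmod : j ^ (p ^ n) ≡ j [MOD p] := by
    rw [← ZMod.natCast_eq_natCast_iff]
    push_cast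
    exact ZMod.pow_card_pow _
  have hpow : a ^ (j ^ (p ^ n)) = a ^ j :=
    pow_eq_pow_iff_modEq.2 (hmod.of_dvd (orderOf_dvd_of_pow_eq_one hap))
  rw [hpow] at hk
  have h5 : a ^ j = (z ^ k)⁻¹ * a := by
    have : a = z ^ k * a ^ j := by simpa using hk
    rw [eq_inv_mul_iff_mul_eq]; exact this.symm
  rw [h, h5]
  have : z ^ i * ((z ^ k)⁻¹ * a) * a⁻¹ = z ^ i * (z ^ k)⁻¹ := by group
  rw [this]
  exact mul_mem (pow_mem (mem_zpowers z) i) (inv_mem (pow_mem (mem_zpowers z) k))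

/-- `Q` has a nontrivial element commuting with `a`. -/
def BG11Fx (Q : Subgroup G) (a : G) : Prop := ∃ y ∈ Q, y ≠ 1 ∧ y * a = a * y

omit [Finite G] in
theorem bg11Fx_iff {Q : Subgroup G} {a : G} : Q ⊓ centralizer {a} ≠ ⊥ ↔ BG11Fx Q a := by
  rw [ne_bot_iff_exists_ne_one]
  constructor
  · rintro ⟨⟨y, hy⟩, hy1⟩
    exact ⟨y, hy.1, fun e => hy1 (Subtype.ext e), mem_centralizer_singleton_iff.1 hy.2⟩
  · rintro ⟨y, hy, hy1, hya⟩
    exact ⟨⟨y, hy, mem_centralizer_singleton_iff.2 hya⟩, fun e => hy1 (congrArg Subtype.val e)⟩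

omit [Finite G] in
theorem BG11Fx.conj {Q : Subgroup G} {a : G} (h : BG11Fx Q a) (x : G) :
    BG11Fx (cj x Q) (x * a * x⁻¹) := by
  obtain ⟨y, hy, hy1, hya⟩ := h
  refine ⟨x * y * x⁻¹, conj_mem_cj hy, fun e => hy1 (by simpa using e), ?_⟩
  have h1 : x * y * x⁻¹ * (x * a * x⁻¹) = x * (y * a) * x⁻¹ := by group
  have h2 : x * a * x⁻¹ * (x * y * x⁻¹) = x * (a * y) * x⁻¹ := by group
  rw [h1, h2, hya]

omit [Finite G] in
theorem BG11Fx.pow {Q : Subgroup G} {a : G} (h : BG11Fx Q a) (k : ℕ) : BG11Fx Q (a ^ k) := by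
  obtain ⟨y, hy, hy1, hya⟩ := h
  exact ⟨y, hy, hy1, (Commute.pow_right (show Commute y a from hya) k).eq⟩

theorem bg11_exists_central (hp1 : A ≠ ⊥) (hA : IsPGroup p A) :
    ∃ z ∈ A, z ≠ 1 ∧ z ^ p = 1 ∧ ∀ y ∈ A, y * z = z * y := by
  have : Nontrivial A := (nontrivial_iff_ne_bot A).2 hp1
  have hnt := hA.center_nontrivial
  have hZ : IsPGroup p (center A) := hA.to_subgroup _
  have hd : p ∣ Nat.card (center A) := by
    rcases hZ.card_eq_or_dvd with h | h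
    · exact absurd ((Subgroup.eq_bot_iff_card _).2 h) ((nontrivial_iff_ne_bot _).1 hnt)
    · exact h
  obtain ⟨x, hx⟩ := exists_prime_orderOf_dvd_card' p hd
  refine ⟨((x : A) : G), (x : A).2, ?_, ?_, ?_⟩
  · intro e
    have : x = 1 := Subtype.ext (Subtype.ext e)
    rw [this, orderOf_one] at hx
    exact (Fact.out : p.Prime).one_lt.ne hx
  · have h1 : x ^ p = 1 := by rw [← hx]; exact pow_orderOf_eq_one x
    have h2 := congrArg (fun t : center A => ((t : A) : G)) h1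
    simpa using h2
  · intro y hy
    have := mem_center_iff.1 x.2 ⟨y, hy⟩
    exact congrArg Subtype.val this

theorem le_centralizer_of_sylow (hG : Cfsg.IsMinSimpleOddOrder G) (h : Hyp M p A A₀)
    (h1 : NoCommon M A) (hne : Cfsg.sigmaCore M ≠ ⊥)
    (hom : ∀ x ∈ centralizer (A : Set G), x ^ p = 1 ↔ x ∈ A) {P : Subgroup G}
    (hP : IsSylowIn p P M) (hAP : A ≤ P) : P ≤ centralizer (A : Set G) := by
  have hp : p.Prime := Fact.out
  by_contra hcon
  have hMn := Cfsg.Agent.Lib.Helper28.BG12.le_normalizer_sigmaCore M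
  have hAne : A ≠ ⊥ := by
    intro e
    have := h.card
    rw [e, Subgroup.card_bot] at this
    exact (Nat.one_lt_pow (by norm_num) hp.one_lt).ne this
  have hPne : P ≠ ⊥ := fun e => hAne (le_bot_iff.1 (e ▸ hAP))
  -- the element `g`
  have hNP : ¬ normalizer (P : Set G) ≤ M := fun hle =>
    h.ns (Cfsg.Agent.Lib.Helper68.mem_sigma_of_normalizer_le hP hPne hle)
  obtain ⟨g, hgP, hgM⟩ := SetLike.not_le_iff_exists.1 hNP
  have hgPe : cj g P = P := cj_eq_of_mem_normalizer hgP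
  have hAg : A ≤ cj g M := hAP.trans (hgPe.symm.le.trans (cj_mono g hP.le))
  -- `q`, `Q₁`, `Q₂`
  have hcard : Nat.card (Cfsg.sigmaCore M) ≠ 1 := fun e => hne ((Subgroup.eq_bot_iff_card _).2 e)
  obtain ⟨q, hq, hqd⟩ := Nat.exists_prime_and_dvd hcard
  have : Fact q.Prime := ⟨hq⟩
  have hPtop : P ≠ ⊤ := fun e => h.max.1 (top_le_iff.1 (e ▸ hP.le))
  have hPsol := solvable_of_ne_top hG hPtop
  obtain ⟨Q₁, hQ₁, hPQ₁⟩ := exists_invariant_isSylowIn (hP.le.trans hMn)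
    (bg11_coprime_of_isPGroup hG h.max h.ns hP.isPGroup le_rfl) (Or.inl hPsol) q
  have hQ₁ne := bg11_sylow_ne_bot hQ₁ hqd
  obtain ⟨Q₂, hQ₂def⟩ : ∃ Q₂, Q₂ = cj g Q₁ := ⟨_, rfl⟩
  have hQ₂ : IsSylowIn q Q₂ (cj g (Cfsg.sigmaCore M)) := hQ₂def ▸ hQ₁.cj g
  have hPQ₂ : P ≤ normalizer (Q₂ : Set G) := by
    rw [hQ₂def, normalizer_cj]
    exact hgPe.symm.le.trans (cj_mono g hPQ₁)
  have hcQ : Nat.card Q₂ = Nat.card Q₁ := by rw [hQ₂def, card_cj]
  have hQ₂ne : Q₂ ≠ ⊥ := by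
    intro e
    apply hQ₁ne
    rw [Subgroup.eq_bot_iff_card] at e ⊢
    rw [← hcQ]; exact e
  have hco₁ : (Nat.card A).Coprime (Nat.card Q₁) := bg11_coprime hG h hQ₁.le
  have hco₂ : (Nat.card A).Coprime (Nat.card Q₂) := hcQ ▸ hco₁
  -- (i)
  have hi : ∀ a ∈ A, a ≠ 1 → BG11Fx Q₁ a → BG11Fx Q₂ a → False := by
    intro a ha ha1 hf1 hf2
    refine h1 g hgM hAg q Q₁ Q₂ (centralizer {a}) hQ₁ hQ₂ (hAP.trans hPQ₁) (hAP.trans hPQ₂)
      (centralizer_singleton_ne_top hG ha1) ?_ ?_ ?_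
    · intro b hb
      exact mem_centralizer_singleton_iff.2 (Cfsg.Agent.Lib.Helper2.ea_comm h.ea hb ha)
    · rw [inf_comm]; exact bg11Fx_iff.2 hf1
    · rw [inf_comm]; exact bg11Fx_iff.2 hf2
  -- (ii)
  have hii : ∀ Q : Subgroup G, Q ≠ ⊥ → A ≤ normalizer (Q : Set G) →
      (Nat.card A).Coprime (Nat.card Q) → ∃ a ∈ A, a ≠ 1 ∧ BG11Fx Q a := by
    intro Q hQne hAQ hco
    by_contra hno
    push Not at hno
    have := h.ea.1
    have hs := Cfsg.Agent.Lib.Helper54.iSup_inf_centralizer_eq_of_not_isCyclic A Q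
      (bg11_ea_sq_not_isCyclic h.ea h.card) hAQ hco
    apply hQne
    rw [← hs]
    simp only [iSup_eq_bot]
    intro a ha
    by_contra hh
    exact hno a ha.1 ha.2 (bg11Fx_iff.1 hh)
  -- (iii)
  obtain ⟨z, hzP, hz1, hzp, hzc⟩ := bg11_exists_central hPne hP.isPGroup
  have hzA : z ∈ A := (hom z (mem_centralizer_iff.2 fun a ha => hzc a (hAP ha))).1 hzp
  have hoz : orderOf z = p := orderOf_eq_prime hzp hz1
  have hcen : ∀ w ∈ P, w ^ p = 1 → (∀ y ∈ P, y * w = w * y) → w ∈ zpowers z := by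
    intro w hwP hwp hwc
    by_contra hwz
    have hwA : w ∈ A := (hom w (mem_centralizer_iff.2 fun a ha => hwc a (hAP ha))).1 hwp
    apply hcon
    intro y hy
    rw [mem_centralizer_iff]
    intro a ha
    obtain ⟨i, j, rfl⟩ := bg11_ea_sq_gen h.ea h.card hzA hz1 hwA hwz a ha
    have c1 : Commute y (z ^ i) := Commute.pow_right (hzc y hy) i
    have c2 : Commute y (w ^ j) := Commute.pow_right (hwc y hy) j
    exact (c1.mul_right c2).eq.symm
  have hconj : ∀ e ∈ normalizer (P : Set G), ∃ k : ℕ, e * z * e⁻¹ = z ^ k := by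
    intro e he
    have hmem : e * z * e⁻¹ ∈ zpowers z := by
      apply hcen
      · exact (mem_normalizer_iff.1 he z).1 hzP
      · rw [conj_pow, hzp]; simp
      · intro y hy
        have hy' : e⁻¹ * y * e⁻¹⁻¹ ∈ P := (mem_normalizer_iff.1 (inv_mem he) y).1 hy
        have hc := hzc _ hy'
        have e1 : y * (e * z * e⁻¹) = e * (e⁻¹ * y * e⁻¹⁻¹ * z) * e⁻¹ := by group
        have e2 : e * z * e⁻¹ * y = e * (z * (e⁻¹ * y * e⁻¹⁻¹)) * e⁻¹ := by group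
        rw [e1, e2, hc]
    obtain ⟨k, hk⟩ := (mem_powers_iff_mem_zpowers).2 hmem
    exact ⟨k, hk.symm⟩
  have hconj1 : ∀ e : G, e * z * e⁻¹ ≠ 1 := fun e he => hz1 (by simpa using he)
  have hz₁ : ¬ BG11Fx Q₁ z := by
    intro hf
    obtain ⟨k, hk⟩ := hconj g hgP
    have h2 : BG11Fx Q₂ (z ^ k) := by rw [← hk, hQ₂def]; exact hf.conj g
    exact hi (z ^ k) (pow_mem hzA k) (hk ▸ hconj1 g) (hf.pow k) h2
  have hz₂ : ¬ BG11Fx Q₂ z := by
    intro hf
    obtain ⟨k, hk⟩ := hconj g⁻¹ (inv_mem hgP)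
    have h2 : BG11Fx Q₁ (z ^ k) := by
      have := hf.conj g⁻¹
      rwa [hQ₂def, cj_inv_cj, hk] at this
    exact hi (z ^ k) (pow_mem hzA k) (hk ▸ hconj1 g⁻¹) h2 (hf.pow k)
  have hnz : ∀ Q : Subgroup G, ¬ BG11Fx Q z → ∀ b ∈ zpowers z, b ≠ 1 → ¬ BG11Fx Q b := by
    intro Q hQz b hb hb1 hf
    obtain ⟨k, rfl⟩ := (mem_powers_iff_mem_zpowers).2 hb
    have hco : k.Coprime (orderOf z) := by
      rw [hoz, Nat.coprime_comm, Nat.Prime.coprime_iff_not_dvd hp]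
      intro hd
      apply hb1
      change z ^ k = 1
      rw [← hoz] at hd
      exact orderOf_dvd_iff_pow_eq_one.1 hd
    obtain ⟨m, hm⟩ := exists_pow_eq_self_of_coprime hco
    apply hQz
    have := hf.pow m
    change BG11Fx Q ((z ^ k) ^ m) at this
    rwa [hm] at this
  obtain ⟨a, haA, ha1, haF⟩ := hii Q₁ hQ₁ne (hAP.trans hPQ₁) hco₁
  obtain ⟨a₂, ha₂A, ha₂1, ha₂F⟩ := hii Q₂ hQ₂ne (hAP.trans hPQ₂) hco₂
  have haz : a ∉ zpowers z := fun hm => hnz Q₁ hz₁ a hm ha1 haF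
  have ha₂z : a₂ ∉ zpowers z := fun hm => hnz Q₂ hz₂ a₂ hm ha₂1 ha₂F
  -- (iv)
  have hlt : P ⊓ centralizer (A : Set G) < P :=
    lt_of_le_of_ne inf_le_left (fun e => hcon (inf_eq_left.1 e))
  obtain ⟨x, hxP, hxN, hxC⟩ := exists_mem_normalizer_not_mem hP.isPGroup hlt
  have hxA : ∀ b ∈ A, x * b * x⁻¹ ∈ A := by
    intro b hb
    have hbC : b ∈ P ⊓ centralizer (A : Set G) :=
      ⟨hAP hb, Cfsg.Agent.Lib.Helper2.ea_le_centralizer h.ea le_rfl hb⟩
    have h2 := (mem_normalizer_iff.1 hxN b).1 hbC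
    exact (hom _ h2.2).1 (by rw [conj_pow, h.ea.2 b hb]; simp)
  have hxz : x * z = z * x := hzc x hxP
  obtain ⟨n, hn⟩ := hP.isPGroup ⟨x, hxP⟩
  have hxn : x ^ (p ^ n) = 1 := by simpa using congrArg Subtype.val hn
  obtain ⟨i, j, hij⟩ := bg11_ea_sq_gen h.ea h.card hzA hz1 haA haz _ (hxA a haA)
  have hza : z * a = a * z := Cfsg.Agent.Lib.Helper2.ea_comm h.ea hzA haA
  obtain ⟨c, hcdef⟩ : ∃ c, c = x * a * x⁻¹ * a⁻¹ := ⟨_, rfl⟩
  have hcz : c ∈ zpowers z := hcdef ▸ bg11_comm_mem_zpowers hxn hxz hza (h.ea.2 a haA) hij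
  have hcA : c ∈ A := (zpowers_le.2 hzA) hcz
  have hxa : x * a * x⁻¹ = c * a := by rw [hcdef]; group
  have hc1 : c ≠ 1 := by
    intro e
    apply hxC
    refine mem_inf.2 ⟨hxP, ?_⟩
    rw [mem_centralizer_iff]
    intro b hb
    obtain ⟨i', j', rfl⟩ := bg11_ea_sq_gen h.ea h.card hzA hz1 haA haz b hb
    have hxa' : x * a = a * x := by
      rw [e, one_mul] at hxa
      exact mul_inv_eq_iff_eq_mul.1 hxa
    have c1 : Commute x (z ^ i') := Commute.pow_right hxz i'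
    have c2 : Commute x (a ^ j') := Commute.pow_right hxa' j'
    exact (c1.mul_right c2).eq.symm
  have hxc : Commute x c := by
    obtain ⟨k, rfl⟩ := (mem_powers_iff_mem_zpowers).2 hcz
    exact Commute.pow_right hxz k
  have hca : Commute c a := Cfsg.Agent.Lib.Helper2.ea_comm h.ea hcA haA
  have hform : ∀ m : ℕ, x ^ m * a * (x ^ m)⁻¹ = a * c ^ m := by
    intro m
    induction m with
    | zero => simp
    | succ m ih =>
      have e1 : x ^ (m + 1) * a * (x ^ (m + 1))⁻¹ = x * (x ^ m * a * (x ^ m)⁻¹) * x⁻¹ := by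
        rw [pow_succ']; group
      have e2 : x * (a * c ^ m) * x⁻¹ = (x * a * x⁻¹) * (x * c ^ m * x⁻¹) := by group
      have e3 : x * c ^ m * x⁻¹ = c ^ m := by
        rw [(hxc.pow_right m).eq, mul_inv_cancel_right]
      rw [e1, ih, e2, e3, hxa, hca.eq, mul_assoc, ← pow_succ']
  have ha₂c : a₂ ∉ zpowers c := fun hm => ha₂z ((zpowers_le.2 hcz) hm)
  obtain ⟨u, v, huv⟩ := bg11_ea_sq_gen h.ea h.card hcA hc1 ha₂A ha₂c a haA
  have hcp : c ^ p = 1 := h.ea.2 c hcA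
  have hfin : x ^ (u * (p - 1)) * a * (x ^ (u * (p - 1)))⁻¹ = a₂ ^ v := by
    rw [hform]
    have hcc : Commute (a₂ ^ v) (c ^ (u * (p - 1))) :=
      Commute.pow_pow (Cfsg.Agent.Lib.Helper2.ea_comm h.ea ha₂A hcA) _ _
    have hpow : c ^ u * c ^ (u * (p - 1)) = 1 := by
      rw [← pow_add]
      have : u + u * (p - 1) = p * u := by
        obtain ⟨p', rfl⟩ : ∃ p', p = p' + 1 := ⟨p - 1, by have := hp.pos; omega⟩
        simp; ring
      rw [this, pow_mul, hcp, one_pow]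
    conv_lhs => rw [huv]
    rw [mul_assoc, hcc.eq, ← mul_assoc, hpow, one_mul]
  have hxm : x ^ (u * (p - 1)) ∈ P := pow_mem hxP _
  have hF1 : BG11Fx Q₁ (a₂ ^ v) := by
    have := haF.conj (x ^ (u * (p - 1)))
    rwa [cj_eq_of_mem_normalizer (hPQ₁ hxm), hfin] at this
  have hne1 : a₂ ^ v ≠ 1 := by
    rw [← hfin]
    intro e
    exact ha1 (by simpa using e)
  exact hi (a₂ ^ v) (pow_mem ha₂A v) hne1 hF1 (ha₂F.pow v)

end Cfsg.Agent.Lib.Helper31
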