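import Cfsg.Prelude.Def_LieExceptional
import Cfsg.Agent.Lib.Helper31.Nilpotent

set_option autoImplicit false

namespace Cfsg.Agent.Lib.Helper31

variable {G : Type*} [Group G]

theorem orderOf_of_mem_pgroup {q : ℕ} [Fact q.Prime] {K : Subgroup G} (hK : IsPGroup q K) {x : G}
    (hx : x ∈ K) : ∃ k : ℕ, orderOf x = q ^ k := by
  obtain ⟨k, hk⟩ := (IsPGroup.iff_orderOf.mp hK) ⟨x, hx⟩
  exact ⟨k, by rwa [Subgroup.orderOf_mk] at hk⟩

/-- In a CN-group a maximal nilpotent subgroup is the centralizer of each of its nontrivial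
central elements. -/
theorem centralizer_eq_of_central (hCN : Cfsg.IsCNGroup G) (H : Subgroup G)
    (hmax : ∀ L : Subgroup G, Group.IsNilpotent L → H ≤ L → L = H) (z : G) (hz1 : z ≠ 1)
    (hz : ∀ h ∈ H, h * z = z * h) : Subgroup.centralizer ({z} : Set G) = H :=
  hmax _ (hCN z hz1) (fun h hh => Subgroup.mem_centralizer_singleton_iff.mpr (hz h hh))

/-- A finite nilpotent subgroup has a nontrivial central `r`-element for each prime divisor `r`. -/
theorem exists_central_prime_elt [Finite G] (H : Subgroup G) (hH : Group.IsNilpotent H) (r : ℕ)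
    [Fact r.Prime] (hr : r ∣ Nat.card H) :
    ∃ z ∈ H, z ≠ 1 ∧ (∃ k : ℕ, orderOf z = r ^ k) ∧ ∀ h ∈ H, h * z = z * h := by
  obtain ⟨P⟩ : Nonempty (Sylow r H) := inferInstance
  have hP : (P : Subgroup H) ≠ ⊥ := P.ne_bot_of_dvd_card hr
  obtain ⟨z, hzP, hzc, hz1⟩ := exists_mem_center_of_normal_of_nilpotent (P : Subgroup H) hP
  refine ⟨z, z.2, fun h => hz1 (Subtype.ext h), ?_, ?_⟩
  · obtain ⟨k, hk⟩ := orderOf_of_mem_pgroup P.isPGroup' hzP
    exact ⟨k, by rwa [Subgroup.orderOf_coe]⟩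
  · intro h hh
    exact congrArg Subtype.val (Subgroup.mem_center_iff.mp hzc ⟨h, hh⟩)

/-- Elements of a nilpotent subgroup with coprime orders commute. -/
theorem commute_of_mem_nilpotent (C : Subgroup G) (hC : Group.IsNilpotent C) {a b : G} (ha : a ∈ C)
    (hb : b ∈ C) (hab : (orderOf a).Coprime (orderOf b)) : a * b = b * a := by
  have := commute_of_coprime_orderOf C ⟨a, ha⟩ ⟨b, hb⟩
    (by rwa [Subgroup.orderOf_mk, Subgroup.orderOf_mk])
  exact congrArg Subtype.val this

theorem mem_of_coprime [Finite G] (hCN : Cfsg.IsCNGroup G) (H : Subgroup G)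
    (hH : Group.IsNilpotent H) (hmax : ∀ L : Subgroup G, Group.IsNilpotent L → H ≤ L → L = H)
    {x : G} (hx : x ∈ H) (hx1 : x ≠ 1) {c : G} (hc : c * x = x * c) (r : ℕ) [Fact r.Prime]
    (hr : r ∣ Nat.card H) (hcr : (orderOf c).Coprime r) : c ∈ H := by
  obtain ⟨z, hzH, hz1, ⟨k, hk⟩, hzc⟩ := exists_central_prime_elt H hH r hr
  have h1 : c * z = z * c :=
    commute_of_mem_nilpotent _ (hCN x hx1) (Subgroup.mem_centralizer_singleton_iff.mpr hc)
      (Subgroup.mem_centralizer_singleton_iff.mpr (hzc x hx).symm)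
      (by rw [hk]; exact Nat.Coprime.pow_right k hcr)
  rw [← centralizer_eq_of_central hCN H hmax z hz1 hzc]
  exact Subgroup.mem_centralizer_singleton_iff.mpr h1

/-- If two distinct primes divide the order of a maximal nilpotent subgroup `H` of a CN-group, then
`H` contains the centralizer of each of its nontrivial elements. -/
theorem centralizer_le_of_two_primes [Finite G] (hCN : Cfsg.IsCNGroup G) (H : Subgroup G)
    (hH : Group.IsNilpotent H) (hmax : ∀ L : Subgroup G, Group.IsNilpotent L → H ≤ L → L = H)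
    (q r : ℕ) [Fact q.Prime] [Fact r.Prime] (hqr : q ≠ r) (hq : q ∣ Nat.card H)
    (hr : r ∣ Nat.card H) {x : G} (hx : x ∈ H) (hx1 : x ≠ 1) :
    Subgroup.centralizer ({x} : Set G) ≤ H := by
  intro c hc
  obtain ⟨a, ha, b, hb, hab, ⟨k, hk⟩, hbq⟩ := exists_prime_decomp q c (isOfFinOrder_of_finite c)
  have hz : Subgroup.zpowers c ≤ Subgroup.centralizer ({x} : Set G) := by
    rw [Subgroup.zpowers_le]; exact hc
  have ha' := (Subgroup.mem_centralizer_singleton_iff.mp (hz ha))
  have hb' := (Subgroup.mem_centralizer_singleton_iff.mp (hz hb))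
  rw [hab]
  refine H.mul_mem (mem_of_coprime hCN H hH hmax hx hx1 ha' r hr ?_)
    (mem_of_coprime hCN H hH hmax hx hx1 hb' q hq hbq)
  rw [hk]
  exact Nat.Coprime.pow_left k ((Nat.coprime_primes Fact.out Fact.out).mpr hqr)

/-- A maximal nilpotent subgroup `H` of a finite CN-group contains a Sylow `q`-subgroup `Q` of `G`
for every prime divisor `q` of its order, and `H` is the centralizer of every nontrivial element of
the centre of `Q`. -/
theorem exists_sylow_le [Finite G] (hCN : Cfsg.IsCNGroup G) (H : Subgroup G)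
    (hH : Group.IsNilpotent H) (hmax : ∀ L : Subgroup G, Group.IsNilpotent L → H ≤ L → L = H)
    (q : ℕ) [Fact q.Prime] (hq : q ∣ Nat.card H) :
    ∃ Q : Sylow q G, (Q : Subgroup G) ≤ H ∧ (Q : Subgroup G) ≠ ⊥ ∧
      ∀ w ∈ (Q : Subgroup G), w ≠ 1 → (∀ u ∈ (Q : Subgroup G), u * w = w * u) →
        Subgroup.centralizer ({w} : Set G) = H := by
  obtain ⟨P⟩ : Nonempty (Sylow q H) := inferInstance
  have hP' : IsPGroup q ((P : Subgroup H).map H.subtype) := P.isPGroup'.map _
  obtain ⟨Q, hQ⟩ := hP'.exists_le_sylow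
  have hqel : ∀ a ∈ H, (∃ k : ℕ, orderOf a = q ^ k) → a ∈ (Q : Subgroup G) := by
    intro a ha hk
    apply hQ
    refine Subgroup.mem_map.mpr ⟨⟨a, ha⟩, ?_, rfl⟩
    apply mem_sylow_of_normal P
    rwa [Subgroup.orderOf_mk]
  obtain ⟨z, hzH, hz1, hzk, hzc⟩ := exists_central_prime_elt H hH q hq
  have hzQ : z ∈ (Q : Subgroup G) := hqel z hzH hzk
  have hCz := centralizer_eq_of_central hCN H hmax z hz1 hzc
  have key : ∀ w ∈ (Q : Subgroup G), w ≠ 1 → (∀ u ∈ (Q : Subgroup G), u * w = w * u) →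
      Subgroup.centralizer ({w} : Set G) = H := by
    intro w hwQ hw1 hwc
    have hwH : w ∈ H := by
      rw [← hCz]
      exact Subgroup.mem_centralizer_singleton_iff.mpr (hwc z hzQ).symm
    apply centralizer_eq_of_central hCN H hmax w hw1
    intro h hh
    obtain ⟨a, ha, b, hb, hab, hak, hbq⟩ := exists_prime_decomp q h (isOfFinOrder_of_finite h)
    have hz : Subgroup.zpowers h ≤ H := by
      rw [Subgroup.zpowers_le]; exact hh
    have h1 : a * w = w * a := hwc a (hqel a (hz ha) hak)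
    obtain ⟨k, hk⟩ := orderOf_of_mem_pgroup Q.isPGroup' hwQ
    have h2 : b * w = w * b := commute_of_mem_nilpotent H hH (hz hb) hwH
      (by rw [hk]; exact Nat.Coprime.pow_right k hbq)
    rw [hab, mul_assoc, h2, ← mul_assoc, h1, mul_assoc]
  have hQ1 : (Q : Subgroup G) ≠ ⊥ := by
    intro h
    rw [h, Subgroup.mem_bot] at hzQ
    exact hz1 hzQ
  refine ⟨Q, ?_, hQ1, key⟩
  have : Nontrivial (Q : Subgroup G) := (Subgroup.nontrivial_iff_ne_bot _).mpr hQ1
  have hcen := Q.isPGroup'.center_nontrivial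
  obtain ⟨w, hw⟩ := exists_ne (1 : Subgroup.center (Q : Subgroup G))
  have hw1 : ((w : (Q : Subgroup G)) : G) ≠ 1 := by
    intro h
    apply hw
    apply Subtype.ext
    apply Subtype.ext
    exact h
  have hwc : ∀ u ∈ (Q : Subgroup G), u * ((w : (Q : Subgroup G)) : G) = ((w : (Q : Subgroup G)) : G) * u := by
    intro u hu
    exact congrArg Subtype.val (Subgroup.mem_center_iff.mp w.2 ⟨u, hu⟩)
  rw [← key _ (w : (Q : Subgroup G)).2 hw1 hwc]
  intro u hu
  exact Subgroup.mem_centralizer_singleton_iff.mpr (hwc u hu)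

/-- Every nilpotent subgroup of a finite group lies in a maximal nilpotent subgroup. -/
theorem exists_max_nilpotent [Finite G] (K : Subgroup G) (hK : Group.IsNilpotent K) :
    ∃ H : Subgroup G, K ≤ H ∧ Group.IsNilpotent H ∧
      ∀ L : Subgroup G, Group.IsNilpotent L → H ≤ L → L = H := by
  obtain ⟨H, hKH, hH⟩ := Set.Finite.exists_le_maximal
    (s := {L : Subgroup G | Group.IsNilpotent L}) (Set.toFinite _) hK
  exact ⟨H, hKH, hH.1, fun L hL hHL => le_antisymm (hH.2 hL hHL) hHL⟩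

end Cfsg.Agent.Lib.Helper31
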