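import Cfsg.Prelude
import Cfsg.Agent.Lib.Helper31.CN
import Cfsg.Agent.Lib.Helper31.Nilpotent
import Cfsg.Agent.Lib.Helper30.SZ
import Cfsg.Agent.Lib.Helper53.Large
import Cfsg.Agent.Lib.Helper1.Cores
import Cfsg.Agent.Lib.Helper1.Hall
import Cfsg.Agent.Lib.Helper1.Tools

set_option autoImplicit false

namespace Cfsg.Agent.Lib.Helper31

open Cfsg.Agent.Lib.Helper30

theorem nilpotent_of_le {G : Type*} [Group G] {K L : Subgroup G} (h : K ≤ L)
    (hL : Group.IsNilpotent L) : Group.IsNilpotent K :=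
  Group.nilpotent_of_mulEquiv (Subgroup.subgroupOfEquivOfLe h)

theorem nilpotent_map {G G' : Type*} [Group G] [Group G'] (f : G →* G') {L : Subgroup G}
    (hL : Group.IsNilpotent L) : Group.IsNilpotent (L.map f) :=
  Group.nilpotent_of_surjective (f.subgroupMap L) (MonoidHom.subgroupMap_surjective f _)

theorem isCNGroup_of_equiv {G G' : Type*} [Group G] [Group G'] (e : G ≃* G')
    (h : Cfsg.IsCNGroup G) : Cfsg.IsCNGroup G' := by
  intro g' hg'
  have hg : e.symm g' ≠ 1 := by
    intro h1
    apply hg'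
    have := congrArg e h1
    simpa using this
  have h1 := h _ hg
  have h2 : Subgroup.centralizer ({g'} : Set G')
      ≤ (Subgroup.centralizer ({e.symm g'} : Set G)).map e.toMonoidHom := by
    intro c hc
    rw [Subgroup.mem_centralizer_singleton_iff] at hc
    refine ⟨e.symm c, ?_, by simp⟩
    rw [SetLike.mem_coe, Subgroup.mem_centralizer_singleton_iff, ← map_mul, ← map_mul, hc]
  exact nilpotent_of_le h2 (nilpotent_map _ h1)

/-- coprime fixed point in a coset: `x` of order prime to `|H|`, `[c,x] ∈ H`; then some element of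
`H c` commutes with `x`. -/
theorem exists_commute_of_coset {G : Type*} [Group G] [Finite G] (H : Subgroup G) [hH : H.Normal]
    (x c : G) (hcop : (Nat.card H).Coprime (orderOf x)) (hc : c * x * c⁻¹ * x⁻¹ ∈ H) :
    ∃ n ∈ H, (n * c) * x = x * (n * c) := by
  set A := Subgroup.zpowers x with hA
  have hcardA : Nat.card A = orderOf x := Nat.card_zpowers x
  have hxA : x ∈ A := Subgroup.mem_zpowers x
  have hK : cj c A ≤ H ⊔ A := by
    rw [cj, hA, MonoidHom.map_zpowers, Subgroup.zpowers_le]
    have e : (MulAut.conj c).toMonoidHom x = (c * x * c⁻¹ * x⁻¹) * x := by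
      simp [MulAut.conj_apply]
    rw [e]
    exact Subgroup.mul_mem _ (Subgroup.mem_sup_left hc) (Subgroup.mem_sup_right hxA)
  have hsol : Group.IsSolvable A := by
    have : IsCyclic A := by rw [hA]; infer_instance
    have := IsCyclic.commGroup (α := A)
    infer_instance
  obtain ⟨n, hn, hn2⟩ := sz_conj_normal H A (cj c A) (Or.inr hsol) (hcardA ▸ hcop) hK (card_cj c A)
  have h1 : c * x * c⁻¹ ∈ cj n A := hn2 ▸ conj_mem_cj hxA
  rw [mem_cj] at h1
  have h2 : n⁻¹ * (c * x * c⁻¹) * n * x⁻¹ ∈ A := A.mul_mem h1 (A.inv_mem hxA)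
  have h3 : n⁻¹ * (c * x * c⁻¹) * n * x⁻¹ ∈ H := by
    have e : n⁻¹ * (c * x * c⁻¹) * n * x⁻¹ = n⁻¹ * (c * x * c⁻¹ * x⁻¹) * (x * n * x⁻¹) := by group
    rw [e]
    exact H.mul_mem (H.mul_mem (H.inv_mem hn) hc) (hH.conj_mem n hn x)
  have h4 : H ⊓ A = ⊥ := (Subgroup.disjoint_of_coprime_natCard (hcardA ▸ hcop)).eq_bot
  have h5 : n⁻¹ * (c * x * c⁻¹) * n * x⁻¹ ∈ H ⊓ A := ⟨h3, h2⟩
  rw [h4, Subgroup.mem_bot] at h5
  refine ⟨n⁻¹, H.inv_mem hn, ?_⟩
  calc n⁻¹ * c * x = (n⁻¹ * (c * x * c⁻¹) * n * x⁻¹) * (x * (n⁻¹ * c)) := by group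
    _ = x * (n⁻¹ * c) := by rw [h5, one_mul]

theorem coprime_pow_of_ne {p r : ℕ} (hp : p.Prime) (hr : r.Prime) (h : r ≠ p) (m j : ℕ) :
    (p ^ m).Coprime (r ^ j) :=
  Nat.Coprime.pow _ _ ((Nat.coprime_primes hp hr).2 (Ne.symm h))

/-- quotient of a CN-group by a nontrivial abelian normal `p`-subgroup: centralizers of elements of
prime order. -/
theorem cn_quotient_aux {G : Type*} [Group G] [Finite G] (hCN : Cfsg.IsCNGroup G)
    (H : Subgroup G) [hH : H.Normal] (p : ℕ) [hp : Fact p.Prime] (hpH : IsPGroup p H)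
    (hab : ∀ a ∈ H, ∀ b ∈ H, a * b = b * a) (hne : H ≠ ⊥) (x : G) (r : ℕ) (hr : r.Prime)
    (hx : orderOf (QuotientGroup.mk' H x) = r) :
    Group.IsNilpotent (Subgroup.centralizer ({QuotientGroup.mk' H x} : Set (G ⧸ H))) := by
  have := Fact.mk hr
  obtain ⟨m, hm⟩ := IsPGroup.iff_card.1 hpH
  have hx1 : QuotientGroup.mk' H x ≠ 1 := by
    intro h
    rw [h, orderOf_one] at hx
    exact hr.one_lt.ne hx
  by_cases hrp : r = p
  · -- the case `r = p`
    subst hrp
    set C := (Subgroup.centralizer ({QuotientGroup.mk' H x} : Set (G ⧸ H))).comap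
      (QuotientGroup.mk' H) with hC
    have hordH : ∀ h ∈ H, ∃ k : ℕ, orderOf h = r ^ k := fun h hh => orderOf_of_mem_pgroup hpH hh
    have hA : ∀ g ∈ C, (orderOf g).Coprime r → ∀ h ∈ H, g * h = h * g := by
      intro g hg hgr
      have hg1 : x * g * x⁻¹ * g⁻¹ ∈ H := by
        rw [hC, Subgroup.mem_comap, Subgroup.mem_centralizer_singleton_iff] at hg
        rw [← QuotientGroup.eq_one_iff, ← QuotientGroup.mk'_apply]
        simp only [map_mul, map_inv]
        rw [← hg]; group
      obtain ⟨n, hn, hy⟩ := exists_commute_of_coset H g x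
        (by rw [hm]; exact (Nat.Coprime.pow_left m hgr.symm)) hg1
      set y := n * x with hydef
      have hπy : QuotientGroup.mk' H y = QuotientGroup.mk' H x := by
        rw [hydef, map_mul]
        have : QuotientGroup.mk' H n = 1 := by
          rw [QuotientGroup.mk'_apply, QuotientGroup.eq_one_iff]; exact hn
        rw [this, one_mul]
      have hy1 : y ≠ 1 := by
        intro h
        rw [h, map_one] at hπy
        exact hx1 hπy.symm
      have hyp : y ^ r ∈ H := by
        rw [← QuotientGroup.eq_one_iff, ← QuotientGroup.mk'_apply, map_pow, hπy, ← hx,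
          pow_orderOf_eq_one]
      have hyP : IsPGroup r (Subgroup.zpowers y) := by
        obtain ⟨k, hk⟩ := hordH _ hyp
        have h1 : y ^ (r ^ (k + 1)) = 1 := by
          rw [pow_succ', pow_mul, ← hk, pow_orderOf_eq_one]
        obtain ⟨j, -, hj⟩ := (Nat.dvd_prime_pow hr).1 (orderOf_dvd_of_pow_eq_one h1)
        exact IsPGroup.of_card (n := j) (by rw [Nat.card_zpowers, hj])
      have h2 := Cfsg.Agent.Lib.Helper53.inf_centralizer_ne_bot hyP hpH hne
        (by rw [Subgroup.normalizer_eq_top]; exact le_top)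
      obtain ⟨⟨h₀, hh₀⟩, hh₀1'⟩ := Subgroup.ne_bot_iff_exists_ne_one.1 h2
      have hh₀1 : h₀ ≠ 1 := fun h => hh₀1' (Subtype.ext h)
      obtain ⟨hh₀H, hh₀c⟩ := hh₀
      have hcomm : h₀ * y = y * h₀ :=
        ((Subgroup.mem_centralizer_iff.1 hh₀c) y (Subgroup.mem_zpowers y)).symm
      obtain ⟨k₀, hk₀⟩ := hordH h₀ hh₀H
      have h3 : g * h₀ = h₀ * g := by
        apply commute_of_mem_nilpotent _ (hCN y hy1)
        · rw [Subgroup.mem_centralizer_singleton_iff]; exact hy.symm
        · rw [Subgroup.mem_centralizer_singleton_iff]; exact hcomm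
        · rw [hk₀]; exact Nat.Coprime.pow_right _ hgr
      intro h hh
      obtain ⟨k, hk⟩ := hordH h hh
      apply commute_of_mem_nilpotent _ (hCN h₀ hh₀1)
      · rw [Subgroup.mem_centralizer_singleton_iff]; exact h3
      · rw [Subgroup.mem_centralizer_singleton_iff]; exact hab h hh h₀ hh₀H
      · rw [hk]; exact Nat.Coprime.pow_right _ hgr
    -- a nontrivial element of `H` centralized by `C`
    obtain ⟨P⟩ : Nonempty (Sylow r C) := inferInstance
    have hP' : IsPGroup r ((P : Subgroup C).map C.subtype) := P.2.map _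
    have h2 := Cfsg.Agent.Lib.Helper53.inf_centralizer_ne_bot hP' hpH hne
      (by rw [Subgroup.normalizer_eq_top]; exact le_top)
    obtain ⟨⟨h₀, hh₀⟩, hh₀1'⟩ := Subgroup.ne_bot_iff_exists_ne_one.1 h2
    have hh₀1 : h₀ ≠ 1 := fun h => hh₀1' (Subtype.ext h)
    obtain ⟨hh₀H, hh₀c⟩ := hh₀
    have htop : (Subgroup.centralizer ({h₀} : Set G)).subgroupOf C = ⊤ := by
      apply Cfsg.Agent.Lib.Helper1.eq_top_of_forall_sylow_le
      intro q hq
      by_cases hqr : q = r
      · subst hqr
        refine ⟨P, ?_⟩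
        intro c hc
        rw [Subgroup.mem_subgroupOf, Subgroup.mem_centralizer_singleton_iff]
        exact ((Subgroup.mem_centralizer_iff.1 hh₀c) c ⟨c, hc, rfl⟩)
      · obtain ⟨Q⟩ : Nonempty (Sylow q C) := inferInstance
        refine ⟨Q, ?_⟩
        intro c hc
        rw [Subgroup.mem_subgroupOf, Subgroup.mem_centralizer_singleton_iff]
        obtain ⟨k, hk⟩ := orderOf_of_mem_pgroup Q.2 hc
        apply hA c c.2 _ h₀ hh₀H
        rw [Subgroup.orderOf_coe, hk]
        exact Nat.Coprime.pow_left _ ((Nat.coprime_primes hq.out hr).2 hqr)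
    have hCle : C ≤ Subgroup.centralizer ({h₀} : Set G) := by
      intro c hc
      have : (⟨c, hc⟩ : C) ∈ (Subgroup.centralizer ({h₀} : Set G)).subgroupOf C := by
        rw [htop]; exact Subgroup.mem_top _
      exact this
    have hCnil : Group.IsNilpotent C := nilpotent_of_le hCle (hCN h₀ hh₀1)
    have := nilpotent_map (QuotientGroup.mk' H) hCnil
    rwa [hC, Subgroup.map_comap_eq_self_of_surjective (QuotientGroup.mk'_surjective H)] at this
  · -- the case `r ≠ p`
    obtain ⟨a, ha, b, hb, hxab, ⟨j, hj⟩, hbr⟩ := exists_prime_decomp r x (isOfFinOrder_of_finite x)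
    have hπb : QuotientGroup.mk' H b = 1 := by
      have h1 : orderOf (QuotientGroup.mk' H b) ∣ r := by
        rw [← hx]
        apply orderOf_dvd_of_mem_zpowers
        obtain ⟨i, rfl⟩ := Subgroup.mem_zpowers_iff.1 hb
        rw [map_zpow]
        exact Subgroup.zpow_mem_zpowers _ _
      have h2 : orderOf (QuotientGroup.mk' H b) ∣ orderOf b := orderOf_map_dvd _ b
      have := Nat.eq_one_of_dvd_coprimes hbr h2 h1
      exact orderOf_eq_one_iff.1 this
    have hπa : QuotientGroup.mk' H x = QuotientGroup.mk' H a := by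
      rw [hxab, map_mul, hπb, mul_one]
    have ha1 : a ≠ 1 := by
      intro h
      rw [h, map_one] at hπa
      exact hx1 hπa
    have hle : Subgroup.centralizer ({QuotientGroup.mk' H x} : Set (G ⧸ H))
        ≤ (Subgroup.centralizer ({a} : Set G)).map (QuotientGroup.mk' H) := by
      intro c' hc'
      obtain ⟨c, rfl⟩ := QuotientGroup.mk'_surjective H c'
      rw [Subgroup.mem_centralizer_singleton_iff, hπa] at hc'
      have hc1 : c * a * c⁻¹ * a⁻¹ ∈ H := by
        rw [← QuotientGroup.eq_one_iff, ← QuotientGroup.mk'_apply]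
        simp only [map_mul, map_inv]
        rw [hc']; group
      obtain ⟨n, hn, hn2⟩ := exists_commute_of_coset H a c
        (by rw [hm, hj]; exact coprime_pow_of_ne hp.out hr hrp m j) hc1
      refine ⟨n * c, ?_, ?_⟩
      · rw [SetLike.mem_coe, Subgroup.mem_centralizer_singleton_iff]; exact hn2
      · rw [map_mul]
        have : QuotientGroup.mk' H n = 1 := by
          rw [QuotientGroup.mk'_apply, QuotientGroup.eq_one_iff]; exact hn
        rw [this, one_mul]
    exact nilpotent_of_le hle (nilpotent_map _ (hCN a ha1))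

/-- quotient of a CN-group by a nontrivial abelian normal `p`-subgroup is a CN-group. -/
theorem cn_quotient_pgroup {G : Type*} [Group G] [Finite G] (hCN : Cfsg.IsCNGroup G)
    (H : Subgroup G) [hH : H.Normal] (p : ℕ) [hp : Fact p.Prime] (hpH : IsPGroup p H)
    (hab : ∀ a ∈ H, ∀ b ∈ H, a * b = b * a) (hne : H ≠ ⊥) : Cfsg.IsCNGroup (G ⧸ H) := by
  intro x' hx'
  have ho : orderOf x' ≠ 1 := fun h => hx' (orderOf_eq_one_iff.1 h)
  set r := (orderOf x').minFac with hr
  have hrp : r.Prime := Nat.minFac_prime ho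
  have hdvd : r ∣ orderOf x' := Nat.minFac_dvd _
  have h1 : orderOf (x' ^ (orderOf x' / r)) = r :=
    orderOf_pow_orderOf_div (orderOf_pos x').ne' hdvd
  obtain ⟨x, hx⟩ := QuotientGroup.mk'_surjective H (x' ^ (orderOf x' / r))
  have h2 := cn_quotient_aux hCN H p hpH hab hne x r hrp (by rw [hx]; exact h1)
  refine nilpotent_of_le ?_ h2
  intro c hc
  rw [Subgroup.mem_centralizer_singleton_iff] at hc ⊢
  rw [hx]
  exact ((Commute.pow_right (show Commute c x' from hc) _)).eq

universe u

theorem cn_quotient_solvable_aux : ∀ (n : ℕ) (G : Type u) [Group G] [Finite G],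
    Cfsg.IsCNGroup G → ∀ (H : Subgroup G) [H.Normal], Group.IsSolvable H → Nat.card H ≤ n →
    Cfsg.IsCNGroup (G ⧸ H) := by
  intro n
  induction n with
  | zero =>
    intro G _ _ _ H _ _ hn
    have : 0 < Nat.card H := Nat.card_pos
    omega
  | succ n ih =>
    intro G _ _ hCN H _ hsol hn
    by_cases hbot : H = ⊥
    · subst hbot
      exact isCNGroup_of_equiv (QuotientGroup.quotientBot (G := G)).symm hCN
    · obtain ⟨M, hMH, hMn, hMne, hMc, p, hp, hpM⟩ :=
        Cfsg.Agent.Lib.Helper1.exists_normal_abelian_pgroup_le H hbot hsol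
      have := Fact.mk hp
      have hab : ∀ a ∈ M, ∀ b ∈ M, a * b = b * a := by
        intro a ha b hb
        have := hMc.is_comm.comm (⟨a, ha⟩ : M) ⟨b, hb⟩
        exact congrArg Subtype.val this
      have h1 : Cfsg.IsCNGroup (G ⧸ M) := cn_quotient_pgroup hCN M p hpM hab hMne
      have hsol' : Group.IsSolvable (H.map (QuotientGroup.mk' M)) :=
        Group.isSolvable_of_surjective
          (MonoidHom.subgroupMap_surjective (QuotientGroup.mk' M) H)
      have hcard : Nat.card (H.map (QuotientGroup.mk' M)) ≤ n := by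
        have h2 := Cfsg.Agent.Lib.Helper1.card_comap_mk M (H.map (QuotientGroup.mk' M))
        rw [Subgroup.comap_map_eq_self (by rw [QuotientGroup.ker_mk']; exact hMH)] at h2
        have h3 : 1 < Nat.card M := by
          have := (Subgroup.nontrivial_iff_ne_bot M).2 hMne
          exact Finite.one_lt_card
        have h4 : 0 < Nat.card (H.map (QuotientGroup.mk' M)) := Nat.card_pos
        nlinarith
      have h2 := ih (G ⧸ M) h1 (H.map (QuotientGroup.mk' M)) hsol' hcard
      exact isCNGroup_of_equiv (QuotientGroup.quotientQuotientEquivQuotient M H hMH) h2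

end Cfsg.Agent.Lib.Helper31
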