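import Cfsg.Agent.Lib.Helper31.FrobCoh8
import Cfsg.Agent.S0033

/-!
# From the hypotheses of the Frobenius partition theorem to a coherent family
-/

set_option autoImplicit false
set_option linter.unusedSectionVars false
set_option linter.style.haveILetI false
open Cfsg
open scoped ComplexConjugate

namespace Cfsg.Agent.Lib.Helper31

open Cfsg.Agent.Lib.Helper5 Cfsg.Agent.Lib.Helper20 Cfsg.Agent.Lib.Helper32 Cfsg.Agent.Lib.Helper19

variable {G : Type*} [Group G] [Fintype G]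

theorem frobTI_of {L H : Subgroup G} (hlt : H < L) (hH1 : H ≠ ⊥)
    (hHn : ∀ x ∈ L, ∀ h ∈ H, x * h * x⁻¹ ∈ H)
    (hfrob : ∀ h ∈ H, h ≠ 1 → L ⊓ Subgroup.centralizer ({h} : Set G) ≤ H)
    (hTI : IsTISubset (H : Set G)) (hN : Subgroup.normalizer (H : Set G) = L)
    (hodd : Odd (Nat.card G)) : FrobTI L H where
  le := hlt.le
  ne_bot := hH1
  normal := ⟨fun n hn g => by
    rw [Subgroup.mem_subgroupOf] at hn ⊢
    exact hHn g g.2 n hn⟩
  frob := by
    intro k hk hk1 x hx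
    rw [Subgroup.mem_subgroupOf] at hk ⊢
    apply hfrob k hk (fun h => hk1 (Subtype.ext h))
    rw [Subgroup.mem_centralizer_singleton_iff] at hx
    refine Subgroup.mem_inf.mpr ⟨x.2, ?_⟩
    rw [Subgroup.mem_centralizer_singleton_iff]
    exact congrArg Subtype.val hx
  ti := by
    intro g hg x hx h
    rw [← hN] at hg
    exact hTI g hg x hx h
  odd := Odd.of_dvd_nat hodd (Subgroup.card_subgroup_dvd_card L)

theorem FrobTI.exists_compl {L H : Subgroup G} (D : FrobTI L H) (hlt : H < L) :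
    ∃ W : Subgroup G, W ≤ L ∧ W ≠ ⊥ ∧ H ⊓ W = ⊥ ∧ H ⊔ W = L ∧
      ∀ w ∈ W, w ≠ 1 → ∀ h ∈ H, w * h = h * w → h = 1 := by
  haveI := D.normal
  have hcop : Nat.Coprime (Nat.card (H.subgroupOf L)) (H.subgroupOf L).index := by
    rw [Nat.card_congr (Subgroup.subgroupOfEquivOfLe D.le).toEquiv]
    apply Nat.Coprime.coprime_dvd_right D.index_dvd
    have h1 : 1 ≤ Nat.card H := Nat.card_pos
    rw [Nat.coprime_self_sub_right h1]
    exact Nat.coprime_one_right _
  obtain ⟨W', hW'⟩ := Subgroup.exists_right_complement'_of_coprime hcop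
  have hinf : H ⊓ W'.map L.subtype = ⊥ := by
    rw [Subgroup.eq_bot_iff_forall]
    rintro x ⟨hx, w, hw, rfl⟩
    have : w ∈ H.subgroupOf L ⊓ W' := ⟨Subgroup.mem_subgroupOf.mpr hx, hw⟩
    rw [hW'.disjoint.eq_bot, Subgroup.mem_bot] at this
    rw [this]; rfl
  have hsup : H ⊔ W'.map L.subtype = L := by
    have h1 := congrArg (Subgroup.map L.subtype) hW'.sup_eq_top
    rw [Subgroup.map_sup, Subgroup.subgroupOf_map_subtype, inf_eq_left.mpr D.le,
      ← MonoidHom.range_eq_map, Subgroup.range_subtype] at h1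
    exact h1
  refine ⟨W'.map L.subtype, Subgroup.map_subtype_le W', ?_, hinf, hsup, ?_⟩
  · intro h
    rw [h, sup_bot_eq] at hsup
    exact hlt.ne hsup
  · intro w hw hw1 h hh hcomm
    by_contra hh1
    have hwL : w ∈ L := Subgroup.map_subtype_le W' hw
    have hk : (⟨h, D.le hh⟩ : L) ∈ H.subgroupOf L := Subgroup.mem_subgroupOf.mpr hh
    have := D.frob ⟨h, D.le hh⟩ hk (fun e => hh1 (congrArg Subtype.val e))
      (x := ⟨w, hwL⟩) (by
        rw [Subgroup.mem_centralizer_singleton_iff]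
        exact Subtype.ext hcomm)
    have hwH : w ∈ H := Subgroup.mem_subgroupOf.mp this
    have : w ∈ H ⊓ W'.map L.subtype := ⟨hwH, hw⟩
    rw [hinf, Subgroup.mem_bot] at this
    exact hw1 this

theorem FrobTI.nilpotent {L H : Subgroup G} (D : FrobTI L H) {W : Subgroup G} (hWL : W ≤ L)
    (hW1 : W ≠ ⊥) (hfpf : ∀ w ∈ W, w ≠ 1 → ∀ h ∈ H, w * h = h * w → h = 1) :
    Group.IsNilpotent H := by
  haveI := D.normal
  have hc : Nat.card W ≠ 1 := by
    intro h
    exact hW1 (Subgroup.card_eq_one.mp h)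
  obtain ⟨p, hp, hpd⟩ := Nat.exists_prime_and_dvd hc
  haveI := Fact.mk hp
  obtain ⟨w, hw⟩ := exists_prime_orderOf_dvd_card' p hpd
  have hw1 : (w : G) ≠ 1 := by
    intro h
    have : w = 1 := Subtype.ext h
    rw [this, orderOf_one] at hw
    exact hp.one_lt.ne hw
  let wL : L := ⟨w, hWL w.2⟩
  let φ : (H.subgroupOf L) ≃* (H.subgroupOf L) := MulAut.conjNormal wL
  have hφ : ∀ k, φ k = k → k = 1 := by
    intro k hk
    have h1 : ((φ k : H.subgroupOf L) : L) = wL * k * wL⁻¹ := MulAut.conjNormal_apply wL k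
    rw [hk] at h1
    have h2 : (w : G) * ((k : L) : G) = ((k : L) : G) * (w : G) := by
      have := congrArg Subtype.val h1
      simp only [Subgroup.coe_mul, Subgroup.coe_inv] at this
      change ((k : L) : G) = (w : G) * ((k : L) : G) * (w : G)⁻¹ at this
      rw [eq_mul_inv_iff_mul_eq] at this
      exact this.symm
    have := hfpf w w.2 hw1 _ (Subgroup.mem_subgroupOf.mp k.2) h2
    exact Subtype.ext (Subtype.ext this)
  have hord : orderOf φ = p := by
    apply orderOf_eq_prime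
    · have : φ ^ p = MulAut.conjNormal (wL ^ p) := (map_pow MulAut.conjNormal wL p).symm
      rw [this]
      have h2 : wL ^ p = 1 := by
        apply Subtype.ext
        have : (w : G) ^ p = 1 := by
          rw [← hw, ← Subgroup.orderOf_coe]
          exact pow_orderOf_eq_one _
        simpa [wL] using this
      rw [h2, map_one]
    · intro h
      apply D.ne_bot
      rw [Subgroup.eq_bot_iff_forall]
      intro x hx
      have := hφ ⟨⟨x, D.le hx⟩, Subgroup.mem_subgroupOf.mpr hx⟩ (by rw [h]; rfl)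
      exact congrArg (fun y : H.subgroupOf L => ((y : L) : G)) this
  have := Cfsg.Agent.S0033.result φ hφ p hp hord
  exact (Group.isNilpotent_congr (Subgroup.subgroupOfEquivOfLe D.le)).mp this

/-- The Frobenius partition theorem, conditionally on coherence. -/
theorem frob_partition_of
    (hcoh : ∀ (H L W₁ : Subgroup G) [Fintype L], Odd (Nat.card L) → H ≤ L → W₁ ≤ L → H ≠ ⊥ →
      W₁ ≠ ⊥ → Group.IsNilpotent H → (∀ x ∈ L, ∀ h ∈ H, x * h * x⁻¹ ∈ H) → H ⊓ W₁ = ⊥ →
      H ⊔ W₁ = L → (∀ w ∈ W₁, w ≠ 1 → ∀ h ∈ H, w * h = h * w → h = 1) →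
      IsTISubset (H : Set G) → Subgroup.normalizer (H : Set G) = L →
      IsCoherent (inducedIrrAbove (H.subgroupOf L) ⊥) {1}ᶜ (fun α : L → ℂ => indFun L α))
    (hodd : Odd (Nat.card G)) {ι : Type*} [Fintype ι] [Nonempty ι]
    (L H : ι → Subgroup G) (hHL : ∀ i, H i < L i) (hH1 : ∀ i, H i ≠ ⊥)
    (hHn : ∀ i, ∀ x ∈ L i, ∀ h ∈ H i, x * h * x⁻¹ ∈ H i)
    (hfrob : ∀ i, ∀ h ∈ H i, h ≠ 1 → L i ⊓ Subgroup.centralizer ({h} : Set G) ≤ H i)
    (hcop : ∀ i j, i ≠ j → Nat.Coprime (Nat.card (H i)) (Nat.card (H j)))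
    (hTI : ∀ i, IsTISubset (H i : Set G) ∧ Subgroup.normalizer (H i : Set G) = L i)
    (hcover : ∀ g : G, g ≠ 1 → ∃ i, ∃ x : G, x * g * x⁻¹ ∈ H i) : False := by
  classical
  haveI : ∀ i, Fintype (L i) := fun i => Fintype.ofFinite _
  have D : ∀ i, FrobTI (L i) (H i) := fun i =>
    frobTI_of (hHL i) (hH1 i) (hHn i) (hfrob i) (hTI i).1 (hTI i).2 hodd
  have hnil : ∀ i, Group.IsNilpotent (H i) := by
    intro i
    obtain ⟨W, h1, h2, -, -, h5⟩ := (D i).exists_compl (hHL i)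
    exact (D i).nilpotent h1 h2 h5
  have hC : ∀ i, ∃ ν : (L i → ℂ) → (G → ℂ), CohIso (L i) (H i) ν := by
    intro i
    obtain ⟨W, h1, h2, h3, h4, h5⟩ := (D i).exists_compl (hHL i)
    obtain ⟨-, τ, hτ1, hτ2⟩ := hcoh (H i) (L i) W (D i).odd (D i).le h1 (hH1 i) h2 (hnil i) (hHn i)
      h3 h4 h5 (hTI i).1 (hTI i).2
    exact ⟨τ, hτ1, hτ2⟩
  choose ν C using hC
  have hχ : ∀ i, ∃ χ ∈ frobS (L i) (H i), χ 1 = (((H i).subgroupOf (L i)).index : ℂ) := by
    intro i
    haveI := hnil i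
    haveI : Group.IsNilpotent ((H i).subgroupOf (L i)) :=
      (Group.isNilpotent_congr (Subgroup.subgroupOfEquivOfLe (D i).le)).mpr (hnil i)
    apply exists_linear_above _ inferInstance ⊥
    rw [bot_lt_iff_ne_bot]
    intro h
    apply hH1 i
    rw [Subgroup.eq_bot_iff_forall] at h ⊢
    intro x hx
    exact congrArg Subtype.val (h ⟨x, (D i).le hx⟩ (Subgroup.mem_subgroupOf.mpr hx))
  choose χ hχ1 hχ2 using hχ
  have F : FrobFam L H ν χ := ⟨D, C, hχ1, hχ2, hcop, hodd, fun i => (hTI i).2, hcover⟩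
  exact F.false hHL

end Cfsg.Agent.Lib.Helper31
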