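import Cfsg.Prelude
import Cfsg.Agent.Lib.Helper31.CNQuot
import Cfsg.Agent.Lib.Helper1.Fpf3
import Cfsg.Agent.Lib.Helper57.Replacement
import Cfsg.Agent.S0071

set_option autoImplicit false

namespace Cfsg.Agent.Lib.Helper31

open Cfsg.Agent.Lib.Helper30 Cfsg.Agent.Lib.Helper1

/-- A finite group with a normal `q`-complement for every prime `q` is nilpotent. -/
theorem isNilpotent_of_normal_complements (E : Type*) [Group E] [Finite E]
    (h : ∀ (q : ℕ) [Fact q.Prime], ∃ (Q : Sylow q E) (N : Subgroup E),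
      N.Normal ∧ N.IsComplement' (Q : Subgroup E)) : Group.IsNilpotent E := by
  classical
  have h' : ∀ q : ℕ, ∃ (N : Subgroup E) (_ : N.Normal), Group.IsNilpotent (E ⧸ N) ∧
      (q.Prime → ¬ q ∣ Nat.card N) := by
    intro q
    by_cases hq : q.Prime
    · have := Fact.mk hq
      obtain ⟨Q, N, hN, hc⟩ := h q
      refine ⟨N, hN, ?_, ?_⟩
      · have h1 : N.index = Nat.card Q := hc.symm.index_eq_card
        obtain ⟨k, hk⟩ := IsPGroup.iff_card.1 Q.2
        have h2 : IsPGroup q (E ⧸ N) := IsPGroup.of_card (n := k) (by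
          rw [← hk, ← h1]; rfl)
        exact h2.isNilpotent
      · intro _
        have h1 : (Q : Subgroup E).index = Nat.card N := hc.index_eq_card
        rw [← h1]
        exact Q.not_dvd_index
    · refine ⟨⊤, inferInstance, ?_, fun h => absurd h hq⟩
      have : Subsingleton (E ⧸ (⊤ : Subgroup E)) := QuotientGroup.subsingleton_quotient_top
      infer_instance
  choose N hNn hNnil hNq using h'
  let f : E →* ((i : Fin (Nat.card E + 1)) → E ⧸ N i) :=
    MonoidHom.pi (fun i => QuotientGroup.mk' (N i))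
  have hf : Function.Injective f := by
    rw [injective_iff_map_eq_one]
    intro x hx
    by_contra hx1
    have ho : orderOf x ≠ 1 := fun h => hx1 (orderOf_eq_one_iff.1 h)
    obtain ⟨q, hq, hqx⟩ := Nat.exists_prime_and_dvd ho
    have hqle : q < Nat.card E + 1 :=
      Nat.lt_succ_of_le (Nat.le_of_dvd Nat.card_pos (hqx.trans (orderOf_dvd_natCard x)))
    have h1 : QuotientGroup.mk' (N q) x = 1 := congrFun hx ⟨q, hqle⟩
    rw [QuotientGroup.mk'_apply, QuotientGroup.eq_one_iff] at h1
    apply hNq q hq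
    have h2 : orderOf (⟨x, h1⟩ : N q) ∣ Nat.card (N q) := orderOf_dvd_natCard _
    rw [Subgroup.orderOf_mk] at h2
    exact hqx.trans h2
  have : ∀ i : Fin (Nat.card E + 1), Group.IsNilpotent (E ⧸ N i) := fun i => hNnil i
  exact Group.nilpotent_of_mulEquiv (MonoidHom.ofInjective hf).symm

theorem mul_comm_of_isCyclic {A : Type*} [Group A] [IsCyclic A] (a b : A) : a * b = b * a := by
  obtain ⟨g, hg⟩ := IsCyclic.exists_generator (α := A)
  obtain ⟨i, rfl⟩ := Subgroup.mem_zpowers_iff.1 (hg a)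
  obtain ⟨j, rfl⟩ := Subgroup.mem_zpowers_iff.1 (hg b)
  rw [← zpow_add, ← zpow_add, add_comm]

/-- In a CN-group, let `E` act fixed-point-freely on a solvable `K ≠ 1`. A `q'`-element of `E`
normalizing a `q`-subgroup `U` of `E` centralizes it. -/
theorem fpf_cn_local {G : Type*} [Group G] [Finite G] (hCN : Cfsg.IsCNGroup G) (E K : Subgroup G)
    (hEK : E ≤ Subgroup.normalizer (K : Set G)) (hK : K ≠ ⊥) (hKsol : Group.IsSolvable K)
    (hfpf : ∀ e ∈ E, e ≠ 1 → K ⊓ Subgroup.centralizer {e} = ⊥)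
    (q : ℕ) [hq : Fact q.Prime] (U : Subgroup G) (hUE : U ≤ E) (hU : IsPGroup q U)
    (y : G) (hy : y ∈ E) (hyU : y ∈ Subgroup.normalizer (U : Set G))
    (hyq : (orderOf y).Coprime q) : ∀ u ∈ U, y * u = u * y := by
  by_cases hUb : U = ⊥
  · intro u hu
    rw [hUb, Subgroup.mem_bot] at hu
    rw [hu, mul_one, one_mul]
  by_cases hy1 : y = 1
  · intro u _
    rw [hy1, mul_one, one_mul]
  have hUnt : Nontrivial U := (Subgroup.nontrivial_iff_ne_bot U).2 hUb
  have hqU : q ∣ Nat.card U := by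
    obtain ⟨n, hn0, hn⟩ := (hU.nontrivial_iff_card).1 hUnt
    rw [hn]; exact dvd_pow_self q hn0.ne'
  obtain ⟨z₀, hz₀U, hz₀1, ⟨k, hk⟩, hz₀c⟩ := exists_central_prime_elt U hU.isNilpotent q hqU
  have hqz₀ : q ∣ orderOf z₀ := by
    rw [hk]
    apply dvd_pow_self
    rintro rfl
    rw [pow_zero, orderOf_eq_one_iff] at hk
    exact hz₀1 hk
  set z := z₀ ^ (orderOf z₀ / q) with hz
  have hzo : orderOf z = q := orderOf_pow_orderOf_div (orderOf_pos z₀).ne' hqz₀
  have hzU : z ∈ U := U.pow_mem hz₀U _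
  have hz1 : z ≠ 1 := by
    intro h
    rw [h, orderOf_one] at hzo
    exact hq.out.one_lt.ne hzo
  have hzc : ∀ u ∈ U, u * z = z * u := by
    intro u hu
    exact ((Commute.pow_right (show Commute u z₀ from hz₀c u hu) _)).eq
  set X := Subgroup.zpowers z with hX
  have hXc : Nat.card X = q := by rw [hX, Nat.card_zpowers, hzo]
  have hXU : X ≤ U := by rw [hX, Subgroup.zpowers_le]; exact hzU
  have hcjU : cj y U = U := cj_eq_of_mem_normalizer hyU
  have hXY : X = cj y X :=
    fpf_pgroup_unique q U K hU (hUE.trans hEK) hK (fun e he => hfpf e (hUE he)) X (cj y X) hXU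
      (hcjU ▸ cj_mono y hXU) hXc (by rw [card_cj, hXc])
  have hyX : y ∈ Subgroup.normalizer (X : Set G) := mem_normalizer_of_cj_eq hXY.symm
  -- a power of `y` of prime order
  have hyo : orderOf y ≠ 1 := fun h => hy1 (orderOf_eq_one_iff.1 h)
  set s := (orderOf y).minFac with hs
  have hsp : s.Prime := Nat.minFac_prime hyo
  have hsy : s ∣ orderOf y := Nat.minFac_dvd _
  set c := y ^ (orderOf y / s) with hc
  have hco : orderOf c = s := orderOf_pow_orderOf_div (orderOf_pos y).ne' hsy
  have hc1 : c ≠ 1 := by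
    intro h
    rw [h, orderOf_one] at hco
    exact hsp.one_lt.ne hco
  have hsq : s.Coprime q := Nat.Coprime.coprime_dvd_left hsy hyq
  have hcE : c ∈ E := E.pow_mem hy _
  have hcX : Subgroup.zpowers c ≤ Subgroup.normalizer (X : Set G) := by
    rw [Subgroup.zpowers_le]; exact Subgroup.pow_mem _ hyX _
  set A := Subgroup.zpowers c ⊔ X with hA
  have hAE : A ≤ E := sup_le (by rw [Subgroup.zpowers_le]; exact hcE) (hXU.trans hUE)
  have hAcard : Nat.card A = s * q := by
    have h1 := Cfsg.Agent.Lib.Helper57.card_sup_mul_card_inf' hcX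
    have h2 : Subgroup.zpowers c ⊓ X = ⊥ :=
      (Subgroup.disjoint_of_coprime_natCard (by rw [Nat.card_zpowers, hco, hXc]; exact hsq)).eq_bot
    rw [h2, Subgroup.card_bot, mul_one, Nat.card_zpowers, hco, hXc] at h1
    exact h1
  obtain ⟨V, -, hV1, hVc, hAV, hVfpf⟩ := fpf_exists_invariant_abelian A K (hAE.trans hEK) hK
    (fun e he => hfpf e (hAE he)) (Or.inr hKsol)
  have hAcyc : IsCyclic A := fpf_isCyclic_subgroup A V hV1 hAV hVfpf
    (Or.inr ⟨s, q, hsp, hq.out, hAcard⟩)
  have hcz : c * z = z * c := by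
    have hcA : c ∈ A := Subgroup.mem_sup_left (Subgroup.mem_zpowers c)
    have hzA : z ∈ A := Subgroup.mem_sup_right (Subgroup.mem_zpowers z)
    have h1 := mul_comm_of_isCyclic (⟨c, hcA⟩ : A) ⟨z, hzA⟩
    exact congrArg Subtype.val h1
  have hyz : y * z = z * y := by
    apply commute_of_mem_nilpotent _ (hCN c hc1)
    · rw [Subgroup.mem_centralizer_singleton_iff]
      exact ((Commute.refl y).pow_right _).eq
    · rw [Subgroup.mem_centralizer_singleton_iff]; exact hcz.symm
    · rw [hzo]; exact hyq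
  intro u hu
  obtain ⟨j, hj⟩ := orderOf_of_mem_pgroup hU hu
  apply commute_of_mem_nilpotent _ (hCN z hz1)
  · rw [Subgroup.mem_centralizer_singleton_iff]; exact hyz
  · rw [Subgroup.mem_centralizer_singleton_iff]; exact hzc u hu
  · rw [hj]; exact Nat.Coprime.pow_right _ hyq

/-- In a CN-group, a subgroup acting fixed-point-freely on a nontrivial solvable subgroup is
nilpotent. -/
theorem nilpotent_of_fpf_cn {G : Type*} [Group G] [Finite G] (hCN : Cfsg.IsCNGroup G)
    (E K : Subgroup G)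
    (hEK : E ≤ Subgroup.normalizer (K : Set G)) (hK : K ≠ ⊥) (hKsol : Group.IsSolvable K)
    (hfpf : ∀ e ∈ E, e ≠ 1 → K ⊓ Subgroup.centralizer {e} = ⊥) : Group.IsNilpotent E := by
  apply isNilpotent_of_normal_complements
  intro q hq
  obtain ⟨Q⟩ : Nonempty (Sylow q E) := inferInstance
  obtain ⟨N, hN, hc⟩ := (Cfsg.Agent.S0071.result Q).2 (by
    intro U' hU' g hg hgq
    have h1 := fpf_cn_local hCN E K hEK hK hKsol hfpf q (U'.map E.subtype)
      (Subgroup.map_subtype_le _) ((Q.2.to_le hU').map _) (g : G) g.2 (by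
        rw [Subgroup.mem_normalizer_iff]
        intro x
        rw [Subgroup.mem_normalizer_iff] at hg
        constructor
        · rintro ⟨x', hx', rfl⟩
          exact ⟨g * x' * g⁻¹, (hg x').1 hx', rfl⟩
        · rintro ⟨w, hw, hwx⟩
          have hxE : x ∈ E := by
            have h2 : x = (g : G)⁻¹ * (w : G) * g := by
              have : (w : G) = g * x * (g : G)⁻¹ := hwx
              rw [this]; group
            rw [h2]
            exact E.mul_mem (E.mul_mem (E.inv_mem g.2) w.2) g.2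
          refine ⟨⟨x, hxE⟩, ?_, rfl⟩
          apply (hg ⟨x, hxE⟩).2
          have : g * ⟨x, hxE⟩ * g⁻¹ = w := Subtype.ext hwx.symm
          rw [this]; exact hw)
      (by rw [Subgroup.orderOf_coe]; exact hgq)
    rw [Subgroup.mem_centralizer_iff]
    intro u hu
    apply Subtype.ext
    exact (h1 u ⟨u, hu, rfl⟩).symm)
  exact ⟨Q, N, hN, hc⟩

end Cfsg.Agent.Lib.Helper31
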