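import Cfsg.Prelude
import Cfsg.Agent.Lib.Helper31.CNFrob
import Cfsg.Agent.S0016

set_option autoImplicit false

namespace Cfsg.Agent.Lib.Helper31

open Cfsg.Agent.Lib.Helper30 Cfsg.Agent.Lib.Helper1

/-- an `r`-subgroup acting fixed-point-freely is cyclic or generalized quaternion -/
theorem fpf_pgroup_structure {G : Type*} [Group G] [Finite G] (r : ℕ) [Fact r.Prime]
    (P K : Subgroup G) (hP : IsPGroup r P) (hPK : P ≤ Subgroup.normalizer (K : Set G)) (hK : K ≠ ⊥)
    (hfpf : ∀ e ∈ P, e ≠ 1 → K ⊓ Subgroup.centralizer {e} = ⊥) :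
    IsCyclic P ∨ (r = 2 ∧ ∃ n : ℕ, Nonempty (P ≃* QuaternionGroup (2 ^ n))) := by
  apply Cfsg.Agent.S0016.result r hP
  intro X Y hX hY
  apply Subgroup.map_injective P.subtype_injective
  exact fpf_pgroup_unique r P K hP hPK hK hfpf _ _ (Subgroup.map_subtype_le _)
    (Subgroup.map_subtype_le _) (by rw [Subgroup.card_map_of_injective P.subtype_injective, hX])
    (by rw [Subgroup.card_map_of_injective P.subtype_injective, hY])

theorem card_quaternion_even (n : ℕ) : Even (Nat.card (QuaternionGroup (2 ^ n))) := by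
  have : NeZero (2 ^ n) := ⟨by positivity⟩
  rw [Nat.card_eq_fintype_card, QuaternionGroup.card]
  exact ⟨2 * 2 ^ n, by ring⟩

/-- a nilpotent group of odd order acting fixed-point-freely is cyclic -/
theorem fpf_odd_nilpotent_isCyclic {G : Type*} [Group G] [Finite G]
    (C K : Subgroup G) (hCK : C ≤ Subgroup.normalizer (K : Set G)) (hK : K ≠ ⊥)
    (hfpf : ∀ e ∈ C, e ≠ 1 → K ⊓ Subgroup.centralizer {e} = ⊥) (hnil : Group.IsNilpotent C)
    (hodd : Odd (Nat.card C)) : IsCyclic C := by
  have hZ : IsZGroup C := by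
    constructor
    intro r hr T
    have := Fact.mk hr
    have hle : (T : Subgroup C).map C.subtype ≤ C := Subgroup.map_subtype_le _
    let e : (T : Subgroup C) ≃* (T : Subgroup C).map C.subtype :=
      (T : Subgroup C).equivMapOfInjective _ C.subtype_injective
    rcases fpf_pgroup_structure r ((T : Subgroup C).map C.subtype) K (T.2.map _) (hle.trans hCK) hK
      (fun x hx => hfpf x (hle hx)) with h | ⟨-, n, ⟨f⟩⟩
    · exact isCyclic_of_surjective e.symm e.symm.surjective
    · exfalso
      have h1 : Even (Nat.card ((T : Subgroup C).map C.subtype)) := by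
        rw [Nat.card_congr f.toEquiv]; exact card_quaternion_even n
      have h2 : Nat.card ((T : Subgroup C).map C.subtype) ∣ Nat.card C := Subgroup.card_dvd_of_le hle
      exact (Nat.not_even_iff_odd.2 hodd) (h1.two_dvd.trans h2 |> even_iff_two_dvd.2)
  infer_instance

/-- a nilpotent group acting fixed-point-freely is cyclic or (cyclic of odd order) × quaternion -/
theorem fpf_nilpotent_structure {G : Type*} [Group G] [Finite G]
    (E K : Subgroup G) (hEK : E ≤ Subgroup.normalizer (K : Set G)) (hK : K ≠ ⊥)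
    (hfpf : ∀ e ∈ E, e ≠ 1 → K ⊓ Subgroup.centralizer {e} = ⊥) (hnil : Group.IsNilpotent E) :
    IsCyclic E ∨ ∃ C Q : Subgroup G, C ⊔ Q = E ∧ (∀ a ∈ C, ∀ b ∈ Q, a * b = b * a) ∧ IsCyclic C ∧
      Odd (Nat.card C) ∧ ∃ n : ℕ, Nonempty (↥Q ≃* QuaternionGroup (2 ^ n)) := by
  by_cases hZ : IsZGroup E
  · left; infer_instance
  right
  have hZ' : ∃ (r : ℕ) (_ : r.Prime) (T : Sylow r E), ¬ IsCyclic T := by
    by_contra hcon
    push Not at hcon
    exact hZ ⟨hcon⟩
  obtain ⟨r, hr, T, hT⟩ := hZ'
  have := Fact.mk hr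
  have hle : (T : Subgroup E).map E.subtype ≤ E := Subgroup.map_subtype_le _
  let e : (T : Subgroup E) ≃* (T : Subgroup E).map E.subtype :=
    (T : Subgroup E).equivMapOfInjective _ E.subtype_injective
  rcases fpf_pgroup_structure r ((T : Subgroup E).map E.subtype) K (T.2.map _) (hle.trans hEK) hK
    (fun x hx => hfpf x (hle hx)) with h | ⟨h2, n, ⟨f⟩⟩
  · exact absurd (isCyclic_of_surjective e.symm e.symm.surjective) hT
  subst h2
  obtain ⟨C', hC'⟩ := Subgroup.exists_right_complement'_of_coprime T.card_coprime_index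
  have hC'card : Nat.card C' = (T : Subgroup E).index := hC'.symm.index_eq_card.symm
  have hC'odd : Odd (Nat.card C') := by
    rw [hC'card, ← Nat.not_even_iff_odd, even_iff_two_dvd]
    exact T.not_dvd_index
  have hCle : C'.map E.subtype ≤ E := Subgroup.map_subtype_le _
  have hCcard : Nat.card (C'.map E.subtype) = Nat.card C' :=
    Subgroup.card_map_of_injective E.subtype_injective
  refine ⟨C'.map E.subtype, (T : Subgroup E).map E.subtype, ?_, ?_, ?_, ?_, n, ⟨f⟩⟩
  · rw [← Subgroup.map_sup, sup_comm, hC'.sup_eq_top, ← MonoidHom.range_eq_map, Subgroup.range_subtype]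
  · rintro _ ⟨a, ha, rfl⟩ _ ⟨b, hb, rfl⟩
    obtain ⟨j, hj⟩ := orderOf_of_mem_pgroup T.2 hb
    have h1 : (orderOf a).Coprime (orderOf b) := by
      rw [hj]
      apply Nat.Coprime.pow_right
      have h2 : orderOf a ∣ Nat.card C' := by
        have := orderOf_dvd_natCard (⟨a, ha⟩ : C')
        rwa [Subgroup.orderOf_mk] at this
      exact Nat.Coprime.coprime_dvd_left h2 (Nat.Coprime.symm (Nat.coprime_two_left.2 hC'odd))
    have := (commute_of_coprime_orderOf E a b h1).eq
    exact congrArg Subtype.val this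
  · exact fpf_odd_nilpotent_isCyclic _ K (hCle.trans hEK) hK (fun x hx => hfpf x (hCle hx))
      (nilpotent_of_le hCle hnil) (hCcard ▸ hC'odd)
  · exact hCcard ▸ hC'odd

end Cfsg.Agent.Lib.Helper31
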