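import Cfsg.Prelude
import Cfsg.Agent.Lib.Helper31.FpfNilp
import Cfsg.Agent.Lib.Helper14.Cores
import Cfsg.Agent.Lib.Helper29.Cores
import Cfsg.Agent.S0044

set_option autoImplicit false

namespace Cfsg.Agent.Lib.Helper31

open Cfsg.Agent.Lib.Helper30 Cfsg.Agent.Lib.Helper1

theorem orderOf_dvd_card_of_mem {G : Type*} [Group G] {L : Subgroup G} {x : G} (hx : x ∈ L) :
    orderOf x ∣ Nat.card L := by
  have := orderOf_dvd_natCard (⟨x, hx⟩ : L)
  rwa [Subgroup.orderOf_mk] at this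

/-- a Sylow subgroup contained in a nilpotent normal subgroup is normal -/
theorem sylow_normal_of_le {G : Type*} [Group G] [Finite G] {q : ℕ} [Fact q.Prime] (Q : Sylow q G)
    (K : Subgroup G) (hKn : K.Normal) (hKnil : Group.IsNilpotent K) (hQK : (Q : Subgroup G) ≤ K) :
    (Q : Subgroup G).Normal := by
  constructor
  intro x hx g
  have h1 : g * x * g⁻¹ ∈ K := hKn.conj_mem x (hQK hx) g
  obtain ⟨j, hj⟩ := orderOf_of_mem_pgroup Q.2 hx
  have h2 : orderOf (⟨g * x * g⁻¹, h1⟩ : K) = q ^ j := by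
    rw [Subgroup.orderOf_mk, ← hj]
    exact orderOf_injective (MulAut.conj g).toMonoidHom (MulAut.conj g).injective x
  have h3 := mem_sylow_of_normal (Q.subtype hQK) ⟨g * x * g⁻¹, h1⟩ ⟨j, h2⟩
  rw [Sylow.coe_subtype, Subgroup.mem_subgroupOf] at h3
  exact h3

/-- CN-group with `O_p(G) ≠ 1 ≠ O_q(G)`: Sylow `p`-subgroups are normal. -/
theorem sylow_normal_of_two_cores {G : Type*} [Group G] [Finite G] (hCN : Cfsg.IsCNGroup G)
    {p q : ℕ} [hp : Fact p.Prime] [hq : Fact q.Prime] (hpq : p ≠ q) (hP : Cfsg.pCore p G ≠ ⊥)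
    (hQ : Cfsg.pCore q G ≠ ⊥) (P : Sylow p G) : (P : Subgroup G).Normal := by
  have hP1 : IsPGroup p (Cfsg.pCore p G) := pCore_isPGroup p G
  have hQ1 : IsPGroup q (Cfsg.pCore q G) := pCore_isPGroup q G
  have h2 := Cfsg.Agent.Lib.Helper53.inf_centralizer_ne_bot P.2 hP1 hP
    (by rw [Subgroup.normalizer_eq_top]; exact le_top)
  obtain ⟨⟨z, hz⟩, hz1'⟩ := Subgroup.ne_bot_iff_exists_ne_one.1 h2
  have hz1 : z ≠ 1 := fun h => hz1' (Subtype.ext h)
  obtain ⟨hzP, hzc⟩ := Subgroup.mem_inf.1 hz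
  have hdis : Disjoint (Cfsg.pCore p G) (Cfsg.pCore q G) := IsPGroup.disjoint_of_ne p q hpq _ _ hP1 hQ1
  have hzy : ∀ y ∈ Cfsg.pCore q G, z * y = y * z := fun y hy =>
    (Subgroup.commute_of_normal_of_disjoint _ _ inferInstance inferInstance hdis z y hzP hy).eq
  have hxy : ∀ x ∈ (P : Subgroup G), ∀ y ∈ Cfsg.pCore q G, x * y = y * x := by
    intro x hx y hy
    obtain ⟨i, hi⟩ := orderOf_of_mem_pgroup P.2 hx
    obtain ⟨j, hj⟩ := orderOf_of_mem_pgroup hQ1 hy
    apply commute_of_mem_nilpotent _ (hCN z hz1)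
    · rw [Subgroup.mem_centralizer_singleton_iff]
      exact (Subgroup.mem_centralizer_iff.1 hzc) x hx
    · rw [Subgroup.mem_centralizer_singleton_iff]; exact (hzy y hy).symm
    · rw [hi, hj]; exact coprime_pow_of_ne hp.out hq.out (Ne.symm hpq) i j
  obtain ⟨⟨y₀, hy₀⟩, hy₀1'⟩ := Subgroup.ne_bot_iff_exists_ne_one.1 hQ
  have hy₀1 : y₀ ≠ 1 := fun h => hy₀1' (Subtype.ext h)
  apply sylow_normal_of_le P (Subgroup.centralizer (Cfsg.pCore q G : Set G)) inferInstance
  · refine nilpotent_of_le ?_ (hCN y₀ hy₀1)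
    exact Subgroup.centralizer_le (by simpa using hy₀)
  · intro x hx
    rw [Subgroup.mem_centralizer_iff]
    intro y hy
    exact (hxy x hx y hy).symm

/-- CN-group, `P₀` a nontrivial self-centralizing `p`-subgroup: `p'`-elements act
fixed-point-freely on `P₀`. -/
theorem fpf_on_self_centralizing {G : Type*} [Group G] [Finite G] (hCN : Cfsg.IsCNGroup G)
    {p : ℕ} [hp : Fact p.Prime] (P₀ : Subgroup G) (hP : IsPGroup p P₀) (hP1 : P₀ ≠ ⊥)
    (hC : Subgroup.centralizer (P₀ : Set G) ≤ P₀) (x : G) (hx1 : x ≠ 1)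
    (hx : (orderOf x).Coprime p) : P₀ ⊓ Subgroup.centralizer ({x} : Set G) = ⊥ := by
  by_contra hne
  obtain ⟨⟨h, hh⟩, hh1'⟩ := Subgroup.ne_bot_iff_exists_ne_one.1 hne
  have hh1 : h ≠ 1 := fun h0 => hh1' (Subtype.ext h0)
  obtain ⟨hhP, hhx⟩ := Subgroup.mem_inf.1 hh
  rw [Subgroup.mem_centralizer_singleton_iff] at hhx
  have hnt : Nontrivial P₀ := (Subgroup.nontrivial_iff_ne_bot P₀).2 hP1
  have hpP : p ∣ Nat.card P₀ := by
    obtain ⟨n, hn0, hn⟩ := (hP.nontrivial_iff_card).1 hnt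
    rw [hn]; exact dvd_pow_self p hn0.ne'
  obtain ⟨z, hzP, hz1, ⟨k, hk⟩, hzc⟩ := exists_central_prime_elt P₀ hP.isNilpotent p hpP
  have hxz : x * z = z * x := by
    apply commute_of_mem_nilpotent _ (hCN h hh1)
    · rw [Subgroup.mem_centralizer_singleton_iff]; exact hhx.symm
    · rw [Subgroup.mem_centralizer_singleton_iff]; exact (hzc h hhP).symm
    · rw [hk]; exact Nat.Coprime.pow_right _ hx
  have hxP : x ∈ P₀ := by
    apply hC
    rw [Subgroup.mem_centralizer_iff]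
    intro f hf
    obtain ⟨j, hj⟩ := orderOf_of_mem_pgroup hP hf
    apply Eq.symm
    apply commute_of_mem_nilpotent _ (hCN z hz1)
    · rw [Subgroup.mem_centralizer_singleton_iff]; exact hxz
    · rw [Subgroup.mem_centralizer_singleton_iff]; exact hzc f hf
    · rw [hj]; exact Nat.Coprime.pow_right _ hx
  obtain ⟨j, hj⟩ := orderOf_of_mem_pgroup hP hxP
  rw [hj] at hx
  apply hx1
  rw [← orderOf_eq_one_iff, hj]
  rcases Nat.eq_zero_or_pos j with h0 | h0
  · rw [h0, pow_zero]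
  · exfalso
    have : p ∣ Nat.gcd (p ^ j) p := Nat.dvd_gcd (dvd_pow_self p h0.ne') dvd_rfl
    rw [hx] at this
    exact hp.out.one_lt.ne' (Nat.dvd_one.1 this)

theorem pCore_quotient_pCore {G : Type*} [Group G] (p : ℕ) :
    Cfsg.pCore p (G ⧸ Cfsg.pCore p G) = ⊥ := by
  set π := QuotientGroup.mk' (Cfsg.pCore p G) with hπ
  have h1 : IsPGroup p ((Cfsg.pCore p (G ⧸ Cfsg.pCore p G)).comap π) := by
    apply IsPGroup.comap_of_ker_isPGroup (pCore_isPGroup p _)
    rw [hπ, QuotientGroup.ker_mk']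
    exact pCore_isPGroup p G
  have h2 : (Cfsg.pCore p (G ⧸ Cfsg.pCore p G)).comap π ≤ Cfsg.pCore p G :=
    le_pCore inferInstance h1
  have h3 := Subgroup.map_mono (f := π) h2
  rw [Subgroup.map_comap_eq_self_of_surjective (QuotientGroup.mk'_surjective _)] at h3
  have h4 : (Cfsg.pCore p G).map π = ⊥ := by
    rw [Subgroup.map_eq_bot_iff, hπ, QuotientGroup.ker_mk']
  rw [h4] at h3
  exact le_bot_iff.1 h3

theorem fitting_card_coprime {G : Type*} [Group G] [Finite G] {p : ℕ} (hp : p.Prime)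
    (h : Cfsg.pCore p G = ⊥) : (Nat.card (Cfsg.fittingSubgroup G)).Coprime p := by
  rw [Nat.coprime_comm, Nat.Prime.coprime_iff_not_dvd hp]
  intro hdvd
  rw [fitting_eq_iSup_pCore, iSup] at hdvd
  obtain ⟨N, ⟨r, rfl⟩, hN⟩ := Cfsg.Agent.Lib.Helper29.exists_dvd_card_of_dvd_card_sSup hp _
    (by rintro _ ⟨r, rfl⟩; infer_instance) hdvd
  have := Fact.mk r.2
  obtain ⟨n, hn⟩ := IsPGroup.iff_card.1 (pCore_isPGroup (r : ℕ) G)
  simp only at hN
  rw [hn] at hN
  have h1 : p = r := (Nat.prime_dvd_prime_iff_eq hp r.2).1 (hp.dvd_of_dvd_pow hN)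
  rw [← h1, h, Subgroup.card_bot] at hn
  rw [← h1, ← hn] at hN
  exact hp.one_lt.ne' (Nat.dvd_one.1 hN)

/-- The three-step case of the structure theorem of solvable CN-groups. -/
theorem isThreeStepGroup_of_cn {G : Type*} [Group G] [Finite G] [Group.IsSolvable G]
    (hCN : Cfsg.IsCNGroup G) (p : ℕ) [hp : Fact p.Prime] (hP1 : Cfsg.pCore p G ≠ ⊥)
    (hC : Subgroup.centralizer (Cfsg.pCore p G : Set G) ≤ Cfsg.pCore p G)
    (hnS : p ∣ (Cfsg.pCore p G).index) : Cfsg.IsThreeStepGroup p G := by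
  set P₀ := Cfsg.pCore p G with hP₀
  have hP₀n : P₀.Normal := inferInstance
  have hP₀p : IsPGroup p P₀ := pCore_isPGroup p G
  have hNtop : ∀ X : Subgroup G, X ≤ Subgroup.normalizer (P₀ : Set G) := by
    intro X; rw [Subgroup.normalizer_eq_top]; exact le_top
  -- the Hall `p'`-subgroup
  have hG0 : Nat.card G ≠ 0 := Nat.card_pos.ne'
  obtain ⟨B, hBcard⟩ := hall_exists (G := G) (ordCompl[p] (Nat.card G)) (ordProj[p] (Nat.card G))
    (by rw [mul_comm]; exact (Nat.ordProj_mul_ordCompl_eq_self _ _).symm)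
    (Nat.Coprime.pow_right _ (Nat.coprime_ordCompl hp.out hG0).symm)
  have hBp : (Nat.card B).Coprime p := by
    rw [hBcard]; exact (Nat.coprime_ordCompl hp.out hG0).symm
  have hBidx : B.index = p ^ (Nat.card G).factorization p := by
    have h1 := B.card_mul_index
    have h3 := Nat.ordProj_mul_ordCompl_eq_self (Nat.card G) p
    rw [hBcard, mul_comm] at h1
    have h2 : 0 < ordCompl[p] (Nat.card G) := Nat.ordCompl_pos p hG0
    exact Nat.eq_of_mul_eq_mul_right h2 (h1.trans h3.symm)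
  have hBfpf : ∀ e ∈ B, e ≠ 1 → P₀ ⊓ Subgroup.centralizer ({e} : Set G) = ⊥ := by
    intro e he he1
    exact fpf_on_self_centralizing hCN P₀ hP₀p hP1 hC e he1
      (Nat.Coprime.coprime_dvd_left (orderOf_dvd_card_of_mem he) hBp)
  have hBnil : Group.IsNilpotent B :=
    nilpotent_of_fpf_cn hCN B P₀ (hNtop B) hP1 inferInstance hBfpf
  have hBP : B ⊓ P₀ = ⊥ := by
    obtain ⟨n, hn⟩ := IsPGroup.iff_card.1 hP₀p
    exact (Subgroup.disjoint_of_coprime_natCard (by rw [hn]; exact Nat.Coprime.pow_right _ hBp)).eq_bot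
  -- the quotient
  set π := QuotientGroup.mk' P₀ with hπ
  have hπs : Function.Surjective π := QuotientGroup.mk'_surjective P₀
  have hker : π.ker = P₀ := QuotientGroup.ker_mk' P₀
  have hπ1 : ∀ g : G, π g = 1 ↔ g ∈ P₀ := by
    intro g
    rw [← MonoidHom.mem_ker, hker]
  have hCN' : Cfsg.IsCNGroup (G ⧸ P₀) := cn_quotient_solvable_aux _ G hCN P₀ inferInstance le_rfl
  set N := Cfsg.fittingSubgroup (G ⧸ P₀) with hN
  have hNn : N.Normal := fitting_normal _
  have hNnil : Group.IsNilpotent N := fitting_nilpotent _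
  have hNC : Subgroup.centralizer (N : Set (G ⧸ P₀)) ≤ N := Cfsg.Agent.S0044.result
  have hNp : (Nat.card N).Coprime p := fitting_card_coprime hp.out (pCore_quotient_pCore p)
  set B' := B.map π with hB'
  have hB'nil : Group.IsNilpotent B' := nilpotent_map π hBnil
  have hB'p : (Nat.card B').Coprime p :=
    Nat.Coprime.coprime_dvd_left (Subgroup.card_map_dvd B π) hBp
  have hcardQ : Nat.card (G ⧸ P₀) = P₀.index := rfl
  -- `B' ≠ ⊤`
  have hB'top : B' ≠ ⊤ := by
    intro h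
    have h1 : Nat.card B' = Nat.card (G ⧸ P₀) := by rw [h, Subgroup.card_top]
    rw [h1, hcardQ] at hB'p
    exact hp.out.one_lt.ne' (Nat.dvd_one.1 (hB'p ▸ Nat.dvd_gcd hnS dvd_rfl))
  -- `N ≤ B'`
  have hNB : N ≤ B' := by
    have h1 : B'.index ∣ p ^ (Nat.card G).factorization p := hBidx ▸ Subgroup.index_map_dvd B hπs
    have h2 : Nat.card (B' ⊔ N : Subgroup (G ⧸ P₀)) ∣ Nat.card B' * Nat.card N :=
      card_sup_dvd_of_normal B' N
    have h3 : (Nat.card (B' ⊔ N : Subgroup (G ⧸ P₀))).Coprime p :=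
      Nat.Coprime.coprime_dvd_left h2 (Nat.Coprime.mul_left hB'p hNp)
    have h4 : B'.relIndex (B' ⊔ N) ∣ p ^ (Nat.card G).factorization p :=
      (Dvd.intro _ (Subgroup.relIndex_mul_index (le_sup_left : B' ≤ B' ⊔ N))).trans h1
    have h5 : B'.relIndex (B' ⊔ N) ∣ Nat.card (B' ⊔ N : Subgroup (G ⧸ P₀)) :=
      Subgroup.relIndex_dvd_card _ _
    have h6 : B'.relIndex (B' ⊔ N) = 1 :=
      Nat.eq_one_of_dvd_coprimes (Nat.Coprime.pow_right _ h3) h5 h4
    exact le_sup_right.trans (Subgroup.relIndex_eq_one.1 h6)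
  have hN1 : N ≠ ⊥ := by
    intro h
    rw [h] at hNC
    have h1 : (⊤ : Subgroup (G ⧸ P₀)) ≤ ⊥ := by
      refine le_trans ?_ hNC
      intro x _
      rw [Subgroup.mem_centralizer_iff]
      intro y hy
      rw [SetLike.mem_coe, Subgroup.mem_bot] at hy
      rw [hy, one_mul, mul_one]
    apply hB'top
    rw [eq_top_iff]
    exact h1.trans bot_le
  -- lifting elements of `B'`
  have hlift : ∀ a' ∈ B', ∃ a ∈ B, π a = a' ∧ orderOf a = orderOf a' := by
    rintro _ ⟨a, ha, rfl⟩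
    refine ⟨a, ha, rfl, ?_⟩
    have hinj : Function.Injective (π.comp B.subtype) := by
      rw [injective_iff_map_eq_one]
      intro x hx
      have h1 : (x : G) ∈ B ⊓ P₀ := ⟨x.2, (hπ1 _).1 hx⟩
      rw [hBP, Subgroup.mem_bot] at h1
      exact Subtype.ext h1
    have := orderOf_injective (π.comp B.subtype) hinj ⟨a, ha⟩
    rw [Subgroup.orderOf_mk] at this
    exact this.symm
  -- uniqueness of subgroups of prime order
  have huniq : ∀ (r : ℕ), r.Prime → ∀ a' ∈ B', ∀ c' ∈ B', orderOf a' = r → orderOf c' = r →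
      c' ∈ Subgroup.zpowers a' := by
    intro r hr a' ha' c' hc' hao hco
    have := Fact.mk hr
    obtain ⟨a, ha, rfl, hao'⟩ := hlift a' ha'
    obtain ⟨c, hc, rfl, hco'⟩ := hlift c' hc'
    obtain ⟨S⟩ : Nonempty (Sylow r B) := inferInstance
    have haS : (⟨a, ha⟩ : B) ∈ (S : Subgroup B) :=
      mem_sylow_of_normal S _ ⟨1, by rw [Subgroup.orderOf_mk, hao', hao, pow_one]⟩
    have hcS : (⟨c, hc⟩ : B) ∈ (S : Subgroup B) :=
      mem_sylow_of_normal S _ ⟨1, by rw [Subgroup.orderOf_mk, hco', hco, pow_one]⟩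
    have hSle : (S : Subgroup B).map B.subtype ≤ B := Subgroup.map_subtype_le _
    have h1 := fpf_pgroup_unique r ((S : Subgroup B).map B.subtype) P₀ (S.2.map _) (hNtop _) hP1
      (fun e he => hBfpf e (hSle he)) (Subgroup.zpowers a) (Subgroup.zpowers c)
      (by rw [Subgroup.zpowers_le]; exact ⟨_, haS, rfl⟩)
      (by rw [Subgroup.zpowers_le]; exact ⟨_, hcS, rfl⟩)
      (by rw [Nat.card_zpowers, hao', hao]) (by rw [Nat.card_zpowers, hco', hco])
    have h2 : c ∈ Subgroup.zpowers a := h1 ▸ Subgroup.mem_zpowers c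
    obtain ⟨i, rfl⟩ := Subgroup.mem_zpowers_iff.1 h2
    rw [map_zpow]
    exact Subgroup.zpow_mem_zpowers _ _
  -- centralizers of elements of `N`
  have hcent : ∀ a' ∈ N, a' ≠ 1 → Subgroup.centralizer ({a'} : Set (G ⧸ P₀)) ≤ N := by
    intro a' ha' ha'1
    have ho : orderOf a' ≠ 1 := fun h => ha'1 (orderOf_eq_one_iff.1 h)
    set r := (orderOf a').minFac with hr
    have hrp : r.Prime := Nat.minFac_prime ho
    have hdvd : r ∣ orderOf a' := Nat.minFac_dvd _
    set b' := a' ^ (orderOf a' / r) with hb'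
    have hb'o : orderOf b' = r := orderOf_pow_orderOf_div (orderOf_pos a').ne' hdvd
    have hb'N : b' ∈ N := N.pow_mem ha' _
    have hb'1 : b' ≠ 1 := by
      intro h
      rw [h, orderOf_one] at hb'o
      exact hrp.one_lt.ne hb'o
    have hXn : (Subgroup.zpowers b').Normal := by
      constructor
      intro x hx g
      obtain ⟨i, rfl⟩ := Subgroup.mem_zpowers_iff.1 hx
      have h1 : g * b' * g⁻¹ ∈ Subgroup.zpowers b' := by
        apply huniq r hrp b' (hNB hb'N) _ (hNB (hNn.conj_mem b' hb'N g)) hb'o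
        rw [← hb'o]
        exact orderOf_injective (MulAut.conj g).toMonoidHom (MulAut.conj g).injective b'
      have h2 : g * b' ^ i * g⁻¹ = (g * b' * g⁻¹) ^ i := by
        rw [conj_zpow]
      rw [h2]
      exact Subgroup.zpow_mem _ h1 i
    have hD : Subgroup.centralizer ((Subgroup.zpowers b' : Subgroup (G ⧸ P₀)) : Set (G ⧸ P₀)) ≤ N := by
      apply le_fitting inferInstance
      refine nilpotent_of_le ?_ (hCN' b' hb'1)
      exact Subgroup.centralizer_le (by simp)
    refine le_trans ?_ hD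
    intro c hc
    rw [Subgroup.mem_centralizer_singleton_iff] at hc
    rw [Subgroup.mem_centralizer_iff]
    intro x hx
    obtain ⟨i, rfl⟩ := Subgroup.mem_zpowers_iff.1 hx
    have h1 : Commute c b' := Commute.pow_right hc _
    exact (h1.zpow_right i).eq.symm
  -- `B' ≤ N`
  have hBN : B' ≤ N := by
    have h1 : N.subgroupOf B' ≠ ⊥ := by
      intro h
      rw [Subgroup.subgroupOf_eq_bot, disjoint_iff, inf_eq_left.2 hNB] at h
      exact hN1 h
    obtain ⟨z, hzN, hzc, hz1⟩ := exists_mem_center_of_normal_of_nilpotent (N.subgroupOf B') h1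
    have hz1' : (z : G ⧸ P₀) ≠ 1 := fun h => hz1 (Subtype.ext h)
    refine le_trans ?_ (hcent (z : G ⧸ P₀) hzN hz1')
    intro b hb
    rw [Subgroup.mem_centralizer_singleton_iff]
    have := (Subgroup.mem_center_iff.1 hzc) ⟨b, hb⟩
    exact congrArg Subtype.val this
  have hBeq : B' = N := le_antisymm hBN hNB
  have hL : P₀ ⊔ B = B'.comap π := by
    rw [hB', Subgroup.comap_map_eq, hker, sup_comm]
  have hB1 : B ≠ ⊥ := by
    intro h
    apply hN1
    rw [← hBeq, hB', h, Subgroup.map_bot]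
  have hBodd : Odd (Nat.card B) := by
    rw [← Nat.not_even_iff_odd, even_iff_two_dvd]
    intro h2
    obtain ⟨t, ht⟩ := exists_prime_orderOf_dvd_card' (G := B) 2 h2
    have htB' : π t ∈ B' := ⟨t, t.2, rfl⟩
    obtain ⟨t₁, ht₁, ht₁π, ht₁o⟩ := hlift _ htB'
    have hto : orderOf (π t) = 2 := by
      have hinj : Function.Injective (π.comp B.subtype) := by
        rw [injective_iff_map_eq_one]
        intro x hx
        have h1 : (x : G) ∈ B ⊓ P₀ := ⟨x.2, (hπ1 _).1 hx⟩
        rw [hBP, Subgroup.mem_bot] at h1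
        exact Subtype.ext h1
      have := orderOf_injective (π.comp B.subtype) hinj t
      rw [ht] at this
      exact this
    have ht1 : π t ≠ 1 := by
      intro h
      rw [h, orderOf_one] at hto
      omega
    apply hB'top
    rw [eq_top_iff, hBeq]
    refine le_trans ?_ (hcent (π t) (hBeq ▸ htB') ht1)
    intro g _
    rw [Subgroup.mem_centralizer_singleton_iff]
    have hconjN : g * π t * g⁻¹ ∈ N := hNn.conj_mem _ (hBeq ▸ htB') g
    have hconjo : orderOf (g * π t * g⁻¹) = 2 := by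
      rw [← hto]
      exact orderOf_injective (MulAut.conj g).toMonoidHom (MulAut.conj g).injective (π t)
    have h3 := huniq 2 Nat.prime_two (π t) htB' _ (hNB hconjN) hto hconjo
    obtain ⟨i, hi⟩ := Subgroup.mem_zpowers_iff.1 h3
    have hsq : (π t) ^ (2 : ℤ) = 1 := by
      have := pow_orderOf_eq_one (π t)
      rw [hto] at this
      exact_mod_cast this
    rcases Int.even_or_odd' i with ⟨m, rfl | rfl⟩
    · exfalso
      rw [zpow_mul, hsq, one_zpow] at hi
      rw [← hi, orderOf_one] at hconjo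
      omega
    · rw [zpow_add, zpow_mul, hsq, one_zpow, one_mul, zpow_one] at hi
      calc g * π t = (g * π t * g⁻¹) * g := by group
        _ = π t * g := by rw [← hi]
  refine ⟨hP1, B, hB1, ?_, hBodd, hBp, ?_, ?_, ?_, hBfpf, ?_⟩
  · exact fpf_odd_nilpotent_isCyclic B P₀ (hNtop B) hP1 hBfpf hBnil hBodd
  · rw [hL, hBeq]; infer_instance
  · intro h
    apply hB'top
    rw [hL] at h
    have := congrArg (Subgroup.map π) h
    rwa [Subgroup.map_comap_eq_self_of_surjective hπs, Subgroup.map_top_of_surjective π hπs] at this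
  · have h1 : (P₀ ⊔ B).index ∣ p ^ (Nat.card G).factorization p :=
      hBidx ▸ Subgroup.index_dvd_of_le le_sup_right
    obtain ⟨n, -, hn⟩ := (Nat.dvd_prime_pow hp.out).1 h1
    exact ⟨n, hn⟩
  · intro x hx a ha ha1 hmem
    apply hx
    rw [hL, Subgroup.mem_comap, hBeq]
    have hπa : π a ≠ 1 := by
      intro h
      have h1 : a ∈ B ⊓ P₀ := ⟨ha, (hπ1 _).1 h⟩
      rw [hBP, Subgroup.mem_bot] at h1
      exact ha1 h1
    apply hcent (π a) (hBeq ▸ (⟨a, ha, rfl⟩ : π a ∈ B')) hπa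
    rw [Subgroup.mem_centralizer_singleton_iff]
    have h1 := (hπ1 _).2 hmem
    simp only [map_mul, map_inv] at h1
    calc π x * π a = (π x * π a * (π x)⁻¹ * (π a)⁻¹) * (π a * π x) := by group
      _ = π a * π x := by rw [h1, one_mul]

end Cfsg.Agent.Lib.Helper31
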