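import Cfsg.Agent.Lib.Helper31.BG134B

/-!
Bender-Glauberman Theorem 13.4 (statement S1428), from the texts up to S1423 (`Texts0`) and the
"core" case `q ∉ σ(H)` (taken as a hypothesis `Core1428`).
-/

set_option autoImplicit false

namespace Cfsg.Agent.Lib.Helper31.BG134

open Subgroup Cfsg.Agent.Lib.Helper30 Cfsg.Agent.Lib.Helper2 Cfsg.Agent.Lib.Helper2.BG12
  Cfsg.Agent.Lib.Helper2.BG139 Cfsg.Agent.Lib.Helper68
open Cfsg.Agent.Lib.Helper58.BG13 (exists_comm_pgroup not_conj_of_cyclic sigma_cj lemmaK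
  exists_sylow_top_of_mem_sigma commutator_le_centralizer)
open Cfsg.Agent.Lib.Helper28.BG12 (isPGroup_le_sigmaCore ne_two_of_isPGroup
  pRankLE_two_of_not_mem_sigma not_mem_sigma_of_dvd_compl alphaCore_le)

universe u

variable {G : Type u} [Group G]

/-- The case `q ∉ σ(H)` of B-G 13.4. -/
def Core1428 (G : Type u) [Group G] : Prop :=
  ∀ (M H : Subgroup G) (p r q : ℕ) [Fact p.Prime] [Fact r.Prime] [Fact q.Prime]
    (P R Y : Subgroup G), IsCoatom M → IsCoatom H → p ∈ Cfsg.tau1 M → P ≤ M → Nat.card P = p →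
    R ≤ M → R ≤ centralizer (P : Set G) → Nat.card R = r → r ≠ p → r ∉ Cfsg.sigma M →
    q ∈ Cfsg.sigma M → Y ≠ ⊥ → Y ≤ M → IsPGroup q Y → Y ≤ centralizer (P : Set G) →
    R ≤ normalizer (Y : Set G) → ⁅Y, R⁆ = Y → normalizer (P : Set G) ≤ H → q ∉ Cfsg.sigma H → False

theorem ne_top_of_le_coatom {M X : Subgroup G} (hM : IsCoatom M) (hX : X ≤ M) : X ≠ ⊤ :=
  fun e => hM.1 (top_le_iff.1 (e ▸ hX))

/-- `H ∈ 𝓜(N(P))`, `p ∈ τ₁(M)`: `p ∈ σ(H) ∪ τ₂(H)` and `H` is not conjugate to `M`. -/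
theorem setup_H [Finite G] (T : Texts0 G) {M H : Subgroup G} (hH : IsCoatom H)
    {p : ℕ} [hpp : Fact p.Prime] (hp : p ∈ Cfsg.tau1 M) {P : Subgroup G} (hPM : P ≤ M)
    (hP : Nat.card P = p) (hNP : normalizer (P : Set G) ≤ H) :
    (p ∈ Cfsg.sigma H ∨ p ∈ Cfsg.tau2 H) ∧ ∀ g : G, H ≠ cj g M := by
  have hor : p ∈ Cfsg.sigma H ∨ p ∈ Cfsg.tau2 H := by
    by_cases hpH : p ∈ Cfsg.sigma H
    · exact Or.inl hpH
    · have := T.t09 H hH p hpH P hP hNP
      exact Or.inr ⟨hpp.out, hpH, this.1, this.2⟩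
  refine ⟨hor, ?_⟩
  have hPp := isPGroup_of_card_eq_prime hP
  have hp2 : p ≠ 2 := ne_two_of_isPGroup T.hG hPp (ne_bot_of_card_eq_prime hP)
  obtain ⟨P₁, hP₁, -⟩ := exists_isSylowIn_ge hPM hPp
  exact not_conj_of_cyclic hP₁ (isCyclic_of_pRankLE_one hp.2.2.2.2 hP₁.le hp2 hP₁.isPGroup)
    hp.2.1 hor

theorem claimA [Finite G] (T : Texts0 G) (core : Core1428 G) {M : Subgroup G} (hM : IsCoatom M)
    {p r : ℕ} [hpp : Fact p.Prime] [hrr : Fact r.Prime] (hp : p ∈ Cfsg.tau1 M) {P R : Subgroup G}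
    (hPM : P ≤ M) (hP : Nat.card P = p) (hRM : R ≤ M) (hRP : R ≤ centralizer (P : Set G))
    (hR : Nat.card R = r) (hrp : r ≠ p) (hrσ : r ∉ Cfsg.sigma M) :
    Cfsg.alphaCore M ⊓ centralizer (P : Set G) ≤ centralizer (R : Set G) := by
  by_contra hcon
  have hG := T.hG
  have hRD : R ≤ normalizer ((Cfsg.alphaCore M ⊓ centralizer (P : Set G) : Subgroup G) : Set G) :=
    le_normalizer_inf (hRM.trans (le_normalizer_piCoreOf _ M)) (hRP.trans le_normalizer)
  have hrα : r ∉ Cfsg.alpha M := fun h => hrσ (mem_sigma_of_mem_alpha hG T.hU hM h)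
  have hco : (Nat.card R).Coprime
      (Nat.card (Cfsg.alphaCore M ⊓ centralizer (P : Set G) : Subgroup G)) := by
    rw [hR, Nat.Prime.coprime_iff_not_dvd hrr.out]
    intro hd
    exact hrα ((T.t05 M hM).2.1 r hrr.out (hd.trans (card_dvd_of_le inf_le_left)))
  have hRsol := solvable_of_ne_top hG (ne_top_of_le_coatom hM hRM)
  obtain ⟨q, hq, Y, hqD, hYD, hYq, hY1, hRY, hYR⟩ := exists_comm_pgroup hRD hco (Or.inl hRsol) hcon
  have hqα : q ∈ Cfsg.alpha M :=
    (T.t05 M hM).2.1 q hq.out (hqD.trans (card_dvd_of_le inf_le_left))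
  have hqσ := mem_sigma_of_mem_alpha hG T.hU hM hqα
  obtain ⟨H, hH, hNP⟩ := exists_coatom_ge
    (normalizer_ne_top hG (ne_bot_of_card_eq_prime hP) (ne_top_of_le_coatom hM hPM))
  obtain ⟨-, hnc⟩ := setup_H T hH hp hPM hP hNP
  have hqH : q ∉ Cfsg.sigma H := by
    intro hqH
    exact alpha_sigma_disjoint hG T.hU hH hM (fun g hg => hnc g⁻¹ (by rw [hg, cj_inv_cj])) hqH hqα
  exact core M H p r q P R Y hM hH hp hPM hP hRM hRP hR hrp hrσ hqσ hY1
    (hYD.trans (inf_le_left.trans (alphaCore_le M))) hYq (hYD.trans inf_le_right) hRY hYR hNP hqH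

theorem no_config [Finite G] (T : Texts0 G) (h16 : Cfsg.Agent.Lib.Helper58.BG12.C16 G)
    (core : Core1428 G) {M H : Subgroup G} {p r q : ℕ} [hpp : Fact p.Prime] [hrr : Fact r.Prime]
    [hqq : Fact q.Prime] {P R Y : Subgroup G} (hM : IsCoatom M) (hH : IsCoatom H)
    (hp : p ∈ Cfsg.tau1 M) (hPM : P ≤ M) (hP : Nat.card P = p) (hRM : R ≤ M)
    (hRP : R ≤ centralizer (P : Set G)) (hR : Nat.card R = r) (hrp : r ≠ p)
    (hrσ : r ∉ Cfsg.sigma M) (hqσ : q ∈ Cfsg.sigma M) (hY1 : Y ≠ ⊥) (hYM : Y ≤ M)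
    (hYq : IsPGroup q Y) (hYP : Y ≤ centralizer (P : Set G)) (hRY : R ≤ normalizer (Y : Set G))
    (hYR : ⁅Y, R⁆ = Y) (hNP : normalizer (P : Set G) ≤ H) : False := by
  by_cases hqH : q ∈ Cfsg.sigma H
  swap
  · exact core M H p r q P R Y hM hH hp hPM hP hRM hRP hR hrp hrσ hqσ hY1 hYM hYq hYP hRY hYR
      hNP hqH
  have hG := T.hG
  obtain ⟨hpH, hnc⟩ := setup_H T hH hp hPM hP hNP
  have hCN : centralizer (P : Set G) ≤ H := (centralizer_le_normalizer' P).trans hNP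
  have hYH : Y ≤ H := hYP.trans hCN
  have hRH : R ≤ H := hRP.trans hCN
  have hPH : P ≤ H := le_normalizer.trans hNP
  have hqr : q ≠ r := fun e => hrσ (e ▸ hqσ)
  have hne : H ≠ M := fun e => hnc 1 (by rw [cj_one]; exact e)
  have hPp := isPGroup_of_card_eq_prime hP
  have hRp := isPGroup_of_card_eq_prime hR
  have hP1 : P ≠ ⊥ := ne_bot_of_card_eq_prime hP
  -- a configuration for `H` and a conjugate of `M`
  obtain ⟨SH, hSH, hYSH⟩ := exists_isSylowIn_ge hYH hYq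
  have hSHtop := sylow_top_of_mem_sigma hqH hSH
  obtain ⟨QM, hQM, hQMM, -⟩ := exists_sylow_top_of_mem_sigma hqσ
  obtain ⟨g, -, hg⟩ := hQM.conj hSHtop
  have hM₁ : IsCoatom (cj g M) := Cfsg.Agent.Lib.Helper58.BG9.isCoatom_cj hM g
  have hSM₁ : SH ≤ cj g M := hg ▸ cj_mono g hQMM
  have c₁ : Cfg q (cj g M) H SH :=
    Cfg.of_ne hM₁ hH (hnc g) (sigma_cj hqσ g) hqH hSHtop hSM₁ hSH.le
  have c₁' := c₁.symm
  have hpσH : p ∈ Cfsg.sigma H := hpH.resolve_right (c₁'.tau2_empty0 T)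
  have hqαH : q ∉ Cfsg.alpha H := (c₁'.not_alpha0 T).2
  have hHα : Cfsg.alphaCore H ≠ ⊥ := c₁'.alphaCore_ne_bot0 T
  -- `Y` is abelian and `R` acts without fixed points
  have hYc : IsMulCommutative Y := by
    have := c₁.comm0 T
    refine ⟨⟨fun a b => Subtype.ext ?_⟩⟩
    exact congrArg (Subtype.val : SH → G)
      (this.is_comm.comm (⟨a.1, hYSH a.2⟩ : SH) ⟨b.1, hYSH b.2⟩)
  have hcoYR : (Nat.card Y).Coprime (Nat.card R) := by
    rw [hR]
    exact Cfsg.Agent.Lib.Helper58.BG13.coprime_card_of_isPGroup hqr hYq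
  have hfpf : Y ⊓ centralizer (R : Set G) = ⊥ := by
    have := Cfsg.Agent.Lib.Helper69.commutator_inf_centralizer_eq_bot Y R hYc hRY hcoYR
    rwa [hYR] at this
  -- `p ∈ α(H)`
  have hpαH : p ∈ Cfsg.alpha H := by
    by_contra hpα
    have hpβ : p ∉ Cfsg.beta H := fun h => hpα h.1
    have h1 : ⁅H, H⁆ ≤ Cfsg.piCoreOf (Cfsg.beta H) H ⊔
        ⁅normalizer (SH : Set G), normalizer (SH : Set G)⁆ :=
      commutator_le_sup_of_factor (le_normalizer_piCoreOf _ H) c₁'.hDM (c₁'.factor0 T)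
    have h2 : P ≤ ⁅H, H⁆ :=
      (isPGroup_le_sigmaCore hG hH hpσH hPH hPp).trans (sigmaCore_le_commutator0 T hH)
    have h3 : ⁅normalizer (SH : Set G), normalizer (SH : Set G)⁆ ≤ ⁅cj g M, cj g M⁆ :=
      commutator_mono c₁.hDM c₁.hDM
    have h4 : ¬ p ∣ Nat.card ↥⁅normalizer (SH : Set G), normalizer (SH : Set G)⁆ := by
      intro hd
      have := hd.trans (card_dvd_of_le h3)
      rw [← cj_commutator, card_cj] at this
      exact hp.2.2.2.1 this
    have h5 : P ≤ Cfsg.piCoreOf (Cfsg.beta H) H :=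
      Cfsg.Agent.Lib.Helper31.bg11_le_of_le_sup
        (((commutator_le_self _).trans c₁'.hDM).trans (le_normalizer_piCoreOf _ H)) (h2.trans h1)
        (by rw [hP]; exact (Nat.Prime.coprime_iff_not_dvd hpp.out).2 h4)
    exact hpβ (piCoreOf_isPi _ H p hpp.out (hP ▸ card_dvd_of_le h5))
  -- `r ∈ τ₁(H)`
  have hrH : r ∈ Cfsg.tau1 H := by
    have hd : r ∣ Nat.card H := hR ▸ card_dvd_of_le hRH
    have hYH' : Y ≤ ⁅H, H⁆ := by rw [← hYR]; exact commutator_mono hYH hRH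
    have hqβ : q ∉ Cfsg.beta H := fun h => hqαH h.1
    have hK : R ≤ ⁅H, H⁆ → False := by
      intro hRH'
      have h0 := lemmaK hG hH hqβ hYq hY1 hYH' hRH'
        (by rw [hR]; exact (Nat.coprime_primes hrr.out hqq.out).2 hqr.symm) hRY
      have h1 : ⁅Y, R⁆ = ⊥ := by
        rw [commutator_eq_bot_iff_le_centralizer]; exact le_centralizer_iff.1 h0
      exact hY1 (hYR ▸ h1)
    rcases tau_cases hG hH hrr.out hd with h | h | h | h
    · exact (hK ((isPGroup_le_sigmaCore hG hH h hRH hRp).trans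
        (sigmaCore_le_commutator0 T hH))).elim
    · exact h
    · exact (c₁'.tau2_empty0 T h).elim
    · exact (hK (le_commutator_of_tau3 hG h hRH hR)).elim
  have hPα : P ≤ Cfsg.alphaCore H :=
    Cfsg.Agent.Lib.Helper14.BG12.isPGroup_le_alphaCore hG hH hpαH hPH hPp
  by_cases hN : ∀ L : Subgroup G, IsCoatom L → normalizer (Y : Set G) ≤ L → L = H
  swap
  · have h0 := (bg1218a T hH hrH hqr hqαH hRH hR hYH hYq hRY hfpf hHα hN).2
    have hle : P ≤ Cfsg.alphaCore H ⊓ centralizer (Y : Set G) ⊓ centralizer (R : Set G) :=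
      le_inf (le_inf hPα (le_centralizer_iff.1 hYP)) (le_centralizer_iff.1 hRP)
    exact hP1 (le_bot_iff.1 (h0 ▸ hle))
  -- now `N(Y) ≤ H`
  obtain ⟨L, hL, hNL⟩ := exists_coatom_ge (normalizer_ne_top hG hY1 (ne_top_of_le_coatom hM hYM))
  have hNY : normalizer (Y : Set G) ≤ H := (hN L hL hNL) ▸ hNL
  obtain ⟨S, hS, hYS⟩ := exists_isSylowIn_ge (le_inf hYM hYH) hYq
  obtain ⟨-, -, hnd⟩ := Cfsg.Agent.Lib.Helper58.BG12.bg1215 hG h16 hM hqσ hYq hY1 hYM hH hne hNY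
    hS hYS
  have hSH' : IsSylowIn q S H := ⟨hS.le.trans inf_le_right, hS.isPGroup, hnd⟩
  have c₂ : Cfg q M H S := Cfg.of_ne hM hH hne hqσ hqH (sylow_top_of_mem_sigma hqH hSH')
    (hS.le.trans inf_le_left) hSH'.le
  have hMα := c₂.alphaCore_ne_bot0 T
  have hqαM := (c₂.not_alpha0 T).2
  have hrM : r ∈ Cfsg.tau1 M := by
    refine ⟨hrr.out, hrσ, hR ▸ card_dvd_of_le hRM, ?_, ?_⟩
    · intro hd
      obtain ⟨x, hx⟩ := exists_prime_orderOf_dvd_card' (G := ↥⁅M, M⁆) r hd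
      have hxo : orderOf (x : G) = r := by rw [Subgroup.orderOf_coe, hx]
      have hZc : Nat.card (zpowers (x : G)) = r := by rw [Nat.card_zpowers, hxo]
      have hZM' : zpowers (x : G) ≤ ⁅M, M⁆ := by rw [zpowers_le]; exact x.2
      have h1 : ⁅M, M⁆ ≤ Cfsg.piCoreOf (Cfsg.beta M) M ⊔
          ⁅normalizer (S : Set G), normalizer (S : Set G)⁆ :=
        commutator_le_sup_of_factor (le_normalizer_piCoreOf _ M) c₂.hDM (c₂.factor0 T)
      have h4 : ¬ r ∣ Nat.card ↥⁅normalizer (S : Set G), normalizer (S : Set G)⁆ := fun hd' =>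
        hrH.2.2.2.1 (hd'.trans (card_dvd_of_le (commutator_mono c₂.hDN c₂.hDN)))
      have h5 : zpowers (x : G) ≤ Cfsg.piCoreOf (Cfsg.beta M) M :=
        Cfsg.Agent.Lib.Helper31.bg11_le_of_le_sup
          (((commutator_le_self _).trans c₂.hDM).trans (le_normalizer_piCoreOf _ M))
          (hZM'.trans h1) (by rw [hZc]; exact (Nat.Prime.coprime_iff_not_dvd hrr.out).2 h4)
      have h6 : r ∈ Cfsg.beta M := piCoreOf_isPi _ M r hrr.out (hZc ▸ card_dvd_of_le h5)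
      exact hrσ (mem_sigma_of_mem_alpha hG T.hU hM h6.1)
    · by_contra h1
      exact c₂.tau2_empty0 T ⟨hrr.out, hrσ, pRankLE_two_of_not_mem_sigma hG hM hrr.out hrσ, h1⟩
  have hA1 := claimA T core hM hp hPM hP hRM hRP hR hrp hrσ
  have hA2 := claimA T core hM hrM hRM hR hPM (le_centralizer_iff.1 hRP) hP hrp.symm hp.2.1
  have hW : Cfsg.alphaCore M ⊓ centralizer (R : Set G) =
      Cfsg.alphaCore M ⊓ centralizer (P : Set G) :=
    le_antisymm (le_inf inf_le_left hA2) (le_inf inf_le_left hA1)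
  have hN' : ¬ ∀ L : Subgroup G, IsCoatom L → normalizer (Y : Set G) ≤ L → L = M :=
    fun h => hne (h H hH hNY)
  obtain ⟨hne1, hbot⟩ := bg1218a T hM hrM hqr hqαM hRM hR hYM hYq hRY hfpf hMα hN'
  have hYW : Y ≤ normalizer ((Cfsg.alphaCore M ⊓ centralizer (R : Set G) : Subgroup G) : Set G) := by
    rw [hW]
    exact le_normalizer_inf (hYM.trans (le_normalizer_piCoreOf _ M)) (hYP.trans le_normalizer)
  have hRW : R ≤ centralizer ((Cfsg.alphaCore M ⊓ centralizer (R : Set G) : Subgroup G) : Set G) :=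
    le_centralizer_iff.1 inf_le_right
  have hYcW : Y ≤ centralizer ((Cfsg.alphaCore M ⊓ centralizer (R : Set G) : Subgroup G) : Set G) := by
    have := commutator_le_centralizer hYW hRW
    rwa [hYR] at this
  exact hne1 (le_bot_iff.1
    (hbot ▸ le_inf (le_inf inf_le_left (le_centralizer_iff.1 hYcW)) inf_le_right))

/-- The text of S1428 from the texts up to S1423, the first part of S1416 and the core case. -/
theorem S1428_of [Finite G] (T : Texts0 G) (h16 : Cfsg.Agent.Lib.Helper58.BG12.C16 G)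
    (core : Core1428 G) : T1428 G := by
  intro M hM E hE p hp P hPE hP R hRE hRr
  have hG := T.hG
  have hpp : Fact p.Prime := ⟨hp.1⟩
  obtain ⟨r, hr⟩ : ∃ r, Nat.card R = r := ⟨_, rfl⟩
  have hrr : Fact r.Prime := ⟨hr ▸ hRr⟩
  have hEM : E ≤ M := hE.1
  have hPM : P ≤ M := hPE.trans hEM
  have hRM : R ≤ M := (hRE.trans inf_le_left).trans hEM
  have hRP : R ≤ centralizer (P : Set G) := hRE.trans inf_le_right
  have hPp := isPGroup_of_card_eq_prime hP
  have hRp := isPGroup_of_card_eq_prime hr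
  refine le_inf inf_le_left ?_
  by_cases hrp : r = p
  · subst hrp
    have h1 : IsPGroup r (P ⊔ R : Subgroup G) :=
      IsPGroup.to_sup_of_normal_right' hPp hRp
        ((le_centralizer_iff.1 hRP).trans (centralizer_le_normalizer' R))
    have hp2 : r ≠ 2 := ne_two_of_isPGroup hG hPp (ne_bot_of_card_eq_prime hP)
    have h2 : IsCyclic (P ⊔ R : Subgroup G) :=
      isCyclic_of_pRankLE_one hp.2.2.2.2 (sup_le hPM hRM) hp2 h1
    have h3 : P = R := eq_of_card_eq_of_le_isCyclic h2 le_sup_left le_sup_right (by rw [hP, hr])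
    rw [← h3]
    exact inf_le_right
  · by_contra hcon
    have hrσ : r ∉ Cfsg.sigma M := not_mem_sigma_of_dvd_compl hG hM hE hrr.out
      (hr ▸ card_dvd_of_le (hRE.trans inf_le_left))
    have hRD : R ≤ normalizer ((Cfsg.sigmaCore M ⊓ centralizer (P : Set G) : Subgroup G) : Set G) :=
      le_normalizer_inf (hRM.trans (le_normalizer_piCoreOf _ M)) (hRP.trans le_normalizer)
    have hco : (Nat.card R).Coprime
        (Nat.card (Cfsg.sigmaCore M ⊓ centralizer (P : Set G) : Subgroup G)) := by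
      rw [hr, Nat.Prime.coprime_iff_not_dvd hrr.out]
      intro hd
      exact hrσ ((T.t50 M hM).2.1 r hrr.out (hd.trans (card_dvd_of_le inf_le_left)))
    have hRsol := solvable_of_ne_top hG (ne_top_of_le_coatom hM hRM)
    obtain ⟨q, hq, Y, hqD, hYD, hYq, hY1, hRY, hYR⟩ :=
      exists_comm_pgroup hRD hco (Or.inl hRsol) hcon
    have hqσ : q ∈ Cfsg.sigma M :=
      (T.t50 M hM).2.1 q hq.out (hqD.trans (card_dvd_of_le inf_le_left))
    obtain ⟨H, hH, hNP⟩ := exists_coatom_ge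
      (normalizer_ne_top hG (ne_bot_of_card_eq_prime hP) (ne_top_of_le_coatom hM hPM))
    exact no_config T h16 core hM hH hp hPM hP hRM hRP hr hrp hrσ hqσ hY1
      (hYD.trans (inf_le_left.trans (Cfsg.Agent.Lib.Helper28.BG12.sigmaCore_le M))) hYq
      (hYD.trans inf_le_right) hRY hYR hNP

end Cfsg.Agent.Lib.Helper31.BG134
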