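import Cfsg.Agent.Lib.Helper58.BG1212a
import Cfsg.Agent.Lib.Helper31.BG11_4b
import Cfsg.Agent.Lib.Helper13.BG127Main
import Cfsg.Agent.Lib.Helper28.BG16a

/-!
Ladder BG1212 (S1421), rung LINE: an `E`-invariant regular line which is `Ω₁` of a cyclic subgroup
of maximal order of the Sylow `p`-subgroup `S` of `E` (abelian case).
RED, ABN, NORM enter as explicit hypotheses in `exists_line_of`.
-/

set_option autoImplicit false

namespace Cfsg.Agent.Lib.Helper31.BG1212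

open Subgroup Cfsg.Agent.Lib.Helper30 Cfsg.Agent.Lib.Helper58.BG1212
open scoped commutatorElement

universe u

variable {G : Type u} [Group G]

/-- an element of maximal order of a nontrivial finite `p`-group. -/
theorem line_exists_max [Finite G] {p : ℕ} [hpp : Fact p.Prime] {S : Subgroup G}
    (hS : IsPGroup p S) (hS1 : S ≠ ⊥) :
    ∃ (u : G) (a : ℕ), u ∈ S ∧ orderOf u = p ^ (a + 1) ∧ ∀ w ∈ S, w ^ p ^ (a + 1) = 1 := by
  classical
  obtain ⟨u, hu, hmax⟩ := Set.exists_max_image (S : Set G) orderOf (Set.toFinite _) ⟨1, S.one_mem⟩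
  have hord : ∀ w ∈ S, ∃ k, orderOf w = p ^ k := by
    intro w hw
    obtain ⟨k, hk⟩ := hS ⟨w, hw⟩
    have h1 : w ^ p ^ k = 1 := congrArg Subtype.val hk
    obtain ⟨j, -, hj⟩ := (Nat.dvd_prime_pow hpp.out).mp (orderOf_dvd_of_pow_eq_one h1)
    exact ⟨j, hj⟩
  obtain ⟨k, hk⟩ := hord u hu
  have hk0 : k ≠ 0 := by
    rintro rfl
    rw [pow_zero] at hk
    apply hS1
    rw [eq_bot_iff]
    intro w hw
    have h1 := hmax w hw
    rw [hk] at h1
    rw [mem_bot]
    exact orderOf_eq_one_iff.mp (le_antisymm h1 (orderOf_pos w))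
  obtain ⟨a, rfl⟩ := Nat.exists_eq_succ_of_ne_zero hk0
  refine ⟨u, a, hu, hk, ?_⟩
  intro w hw
  obtain ⟨j, hj⟩ := hord w hw
  have h1 := hmax w hw
  rw [hk, hj] at h1
  have h2 : j ≤ a + 1 := (Nat.pow_le_pow_iff_right hpp.out.one_lt).mp h1
  apply orderOf_dvd_iff_pow_eq_one.mp
  rw [hj]
  exact pow_dvd_pow p h2

/-- if `v ^ p ^ a ≠ 1` and `v ^ p ^ (a+1) = 1` then `v` has order `p ^ (a+1)`. -/
theorem line_orderOf {p : ℕ} [hpp : Fact p.Prime] {v : G} {a : ℕ} (h1 : v ^ p ^ (a + 1) = 1)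
    (h2 : v ^ p ^ a ≠ 1) : orderOf v = p ^ (a + 1) :=
  orderOf_eq_prime_pow h2 h1

section main

variable [Finite G] (hG : Cfsg.IsMinSimpleOddOrder G) {M E : Subgroup G} (hM : IsCoatom M)
  (hE : Cfsg.IsComplIn E (Cfsg.sigmaCore M) M)

include hG hM hE

/-- a singular line of `A` is moved to a regular line by every `n ∈ N(A) \ M`; more generally a line
`X ≤ A` and `n ∉ M` with `X` and `cj n X` both singular do not exist. -/
theorem line_reg_of_cj {p : ℕ} [Fact p.Prime] (hp : p ∈ Cfsg.tau2 M) {A : Subgroup G} (hAE : A ≤ E)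
    (hA : Cfsg.IsElementaryAbelian p A) (hA2 : Nat.card A = p ^ 2) {X : Subgroup G} (hXA : X ≤ A)
    (hX : Nat.card X = p) (hXs : Cfsg.sigmaCore M ⊓ centralizer (X : Set G) ≠ ⊥) {n : G}
    (hnA : n ∈ normalizer (A : Set G)) (hnM : n ∉ M) :
    Cfsg.sigmaCore M ⊓ centralizer ((cj n X : Subgroup G) : Set G) = ⊥ := by
  by_contra hcon
  have h18 := (Cfsg.Agent.S1418.result hG M hM E hE p hp A ⟨hAE, hA, hA2⟩).2.2
  have hcjA : cj n X ≤ A := by
    have := cj_mono n hXA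
    rwa [cj_eq_of_mem_normalizer hnA] at this
  obtain ⟨h1, -⟩ := h18 X hXA hX hXs
  obtain ⟨-, h2⟩ := h18 (cj n X) hcjA (by rw [card_cj, hX]) hcon
  have h3 : centralizer ((cj n X : Subgroup G) : Set G) ≤ cj n M := by
    intro c hc
    rw [mem_cj]
    apply h1
    rw [mem_centralizer_iff] at hc ⊢
    intro x hx
    have h4 := hc (n * x * n⁻¹) (conj_mem_cj hx)
    calc x * (n⁻¹ * c * n) = n⁻¹ * ((n * x * n⁻¹) * c) * n := by group
      _ = n⁻¹ * (c * (n * x * n⁻¹)) * n := by rw [h4]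
      _ = n⁻¹ * c * n * x := by group
  have h5 := h2 (cj n M) (Cfsg.Agent.Lib.Helper28.BG12.isCoatom_cj hM n) h3
  exact Cfsg.Agent.Lib.Helper13.BG127.cj_ne_of_not_mem hG hM
    (Cfsg.Agent.Lib.Helper28.BG12.coatom_ne_bot hG hM) hnM h5

/-- LINE, with RED, ABN, NORM as hypotheses. -/
theorem exists_line_of (hab : AbTau2 M) {p : ℕ} [hpp : Fact p.Prime]
    (hp : p ∈ Cfsg.tau2 M) {S : Subgroup G} (hS : IsSylowIn p S E)
    (hRED : ∀ A : Subgroup G, A ≤ E → Cfsg.IsElementaryAbelian p A → Nat.card A = p ^ 2 →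
      ∃ X : Subgroup G, X ≤ A ∧ Nat.card X = p ∧ E ≤ normalizer (X : Set G))
    (hABN : ∀ A : Subgroup G, Cfsg.IsElementaryAbelian p A → Nat.card A = p ^ 2 →
      ⁅normalizer (A : Set G), normalizer (A : Set G)⁆ ≤ centralizer (A : Set G))
    (hNORM : E ≤ normalizer (S : Set G)) :
    ∃ X : Subgroup G, Nat.card X = p ∧ E ≤ normalizer (X : Set G) ∧
      Cfsg.sigmaCore M ⊓ centralizer (X : Set G) = ⊥ ∧
      ∃ u ∈ S, (∀ w ∈ S, w ^ orderOf u = 1) ∧ X ≤ zpowers u := by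
  obtain ⟨A, hAE, hA, hA2⟩ := Cfsg.Agent.Lib.Helper28.BG12.exists_ea_sq_in_compl hG hM hE hp
  have hAp := Cfsg.Agent.Lib.Helper2.ea_isPGroup hA
  have hSc := hab p hp S hS.isPGroup
  -- `A ≤ S`
  have hAS : A ≤ S := by
    have h1 : IsPGroup p ↥(A ⊔ S) :=
      IsPGroup.to_sup_of_normal_right' hAp hS.isPGroup (hAE.trans hNORM)
    have h2 := hS.eq_of_le (V := A ⊔ S) (sup_le hAE hS.le) h1 le_sup_right
    rw [← h2]
    exact le_sup_left
  have hA1 : A ≠ ⊥ := Cfsg.Agent.Lib.Helper13.BG127.ne_bot_of_card_sq hA2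
  have hS1 : S ≠ ⊥ := fun h => hA1 (eq_bot_iff.mpr (h ▸ hAS))
  have hom := omega_eq hG hM hE hp hAE hA hA2 hS.le
  have h18 := Cfsg.Agent.S1418.result hG M hM E hE p hp A ⟨hAE, hA, hA2⟩
  -- `N(S) ≰ M`
  have hSM := Cfsg.Agent.Lib.Helper58.BG13.isSylowIn_of_compl hG hM hE hS hp.2.1
  have hNS : ¬ normalizer (S : Set G) ≤ M := by
    obtain ⟨P, hP⟩ := hSM.exists_sylow
    have h17 := ((Cfsg.Agent.S1417.result hG M hM p hp A ⟨hAE.trans hE.1, hA, hA2⟩).2.1 P).2
    rw [hP] at h17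
    exact (h17 hAS).2
  obtain ⟨u0, a, hu0, hou0, hmax⟩ := line_exists_max hS.isPGroup hS1
  -- powers
  have hpow : ∀ w ∈ S, w ^ p ^ a ∈ A := by
    intro w hw
    rw [← hom _ (S.pow_mem hw _), ← pow_mul, ← pow_succ]
    exact hmax w hw
  set x0 := u0 ^ p ^ a with hx0
  have hx01 : x0 ≠ 1 := by
    intro h
    have h1 := orderOf_dvd_of_pow_eq_one h
    rw [hou0] at h1
    have h2 := (Nat.pow_dvd_pow_iff_le_right hpp.out.one_lt).mp h1
    omega
  have hx0A : x0 ∈ A := hpow u0 hu0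
  have hox0 : orderOf x0 = p := orderOf_eq_prime (hA.2 x0 hx0A) hx01
  -- lifting of a line whose generator is a `p ^ a`-th power
  have hlift : ∀ (X : Subgroup G) (v : G), v ∈ S → Nat.card X = p → v ^ p ^ a ∈ X → v ^ p ^ a ≠ 1 →
      ∃ u ∈ S, (∀ w ∈ S, w ^ orderOf u = 1) ∧ X ≤ zpowers u := by
    intro X v hv hX hvX hv1
    refine ⟨v, hv, ?_, ?_⟩
    · rw [line_orderOf (hmax v hv) hv1]
      exact hmax
    · have h1 : zpowers (v ^ p ^ a) = X := by
        apply Subgroup.eq_of_le_of_card_ge (by rwa [zpowers_le])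
        rw [hX, Nat.card_zpowers, orderOf_eq_prime (hA.2 _ (hpow v hv)) hv1]
      rw [← h1, zpowers_le]
      exact Subgroup.pow_mem _ (mem_zpowers v) _
  by_cases hcase : ∀ w ∈ S, w ^ p ^ a ∈ zpowers x0
  · -- the image of the power map is a line, invariant under `N(S)`
    have hXc : Nat.card (zpowers x0) = p := by rw [Nat.card_zpowers, hox0]
    have hXA : zpowers x0 ≤ A := by rwa [zpowers_le]
    have hNX : normalizer (S : Set G) ≤ normalizer ((zpowers x0 : Subgroup G) : Set G) := by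
      intro n hn
      apply Cfsg.Agent.Lib.Helper28.BG12.mem_normalizer_of_cj_le'
      intro y hy
      rw [mem_cj] at hy
      obtain ⟨k, hk⟩ := mem_zpowers_iff.mp hy
      have h1 : n * u0 * n⁻¹ ∈ S := (mem_normalizer_iff.mp hn u0).mp hu0
      have h2 := hcase _ h1
      rw [conj_pow] at h2
      have h3 : y = (n * x0 * n⁻¹) ^ k := by
        rw [conj_zpow, hk]; group
      rw [h3]
      exact Subgroup.zpow_mem _ h2 k
    refine ⟨zpowers x0, hXc, hNORM.trans hNX, ?_, u0, hu0, ?_, ?_⟩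
    · by_contra hcon
      obtain ⟨-, h2⟩ := h18.2.2 (zpowers x0) hXA hXc hcon
      apply hNS
      refine hNX.trans (Cfsg.Agent.Lib.Helper58.BG13.normalizer_le_of_uniq hG hM ?_
        (hXA.trans (hAE.trans hE.1)) (K := centralizer ((zpowers x0 : Subgroup G) : Set G))
        (centralizer_le_normalizer _) h2)
      intro h
      rw [zpowers_eq_bot] at h
      exact hx01 h
    · rw [hou0]; exact hmax
    · rw [zpowers_le]
      exact Subgroup.pow_mem _ (mem_zpowers u0) _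
  · -- the power map is onto `A`
    push Not at hcase
    obtain ⟨w0, hw0, hw0x⟩ := hcase
    have hgen := Cfsg.Agent.Lib.Helper31.bg11_ea_sq_gen hA hA2 hx0A hx01 (hpow w0 hw0) hw0x
    have honto : ∀ y ∈ A, ∃ v ∈ S, v ^ p ^ a = y := by
      intro y hy
      obtain ⟨i, j, hij⟩ := hgen y hy
      refine ⟨u0 ^ i * w0 ^ j, S.mul_mem (S.pow_mem hu0 i) (S.pow_mem hw0 j), ?_⟩
      have hc : Commute (u0 ^ i) (w0 ^ j) := hSc _ (S.pow_mem hu0 i) _ (S.pow_mem hw0 j)
      rw [hc.mul_pow, hij, hx0, ← pow_mul, ← pow_mul, ← pow_mul, ← pow_mul, mul_comm i, mul_comm j]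
    have hline : ∀ X : Subgroup G, X ≤ A → Nat.card X = p →
        ∃ u ∈ S, (∀ w ∈ S, w ^ orderOf u = 1) ∧ X ≤ zpowers u := by
      intro X hXA hX
      have hX1 : X ≠ ⊥ := Cfsg.Agent.Lib.Helper13.BG127.ne_bot_of_card_prime hX
      obtain ⟨⟨x, hx⟩, hx1'⟩ := (Subgroup.ne_bot_iff_exists_ne_one).mp hX1
      have hx1 : x ≠ 1 := fun h => hx1' (Subtype.ext h)
      obtain ⟨v, hv, hvx⟩ := honto x (hXA hx)
      exact hlift X v hv hX (hvx ▸ hx) (hvx ▸ hx1)
    obtain ⟨X1, hX1A, hX1c, hEX1⟩ := hRED A hAE hA hA2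
    by_cases hreg : Cfsg.sigmaCore M ⊓ centralizer (X1 : Set G) = ⊥
    · exact ⟨X1, hX1c, hEX1, hreg, hline X1 hX1A hX1c⟩
    · obtain ⟨n, hnA, hnM⟩ := SetLike.not_le_iff_exists.mp h18.2.1.2.2
      have hcjA : cj n X1 ≤ A := by
        have := cj_mono n hX1A
        rwa [cj_eq_of_mem_normalizer hnA] at this
      refine ⟨cj n X1, by rw [card_cj, hX1c], ?_,
        line_reg_of_cj hG hM hE hp hAE hA hA2 hX1A hX1c hreg hnA hnM,
        hline _ hcjA (by rw [card_cj, hX1c])⟩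
      -- `E`-invariance
      intro e he
      have heA : e ∈ normalizer (A : Set G) := h18.1.1 he
      -- `n⁻¹ e n ∈ E`
      have h1 : n⁻¹ * e * n ∈ E := by
        have h2 : ⁅n⁻¹, e⁆ ∈ centralizer (A : Set G) :=
          hABN A hA hA2 (commutator_mem_commutator (inv_mem hnA) heA)
        have h3 : ⁅n⁻¹, e⁆ ∈ E := centralizer_le_E hG hM hE hp hAE hA hA2 h2
        have h4 : n⁻¹ * e * n = ⁅n⁻¹, e⁆ * e := by
          rw [commutatorElement_def]; group
        rw [h4]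
        exact E.mul_mem h3 he
      have h5 := hEX1 h1
      have h6 : cj (n⁻¹ * e * n) X1 = X1 := cj_eq_of_mem_normalizer h5
      apply mem_normalizer_of_cj_eq
      rw [← cj_mul]
      have h7 : e * n = n * (n⁻¹ * e * n) := by group
      rw [h7, cj_mul, h6]

end main

end Cfsg.Agent.Lib.Helper31.BG1212
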