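import Cfsg.Agent.Lib.Helper39.BG11Defs
import Cfsg.Agent.S1350

/-!
Small auxiliary facts for the rungs 4b and 12 of the ladder of B-G section 11 / Theorem 12.5.
-/

set_option autoImplicit false

namespace Cfsg.Agent.Lib.Helper31

open Subgroup Cfsg.Agent.Lib.Helper30 Cfsg.Agent.Lib.Helper39.BG11

universe u

variable {G : Type u} [Group G] [Finite G] {M A A₀ : Subgroup G} {p : ℕ} [Fact p.Prime]

theorem bg11_not_dvd_sigmaCore (hG : Cfsg.IsMinSimpleOddOrder G) (hM : IsCoatom M)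
    (hp : p ∉ Cfsg.sigma M) : ¬ p ∣ Nat.card (Cfsg.sigmaCore M) := fun h =>
  hp ((Cfsg.Agent.Lib.Helper28.BG12.sigmaCore_hall hG hM).2.1 p Fact.out h)

theorem bg11_coprime (hG : Cfsg.IsMinSimpleOddOrder G) (h : Hyp M p A A₀) {D : Subgroup G}
    (hD : D ≤ Cfsg.sigmaCore M) : (Nat.card A).Coprime (Nat.card D) := by
  rw [h.card]
  apply Nat.Coprime.pow_left
  rw [Nat.Prime.coprime_iff_not_dvd Fact.out]
  exact fun hd => bg11_not_dvd_sigmaCore hG h.max h.ns (hd.trans (Subgroup.card_dvd_of_le hD))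

theorem bg11_coprime_of_isPGroup (hG : Cfsg.IsMinSimpleOddOrder G) (hM : IsCoatom M)
    (hp : p ∉ Cfsg.sigma M) {P D : Subgroup G} (hP : IsPGroup p P)
    (hD : D ≤ Cfsg.sigmaCore M) : (Nat.card P).Coprime (Nat.card D) := by
  obtain ⟨n, hn⟩ := IsPGroup.iff_card.1 hP
  rw [hn]
  apply Nat.Coprime.pow_left
  rw [Nat.Prime.coprime_iff_not_dvd Fact.out]
  exact fun hd => bg11_not_dvd_sigmaCore hG hM hp (hd.trans (Subgroup.card_dvd_of_le hD))

theorem bg11_sylow_top (hG : Cfsg.IsMinSimpleOddOrder G) (hM : IsCoatom M) {q : ℕ}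
    [Fact q.Prime] (hq : q ∈ Cfsg.sigma M) {Q : Subgroup G}
    (hQ : IsSylowIn q Q (Cfsg.sigmaCore M)) : IsSylowIn q Q ⊤ := by
  refine ⟨le_top, hQ.isPGroup, ?_⟩
  rw [relIndex_top_right, ← relIndex_mul_index hQ.le]
  intro hd
  rcases (Nat.Prime.dvd_mul Fact.out).1 hd with hd | hd
  · exact hQ.not_dvd hd
  · exact (Cfsg.Agent.S1350.result hG M hM).2.1.2 q Fact.out hq hd

theorem bg11_sylow_max (hG : Cfsg.IsMinSimpleOddOrder G) (hM : IsCoatom M) {q : ℕ}
    [Fact q.Prime] (hq : q ∈ Cfsg.sigma M) {Q : Subgroup G}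
    (hQ : IsSylowIn q Q (Cfsg.sigmaCore M)) : IsSylowIn q Q M := by
  have hle := Cfsg.Agent.Lib.Helper28.BG12.sigmaCore_le M
  refine ⟨hQ.le.trans hle, hQ.isPGroup, ?_⟩
  rw [← relIndex_mul_relIndex _ _ _ hQ.le hle]
  intro hd
  rcases (Nat.Prime.dvd_mul Fact.out).1 hd with hd | hd
  · exact hQ.not_dvd hd
  · exact (Cfsg.Agent.Lib.Helper28.BG12.sigmaCore_hall hG hM).2.2 q Fact.out hq hd

omit [Finite G] in
theorem bg11_sylow_ne_bot {q : ℕ} [Fact q.Prime] {Q K : Subgroup G} (hQ : IsSylowIn q Q K)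
    (hq : q ∣ Nat.card K) : Q ≠ ⊥ := by
  rintro rfl
  exact hQ.not_dvd (by rwa [relIndex_bot_left])

theorem bg11_dvd_card_of_ne_bot {q : ℕ} [Fact q.Prime] {Q : Subgroup G} (hQ : IsPGroup q Q)
    (hne : Q ≠ ⊥) : q ∣ Nat.card Q := by
  obtain ⟨n, hn⟩ := IsPGroup.iff_card.1 hQ
  rcases Nat.eq_zero_or_pos n with rfl | hpos
  · exact absurd ((Subgroup.eq_bot_iff_card Q).2 (by simpa using hn)) hne
  · rw [hn]; exact dvd_pow_self q hpos.ne'

theorem bg11_mem_sigma_of_le (hG : Cfsg.IsMinSimpleOddOrder G) (hM : IsCoatom M) {q : ℕ}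
    [Fact q.Prime] {Q : Subgroup G} (hQ : IsPGroup q Q) (hne : Q ≠ ⊥)
    (hle : Q ≤ Cfsg.sigmaCore M) : q ∈ Cfsg.sigma M :=
  (Cfsg.Agent.Lib.Helper28.BG12.sigmaCore_hall hG hM).2.1 q Fact.out
    ((bg11_dvd_card_of_ne_bot hQ hne).trans (Subgroup.card_dvd_of_le hle))

omit [Finite G] in
/-- a subgroup of `K X` of order prime to that of `X` lies in `K` (`X` normalizes `K`). -/
theorem bg11_le_of_le_sup {K X Y : Subgroup G} (hX : X ≤ normalizer (K : Set G))
    (hY : Y ≤ K ⊔ X) (hco : (Nat.card Y).Coprime (Nat.card X)) : Y ≤ K := by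
  intro y hy
  obtain ⟨k, hk, a, ha, rfl⟩ := (mem_sup_of_le_normalizer hX).1 (hY hy)
  have key : ∀ n : ℕ, ∃ k' ∈ K, (k * a) ^ n = k' * a ^ n := by
    intro n
    induction n with
    | zero => exact ⟨1, one_mem _, by simp⟩
    | succ n ih =>
      obtain ⟨k', hk', he⟩ := ih
      have hn : a ^ n ∈ normalizer (K : Set G) := hX (pow_mem ha n)
      refine ⟨k' * (a ^ n * k * (a ^ n)⁻¹), mul_mem hk' ((mem_normalizer_iff.1 hn k).1 hk), ?_⟩
      rw [pow_succ, he, pow_succ]; group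
  obtain ⟨k', hk', he⟩ := key (Nat.card Y)
  have h1 : (k * a) ^ Nat.card Y = 1 := by
    have h0 : (⟨k * a, hy⟩ : Y) ^ Nat.card Y = 1 := pow_card_eq_one'
    have h0' := congrArg Subtype.val h0
    rwa [Subgroup.coe_pow, Subgroup.coe_one] at h0'
  have h2 : a ^ Nat.card Y ∈ K := by
    have : a ^ Nat.card Y = k'⁻¹ := by
      rw [h1] at he
      exact eq_inv_of_mul_eq_one_right he.symm
    rw [this]; exact inv_mem hk'
  have h3 : (Nat.card Y).Coprime (orderOf a) :=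
    Nat.Coprime.coprime_dvd_right (by
      have := orderOf_dvd_natCard (⟨a, ha⟩ : X)
      rwa [Subgroup.orderOf_mk] at this) hco
  obtain ⟨m, hm⟩ := exists_pow_eq_self_of_coprime h3
  have h4 : a ∈ K := by rw [← hm]; exact pow_mem h2 m
  exact mul_mem hk h4

/-- a Sylow subgroup of a nilpotent subgroup `K` is normalized by whatever normalizes `K`. -/
theorem bg11_le_normalizer_sylow_of_nilpotent {q : ℕ} [Fact q.Prime] {Q K X : Subgroup G}
    (hK : Group.IsNilpotent K) (hQ : IsSylowIn q Q K) (hX : X ≤ normalizer (K : Set G)) :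
    X ≤ normalizer (Q : Set G) := by
  intro x hx
  apply mem_normalizer_of_cj_eq
  have h1 : IsSylowIn q (cj x Q) K := by
    have := hQ.cj x
    rwa [cj_eq_of_mem_normalizer (hX hx)] at this
  obtain ⟨k, hk, he⟩ := hQ.conj h1
  rw [he]
  obtain ⟨P', hP'⟩ := hQ.exists_sylow
  have hn : (P' : Subgroup K).Normal :=
    Sylow.normal_of_normalizerCondition Group.normalizerCondition_of_isNilpotent P'
  have h2 := map_cj K.subtype (⟨k, hk⟩ : K) (P' : Subgroup K)
  rw [cj_normal, hP'] at h2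
  exact h2.symm

end Cfsg.Agent.Lib.Helper31
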