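import Cfsg.Agent.Lib.Helper31.BG134A
import Cfsg.Agent.Lib.Helper31.BG11Aux
import Cfsg.Agent.Lib.Helper14.BG12B
import Cfsg.Agent.Lib.Helper69.BG36C0

/-!
Bender-Glauberman Theorem 13.4 (statement S1428): auxiliary lemmas.
-/

set_option autoImplicit false

namespace Cfsg.Agent.Lib.Helper31.BG134

open Subgroup Cfsg.Agent.Lib.Helper30 Cfsg.Agent.Lib.Helper2 Cfsg.Agent.Lib.Helper2.BG12
  Cfsg.Agent.Lib.Helper2.BG139 Cfsg.Agent.Lib.Helper68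
open scoped commutatorElement

universe u

variable {G : Type u} [Group G]

/-- `H = B D`, `B` normal in `H`: `H' ≤ B D'`. -/
theorem commutator_le_sup_of_factor {H B D : Subgroup G} (hB : H ≤ normalizer (B : Set G))
    (hD : D ≤ H) (hfac : ∀ h ∈ H, ∃ b ∈ B, ∃ d ∈ D, h = b * d) : ⁅H, H⁆ ≤ B ⊔ ⁅D, D⁆ := by
  rw [commutator_le]
  intro h₁ hh₁ h₂ hh₂
  obtain ⟨b₁, hb₁, d₁, hd₁, rfl⟩ := hfac h₁ hh₁
  obtain ⟨b₂, hb₂, d₂, hd₂, rfl⟩ := hfac h₂ hh₂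
  have hconj : ∀ d ∈ D, ∀ b ∈ B, d * b * d⁻¹ ∈ B := fun d hd b hb =>
    (mem_normalizer_iff.1 (hB (hD hd)) b).1 hb
  have hc : ⁅d₁, d₂⁆ ∈ ⁅D, D⁆ := commutator_mem_commutator hd₁ hd₂
  have hcD : ⁅d₁, d₂⁆ ∈ D := by
    rw [commutatorElement_def]
    exact mul_mem (mul_mem (mul_mem hd₁ hd₂) (inv_mem hd₁)) (inv_mem hd₂)
  have e : ⁅b₁ * d₁, b₂ * d₂⁆ = b₁ * (d₁ * b₂ * d₁⁻¹) *
      ((d₁ * d₂ * d₁⁻¹) * b₁⁻¹ * (d₁ * d₂ * d₁⁻¹)⁻¹) * (⁅d₁, d₂⁆ * b₂⁻¹ * ⁅d₁, d₂⁆⁻¹) * ⁅d₁, d₂⁆ := by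
    simp only [commutatorElement_def]; group
  rw [e]
  refine mul_mem (le_sup_left (b := ⁅D, D⁆) ?_) (le_sup_right (a := B) hc)
  refine mul_mem (mul_mem (mul_mem hb₁ (hconj d₁ hd₁ b₂ hb₂)) ?_) (hconj _ hcD _ (inv_mem hb₂))
  exact hconj _ (mul_mem (mul_mem hd₁ hd₂) (inv_mem hd₁)) _ (inv_mem hb₁)

theorem eq_of_card_eq_of_le_isCyclic [Finite G] {X₁ X₂ S : Subgroup G} (hS : IsCyclic S)
    (h₁ : X₁ ≤ S) (h₂ : X₂ ≤ S) (hc : Nat.card X₁ = Nat.card X₂) : X₁ = X₂ := by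
  have h3 : X₁.subgroupOf S = X₂.subgroupOf S := by
    apply Cfsg.Agent.Lib.Helper70.eq_of_card_eq_of_isCyclic
    rw [Nat.card_congr (subgroupOfEquivOfLe h₁).toEquiv,
      Nat.card_congr (subgroupOfEquivOfLe h₂).toEquiv, hc]
  have h4 := congrArg (Subgroup.map S.subtype) h3
  rwa [map_subgroupOf_eq_of_le h₁, map_subgroupOf_eq_of_le h₂] at h4

theorem isCyclic_of_pRankLE_one [Finite G] {M X : Subgroup G} {s : ℕ} [hs : Fact s.Prime]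
    (hM : Cfsg.PRankLE s 1 ↥M) (hXM : X ≤ M) (hs2 : s ≠ 2) (hX : IsPGroup s X) : IsCyclic X := by
  have h1 : IsPGroup s (X.subgroupOf M) := hX.comap_subtype
  have h2 := Cfsg.Agent.Lib.Helper40.BG12.isCyclic_of_isPGroup_rank_one (G := ↥M) hs2
    hM (X.subgroupOf M) h1
  exact (subgroupOfEquivOfLe hXM).isCyclic.1 h2

theorem isPGroup_of_card_eq_prime {r : ℕ} {R : Subgroup G} (hR : Nat.card R = r) : IsPGroup r R :=
  IsPGroup.of_card (n := 1) (by rw [hR, pow_one])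

theorem ne_bot_of_card_eq_prime {r : ℕ} [hr : Fact r.Prime] {R : Subgroup G}
    (hR : Nat.card R = r) : R ≠ ⊥ := by
  intro e
  rw [e, Subgroup.card_bot] at hR
  exact hr.out.one_lt.ne hR

/-- the four possibilities for a prime divisor of the order of a maximal subgroup. -/
theorem tau_cases [Finite G] (hG : Cfsg.IsMinSimpleOddOrder G) {H : Subgroup G} (hH : IsCoatom H)
    {r : ℕ} (hr : r.Prime) (hd : r ∣ Nat.card H) :
    r ∈ Cfsg.sigma H ∨ r ∈ Cfsg.tau1 H ∨ r ∈ Cfsg.tau2 H ∨ r ∈ Cfsg.tau3 H := by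
  by_cases h1 : r ∈ Cfsg.sigma H
  · exact Or.inl h1
  have h2 := Cfsg.Agent.Lib.Helper28.BG12.pRankLE_two_of_not_mem_sigma hG hH hr h1
  by_cases h3 : Cfsg.PRankLE r 1 ↥H
  · by_cases h4 : r ∣ Nat.card ↥⁅H, H⁆
    · exact Or.inr (Or.inr (Or.inr ⟨hr, h1, h4, h3⟩))
    · exact Or.inr (Or.inl ⟨hr, h1, hd, h4, h3⟩)
  · exact Or.inr (Or.inr (Or.inl ⟨hr, h1, h2, h3⟩))

/-- a subgroup of order `r ∈ τ₃(H)` of `H` lies in `H'`. -/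
theorem le_commutator_of_tau3 [Finite G] (hG : Cfsg.IsMinSimpleOddOrder G) {H : Subgroup G}
    {r : ℕ} [hrp : Fact r.Prime] (hr : r ∈ Cfsg.tau3 H) {R : Subgroup G} (hRH : R ≤ H)
    (hR : Nat.card R = r) : R ≤ ⁅H, H⁆ := by
  have hRp := isPGroup_of_card_eq_prime hR
  have hR1 : R ≠ ⊥ := ne_bot_of_card_eq_prime hR
  have hr2 : r ≠ 2 := Cfsg.Agent.Lib.Helper28.BG12.ne_two_of_isPGroup hG hRp hR1
  have hHH : ⁅H, H⁆ ≤ H := commutator_le_self H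
  obtain ⟨x, hx⟩ := exists_prime_orderOf_dvd_card' (G := ↥⁅H, H⁆) r hr.2.2.1
  have hxo : orderOf (x : G) = r := by rw [Subgroup.orderOf_coe, hx]
  have hZc : Nat.card (zpowers (x : G)) = r := by rw [Nat.card_zpowers, hxo]
  have hZH' : zpowers (x : G) ≤ ⁅H, H⁆ := by rw [zpowers_le]; exact x.2
  obtain ⟨S, hS, hRS⟩ := exists_isSylowIn_ge hRH hRp
  obtain ⟨S', hS', hZS'⟩ := exists_isSylowIn_ge (hZH'.trans hHH) (isPGroup_of_card_eq_prime hZc)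
  obtain ⟨h, hh, he⟩ := hS'.conj hS
  have hSc : IsCyclic S := isCyclic_of_pRankLE_one hr.2.2.2 hS.le hr2 hS.isPGroup
  have h1 : cj h (zpowers (x : G)) ≤ S := he ▸ cj_mono h hZS'
  have h2 : R = cj h (zpowers (x : G)) :=
    eq_of_card_eq_of_le_isCyclic hSc hRS h1 (by rw [card_cj, hR, hZc])
  rw [h2]
  have h3 : cj h ⁅H, H⁆ = ⁅H, H⁆ := by rw [cj_commutator, cj_eq_of_mem hh]
  exact (cj_mono h hZH').trans h3.le

end Cfsg.Agent.Lib.Helper31.BG134
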