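import Cfsg.Agent.Lib.Helper31.PSolv
import Cfsg.Prelude.Def_Transfer

set_option autoImplicit false

namespace Cfsg.Agent.Lib.Helper31

open Cfsg.Agent.Lib.Helper14

variable {G : Type*} [Group G]

/-- The subgroup generated by pairwise commuting elements of order dividing `p` is elementary
abelian. -/
theorem isElementaryAbelian_closure (p : ℕ) (T : Set G) (hcomm : ∀ x ∈ T, ∀ y ∈ T, x * y = y * x)
    (hpow : ∀ x ∈ T, x ^ p = 1) : Cfsg.IsElementaryAbelian p (Subgroup.closure T) := by
  have hc : IsMulCommutative (Subgroup.closure T) := Subgroup.isMulCommutative_closure hcomm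
  refine ⟨hc, ?_⟩
  intro a ha
  induction ha using Subgroup.closure_induction with
  | mem x hx => exact hpow x hx
  | one => exact one_pow p
  | mul x y hx hy hxp hyp =>
    have h1 : x * y = y * x := congrArg Subtype.val (hc.is_comm.comm ⟨x, hx⟩ ⟨y, hy⟩)
    rw [(show Commute x y from h1).mul_pow, hxp, hyp, one_mul]
  | inv x _ hxp => rw [inv_pow, hxp, inv_one]

/-- A maximal elementary abelian subgroup contains every element of order dividing `p` that
centralizes it. -/
theorem mem_of_maximal_elementaryAbelian (p : ℕ) (E : Subgroup G)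
    (hE : Cfsg.IsElementaryAbelian p E)
    (hEmax : ∀ B : Subgroup G, Cfsg.IsElementaryAbelian p B → E ≤ B → B = E) {x : G}
    (hx : x ∈ Subgroup.centralizer (E : Set G)) (hxp : x ^ p = 1) : x ∈ E := by
  have hB : Cfsg.IsElementaryAbelian p (Subgroup.closure ((E : Set G) ∪ {x})) := by
    apply isElementaryAbelian_closure
    · have hEE : ∀ a ∈ E, ∀ b ∈ E, a * b = b * a := fun a ha b hb =>
        congrArg Subtype.val (hE.1.is_comm.comm ⟨a, ha⟩ ⟨b, hb⟩)
      rintro a (ha | rfl) b (hb | rfl)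
      · exact hEE a ha b hb
      · exact Subgroup.mem_centralizer_iff.mp hx a ha
      · exact (Subgroup.mem_centralizer_iff.mp hx b hb).symm
      · rfl
    · rintro a (ha | rfl)
      · exact hE.2 a ha
      · exact hxp
  have h1 := hEmax _ hB (fun a ha => Subgroup.subset_closure (Or.inl ha))
  rw [← h1]
  exact Subgroup.subset_closure (Or.inr rfl)

theorem isPGroup_of_isElementaryAbelian {p : ℕ} {E : Subgroup G}
    (hE : Cfsg.IsElementaryAbelian p E) : IsPGroup p E := by
  rintro ⟨a, ha⟩
  exact ⟨1, Subtype.ext (by simpa using hE.2 a ha)⟩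

/-- In a finite `p`-soluble group a `p'`-subgroup centralizing a Sylow `p`-subgroup lies in
`O_{p'}(G)`. -/
theorem le_pPrimeCore_of_le_centralizer_sylow [Finite G] {p : ℕ} [hp : Fact p.Prime]
    (hsol : Cfsg.IsPSolvable p G) (S : Sylow p G) (X : Subgroup G)
    (hX : X ≤ Subgroup.centralizer ((S : Subgroup G) : Set G)) (hXp : (Nat.card X).Coprime p) :
    X ≤ Cfsg.pPrimeCore p G := by
  set K := Cfsg.pPrimeCore p G with hK
  have h1 := centralizer_pCore_le_of_isPSolvable (IsPSolvable.quotient hsol K)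
    pPrimeCore_quotient_pPrimeCore
  have h2 : Cfsg.pCore p (G ⧸ K) ≤ (S : Subgroup G).map (QuotientGroup.mk' K) :=
    pCore_le_sylow (S.mapSurjective (QuotientGroup.mk'_surjective K))
  have h3 : X.map (QuotientGroup.mk' K) ≤ Cfsg.pCore p (G ⧸ K) := by
    apply le_trans _ h1
    rintro _ ⟨x, hx, rfl⟩
    rw [Subgroup.mem_centralizer_iff]
    intro y hy
    obtain ⟨s, hs, rfl⟩ := h2 hy
    rw [← map_mul, ← map_mul, Subgroup.mem_centralizer_iff.mp (hX hx) s hs]
  have h4 : IsPGroup p (X.map (QuotientGroup.mk' K)) := isPGroup_pCore.to_le h3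
  obtain ⟨n, hn⟩ := IsPGroup.iff_card.mp h4
  have h5 : Nat.card (X.map (QuotientGroup.mk' K)) ∣ Nat.card X := Subgroup.card_map_dvd _ _
  have h6 : Nat.card (X.map (QuotientGroup.mk' K)) = 1 :=
    Nat.eq_one_of_dvd_coprimes (Nat.Coprime.pow_right n hXp) h5 (hn ▸ dvd_rfl)
  have h7 : X.map (QuotientGroup.mk' K) = ⊥ := Subgroup.card_eq_one.mp h6
  intro x hx
  rw [← QuotientGroup.eq_one_iff]
  have : QuotientGroup.mk' K x ∈ X.map (QuotientGroup.mk' K) := Subgroup.mem_map_of_mem _ hx
  rw [h7, Subgroup.mem_bot] at this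
  exact this

end Cfsg.Agent.Lib.Helper31
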