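import Cfsg.Agent.Lib.Helper14.PConstrained

set_option autoImplicit false

namespace Cfsg.Agent.Lib.Helper31

open Cfsg.Agent.Lib.Helper14

universe u

/-- A nontrivial finite solvable group has a nontrivial normal subgroup that is a `p`-group or has
order prime to `p`. -/
theorem exists_normal_p_or_p' {G : Type u} [Group G] [Finite G] [Group.IsSolvable G] [Nontrivial G]
    (p : ℕ) [hp : Fact p.Prime] :
    ∃ N : Subgroup G, N.Normal ∧ N ≠ ⊥ ∧ ((∃ m : ℕ, Nat.card N = p ^ m) ∨ (Nat.card N).Coprime p) := by
  classical
  have hex : ∃ n, derivedSeries G n = ⊥ := Group.IsSolvable.solvable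
  set n := Nat.find hex with hn
  have hn0 : n ≠ 0 := by
    intro h0
    have h1 := Nat.find_spec hex
    rw [← hn, h0, derivedSeries_zero] at h1
    exact top_ne_bot h1
  obtain ⟨k, hk⟩ := Nat.exists_eq_succ_of_ne_zero hn0
  set A := derivedSeries G k with hA
  have hA1 : A ≠ ⊥ := by
    intro h
    have := Nat.find_min' hex h
    omega
  have hAc : ⁅A, A⁆ = ⊥ := by
    have h1 := Nat.find_spec hex
    rw [← hn, hk] at h1
    exact h1
  have hAcomm : IsMulCommutative A := by
    rw [← Subgroup.le_centralizer_iff_isMulCommutative, ← Subgroup.commutator_eq_bot_iff_le_centralizer]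
    exact hAc
  by_cases hpA : p ∣ Nat.card A
  · obtain ⟨P⟩ : Nonempty (Sylow p A) := inferInstance
    have hPn : (P : Subgroup A).Normal := by
      constructor
      intro x hx g
      have : g * x * g⁻¹ = x := by
        rw [hAcomm.is_comm.comm g x]; group
      rwa [this]
    have hPc : (P : Subgroup A).Characteristic := P.characteristic_of_normal hPn
    refine ⟨(P : Subgroup A).map A.subtype, inferInstance, ?_, Or.inl ?_⟩
    · intro h
      exact P.ne_bot_of_dvd_card hpA ((Subgroup.map_eq_bot_iff_of_injective _ A.subtype_injective).mp h)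
    · rw [Subgroup.card_map_of_injective A.subtype_injective]
      exact IsPGroup.iff_card.mp P.isPGroup'
  · exact ⟨A, inferInstance, hA1, Or.inr ((Nat.Prime.coprime_iff_not_dvd hp.out).mpr hpA).symm⟩

/-- Lifting `p`-solubility through a normal subgroup which is a `p`-group or a `p'`-group. -/
theorem isPSolvable_of_quotient {G : Type u} [Group G] (p : ℕ) (N : Subgroup G) [N.Normal]
    (hN : (∃ m : ℕ, Nat.card N = p ^ m) ∨ (Nat.card N).Coprime p)
    (h : Cfsg.IsPSolvable p (G ⧸ N)) : Cfsg.IsPSolvable p G := by
  obtain ⟨n, H, h0, hlast, hmono, hnorm, hfac⟩ := h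
  refine ⟨n + 1, Fin.cons ⊥ (fun i => (H i).comap (QuotientGroup.mk' N)), ?_, ?_, ?_, ?_, ?_⟩
  · rfl
  · rw [← Fin.succ_last, Fin.cons_succ, hlast, Subgroup.comap_top]
  · intro i j hij
    induction i using Fin.cases with
    | zero => rw [Fin.cons_zero]; exact bot_le
    | succ i =>
      induction j using Fin.cases with
      | zero => exact absurd hij (by simp)
      | succ j =>
        rw [Fin.cons_succ, Fin.cons_succ]
        exact Subgroup.comap_mono (hmono (Fin.succ_le_succ_iff.mp hij))
  · intro i
    induction i using Fin.cases with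
    | zero => rw [Fin.cons_zero]; infer_instance
    | succ i => rw [Fin.cons_succ]; exact (hnorm i).comap _
  · intro i
    induction i using Fin.cases with
    | zero =>
      have e1 : (Fin.cons ⊥ (fun i => (H i).comap (QuotientGroup.mk' N)) : Fin (n + 1 + 1) → Subgroup G)
          (Fin.castSucc 0) = ⊥ := rfl
      have e2 : (Fin.cons ⊥ (fun i => (H i).comap (QuotientGroup.mk' N)) : Fin (n + 1 + 1) → Subgroup G)
          (Fin.succ 0) = N := by
        rw [Fin.cons_succ, h0]
        exact QuotientGroup.ker_mk' N
      rw [e1, e2, Subgroup.relIndex_bot_left]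
      exact hN
    | succ i =>
      have e1 : (Fin.cons ⊥ (fun i => (H i).comap (QuotientGroup.mk' N)) : Fin (n + 1 + 1) → Subgroup G)
          (Fin.castSucc i.succ) = (H i.castSucc).comap (QuotientGroup.mk' N) := by
        rw [← Fin.succ_castSucc, Fin.cons_succ]
      have e2 : (Fin.cons ⊥ (fun i => (H i).comap (QuotientGroup.mk' N)) : Fin (n + 1 + 1) → Subgroup G)
          (Fin.succ i.succ) = (H i.succ).comap (QuotientGroup.mk' N) := by
        rw [Fin.cons_succ]
      rw [e1, e2, Subgroup.relIndex_comap,
        Subgroup.map_comap_eq_self_of_surjective (QuotientGroup.mk'_surjective N)]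
      exact hfac i

theorem isPSolvable_of_isSolvable_aux (p : ℕ) [hp : Fact p.Prime] : ∀ (n : ℕ) (G : Type u) [Group G]
    [Finite G] [Group.IsSolvable G], Nat.card G = n → Cfsg.IsPSolvable p G := by
  intro n
  induction n using Nat.strong_induction_on with
  | _ n ih =>
    intro G _ _ _ hG
    by_cases hnt : Nontrivial G
    · obtain ⟨N, hNn, hN1, hN⟩ := exists_normal_p_or_p' (G := G) p
      apply isPSolvable_of_quotient p N hN
      apply ih (Nat.card (G ⧸ N)) _ (G ⧸ N) rfl
      rw [← hG, ← Subgroup.index_eq_card, ← Subgroup.card_mul_index N]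
      have h1 : 1 < Nat.card N := by
        rw [Finite.one_lt_card_iff_nontrivial]
        exact (Subgroup.nontrivial_iff_ne_bot N).mpr hN1
      have h2 : 0 < N.index := Nat.pos_of_ne_zero Subgroup.FiniteIndex.index_ne_zero
      nlinarith
    · rw [not_nontrivial_iff_subsingleton] at hnt
      refine ⟨0, fun _ => ⊥, rfl, Subsingleton.elim _ _, fun _ _ _ => le_rfl,
        fun _ => inferInstance, fun i => i.elim0⟩

/-- A finite solvable group is `p`-soluble. -/
theorem isPSolvable_of_isSolvable (p : ℕ) [hp : Fact p.Prime] (G : Type u) [Group G] [Finite G]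
    [Group.IsSolvable G] : Cfsg.IsPSolvable p G :=
  isPSolvable_of_isSolvable_aux p _ G rfl

end Cfsg.Agent.Lib.Helper31
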