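import Cfsg.Agent.Lib.Helper2.BG139B
import Cfsg.Agent.Lib.Helper29.BG139F
import Cfsg.Agent.Lib.Helper58.BG13a

/-!
Bender-Glauberman Lemma 12.18(a), from the texts up to S1423 (`Texts0`) and Lemma F of the ladder BG139.
-/

set_option autoImplicit false

namespace Cfsg.Agent.Lib.Helper31.BG134

open Subgroup Cfsg.Agent.Lib.Helper30 Cfsg.Agent.Lib.Helper2 Cfsg.Agent.Lib.Helper2.BG12
  Cfsg.Agent.Lib.Helper2.BG139 Cfsg.Agent.Lib.Helper68

universe u

variable {G : Type u} [Group G]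

theorem isCyclic_of_le_of_rankLE_one [Finite G] {K X : Subgroup G} (hK : Cfsg.RankLE 1 ↥K)
    (hXK : X ≤ K) {s : ℕ} [hs : Fact s.Prime] (hs2 : s ≠ 2) (hX : IsPGroup s X) : IsCyclic X := by
  have h1 : IsPGroup s (X.subgroupOf K) := hX.comap_subtype
  have h2 := Cfsg.Agent.Lib.Helper40.BG12.isCyclic_of_isPGroup_rank_one (G := ↥K) hs2
    (hK s hs.out) (X.subgroupOf K) h1
  exact (subgroupOfEquivOfLe hXK).isCyclic.1 h2

theorem card_le_of_ea_of_isCyclic {p : ℕ} (hp : 0 < p) {A : Subgroup G}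
    (hea : Cfsg.IsElementaryAbelian p A) (hcyc : IsCyclic A) : Nat.card A ≤ p := by
  obtain ⟨x, hx⟩ := hcyc.exists_ofOrder_eq_natCard
  have h1 : x ^ p = 1 := Subtype.ext (by simpa using hea.2 x.1 x.2)
  have h2 := orderOf_dvd_of_pow_eq_one h1
  rw [hx] at h2
  exact Nat.le_of_dvd hp h2

/-- a Sylow `s`-subgroup of `M` is not cyclic if `s ∈ α(M)`. -/
theorem not_isCyclic_of_mem_alpha [Finite G] {M W : Subgroup G} {s : ℕ} [hs : Fact s.Prime]
    (hsα : s ∈ Cfsg.alpha M) (hW : IsSylowIn s W M) : ¬ IsCyclic W := by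
  intro hc
  obtain ⟨E, hEM, hE, hEc⟩ := exists_elementary_of_not_pRankLE hsα.2
  obtain ⟨W', hW', hEW'⟩ := exists_isSylowIn_ge hEM (isPGroup_of_elementary hE)
  obtain ⟨m, -, hm⟩ := hW.conj hW'
  have hc' : IsCyclic W' := hm ▸ Cfsg.Agent.Lib.Helper58.BG13.isCyclic_cj hc m
  have hcE : IsCyclic E := by
    have : IsCyclic (E.subgroupOf W') := Subgroup.isCyclic _
    exact (subgroupOfEquivOfLe hEW').isCyclic.1 this
  have h1 := card_le_of_ea_of_isCyclic hs.out.pos hE hcE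
  have h2 : s ≤ s ^ 2 := by nlinarith [hs.out.one_lt]
  omega

theorem not_mem_alpha_of_tau1 {M : Subgroup G} {r : ℕ} (hr : r ∈ Cfsg.tau1 M) :
    r ∉ Cfsg.alpha M := by
  intro h
  apply h.2
  intro A hA hAe
  exact (hr.2.2.2.2 A hA hAe).trans (Nat.pow_le_pow_right hr.1.pos (by norm_num))

/-- B-G Lemma 12.18(a). -/
theorem bg1218a [Finite G] (T : Texts0 G) {M : Subgroup G} (hM : IsCoatom M) {r q : ℕ}
    [hrp : Fact r.Prime] [hqp : Fact q.Prime] (hr : r ∈ Cfsg.tau1 M) (hqr : q ≠ r)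
    (hqα : q ∉ Cfsg.alpha M) {R Y : Subgroup G} (hRM : R ≤ M) (hR : Nat.card R = r) (hYM : Y ≤ M)
    (hYq : IsPGroup q Y) (hRY : R ≤ normalizer (Y : Set G))
    (hfpf : Y ⊓ centralizer (R : Set G) = ⊥) (hα : Cfsg.alphaCore M ≠ ⊥)
    (hN : ¬ (∀ L : Subgroup G, IsCoatom L → normalizer (Y : Set G) ≤ L → L = M)) :
    Cfsg.alphaCore M ⊓ centralizer (R : Set G) ≠ ⊥ ∧
      Cfsg.alphaCore M ⊓ centralizer (Y : Set G) ⊓ centralizer (R : Set G) = ⊥ := by
  have hG := T.hG
  have hrα : r ∉ Cfsg.alpha M := not_mem_alpha_of_tau1 hr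
  have hRp : IsPGroup r R := IsPGroup.of_card (n := 1) (by rw [hR, pow_one])
  have hR1 : R ≠ ⊥ := by
    intro e
    rw [e, Subgroup.card_bot] at hR
    exact hrp.out.one_lt.ne hR
  have hαM : Cfsg.alphaCore M ≤ M := Cfsg.Agent.Lib.Helper28.BG12.alphaCore_le M
  have hMα : M ≤ normalizer (Cfsg.alphaCore M : Set G) := le_normalizer_piCoreOf _ M
  have hαhall := T.t05 M hM
  -- ranks
  have hrankR : Cfsg.RankLE 1 ↥(Cfsg.alphaCore M ⊓ centralizer (R : Set G)) := by
    by_contra hcon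
    have hU := T.t06 M hM R hRM (by
      intro s hs hd
      have : s = r := by
        rw [hR] at hd
        exact (Nat.prime_dvd_prime_iff_eq hs hrp.out).1 hd
      rw [this]; exact hrα) hcon
    have hNR : normalizer (R : Set G) ≤ M := by
      have htop : normalizer (R : Set G) ≠ ⊤ :=
        normalizer_ne_top hG hR1 (fun e => hM.1 (top_le_iff.1 (e ▸ hRM)))
      exact uniq_le hU hM inf_le_left
        (inf_le_right.trans (centralizer_le_normalizer' R)) htop
    exact (T.t09 M hM r hr.2.1 R hR hNR).2 hr.2.2.2.2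
  have hrankY : Cfsg.RankLE 1 ↥(Cfsg.alphaCore M ⊓ centralizer (Y : Set G)) := by
    by_contra hcon
    have hU := T.t06 M hM Y hYM (by
      intro s hs hd
      obtain ⟨n, hn⟩ := IsPGroup.iff_card.1 hYq
      rw [hn] at hd
      have : s = q := (Nat.prime_dvd_prime_iff_eq hs hqp.out).1 (hs.dvd_of_dvd_pow hd)
      rw [this]; exact hqα) hcon
    apply hN
    intro L hL hNL
    exact uniq_eq hU hM inf_le_left hL
      ((inf_le_right.trans (centralizer_le_normalizer' Y)).trans hNL)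
  -- the acting group
  have hA : R ⊔ Y ≤ M := sup_le hRM hYM
  have hAα : R ⊔ Y ≤ normalizer (Cfsg.alphaCore M : Set G) := hA.trans hMα
  have hAtop : R ⊔ Y ≠ ⊤ := fun e => hM.1 (top_le_iff.1 (e ▸ hA))
  have hAsol := solvable_of_ne_top hG hAtop
  have hco : (Nat.card (R ⊔ Y : Subgroup G)).Coprime (Nat.card (Cfsg.alphaCore M)) := by
    apply Nat.Coprime.symm
    apply Nat.coprime_of_dvd
    intro s hs hd1 hd2
    have h1 := hαhall.2.1 s hs hd1
    rcases Cfsg.Agent.Lib.Helper58.BG13.prime_dvd_card_sup hRp hYq hRY hs hd2 with e | e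
    · exact hrα (e ▸ h1)
    · exact hqα (e ▸ h1)
  -- the key statement for an invariant Sylow subgroup
  have key : ∀ (s : ℕ) [Fact s.Prime] (W : Subgroup G), s ∣ Nat.card (Cfsg.alphaCore M) →
      IsSylowIn s W (Cfsg.alphaCore M) → R ⊔ Y ≤ normalizer (W : Set G) →
      W ⊓ centralizer (R : Set G) ≠ ⊥ ∧
        W ⊓ centralizer (Y : Set G) ⊓ centralizer (R : Set G) = ⊥ := by
    intro s hsp W hsd hW hAW
    have hsα : s ∈ Cfsg.alpha M := hαhall.2.1 s hsp.out hsd
    have hWM : IsSylowIn s W M := by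
      refine ⟨hW.le.trans hαM, hW.isPGroup, ?_⟩
      rw [← relIndex_mul_relIndex _ _ _ hW.le hαM]
      intro hd
      rcases (Nat.Prime.dvd_mul hsp.out).1 hd with hd | hd
      · exact hW.not_dvd hd
      · exact hαhall.2.2 s hsp.out hsα hd
    have hW1 : W ≠ ⊥ := Cfsg.Agent.Lib.Helper58.BG13.ne_bot_of_isSylowIn_of_dvd hW hsd
    have hs2 : s ≠ 2 := Cfsg.Agent.Lib.Helper28.BG12.ne_two_of_isPGroup hG hW.isPGroup hW1
    have hrs : r ≠ s := fun e => hrα (e ▸ hsα)
    have hqs : q ≠ s := fun e => hqα (e ▸ hsα)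
    exact Cfsg.Agent.Lib.Helper29.BG139.lemmaF hrp.out hqp.out hsp.out hqr.symm hrs hqs hR hYq
      hW.isPGroup hRY (le_sup_right.trans hAW) (le_sup_left.trans hAW) hfpf
      (isCyclic_of_le_of_rankLE_one hrankR (inf_le_inf_right _ hW.le) hs2
        (hW.isPGroup.to_le inf_le_left))
      (isCyclic_of_le_of_rankLE_one hrankY (inf_le_inf_right _ hW.le) hs2
        (hW.isPGroup.to_le inf_le_left))
      (not_isCyclic_of_mem_alpha hsα hWM)
  constructor
  · have hcard : Nat.card (Cfsg.alphaCore M) ≠ 1 := fun e => hα ((Subgroup.eq_bot_iff_card _).2 e)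
    obtain ⟨s, hs, hsd⟩ := Nat.exists_prime_and_dvd hcard
    have : Fact s.Prime := ⟨hs⟩
    obtain ⟨W, hW, hAW⟩ := exists_invariant_isSylowIn hAα hco (Or.inl hAsol) s
    intro e
    exact (key s W hsd hW hAW).1 (le_bot_iff.1 (e ▸ inf_le_inf_right _ hW.le))
  · by_contra hne
    set C := Cfsg.alphaCore M ⊓ centralizer (Y : Set G) ⊓ centralizer (R : Set G) with hC
    have hcard : Nat.card C ≠ 1 := fun e => hne ((Subgroup.eq_bot_iff_card _).2 e)
    obtain ⟨s, hs, hsd⟩ := Nat.exists_prime_and_dvd hcard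
    have : Fact s.Prime := ⟨hs⟩
    obtain ⟨Z, hZ⟩ := exists_isSylowIn s C
    have hZ1 : Z ≠ ⊥ := Cfsg.Agent.Lib.Helper58.BG13.ne_bot_of_isSylowIn_of_dvd hZ hsd
    have hZα : Z ≤ Cfsg.alphaCore M := hZ.le.trans (inf_le_left.trans inf_le_left)
    have hZY : Z ≤ centralizer (Y : Set G) := hZ.le.trans (inf_le_left.trans inf_le_right)
    have hZR : Z ≤ centralizer (R : Set G) := hZ.le.trans inf_le_right
    have hAZ : R ⊔ Y ≤ normalizer (Z : Set G) := by
      refine le_trans ?_ (centralizer_le_normalizer' Z)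
      refine sup_le ?_ ?_
      · exact le_centralizer_iff.1 hZR
      · exact le_centralizer_iff.1 hZY
    obtain ⟨W, hW, hZW, hAW⟩ := exists_invariant_isSylowIn_ge hAα hco (Or.inl hAsol) s hZα
      hZ.isPGroup hAZ
    have hsd' : s ∣ Nat.card (Cfsg.alphaCore M) :=
      hsd.trans (Subgroup.card_dvd_of_le (inf_le_left.trans inf_le_left))
    have := (key s W hsd' hW hAW).2
    exact hZ1 (le_bot_iff.1 (this ▸ le_inf (le_inf hZW hZY) hZR))

end Cfsg.Agent.Lib.Helper31.BG134
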