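import Cfsg.Agent.Lib.Helper31.BG1212LINE
import Cfsg.Agent.Lib.Helper1.BG1212NORM

/-!
Ladder BG1212 (S1421), rung LINE with ABN and NORM discharged (only RED remains a hypothesis).
-/

set_option autoImplicit false

namespace Cfsg.Agent.Lib.Helper31.BG1212

open Subgroup Cfsg.Agent.Lib.Helper30 Cfsg.Agent.Lib.Helper58.BG1212

universe u

variable {G : Type u} [Group G]

/-- LINE, with RED as the only hypothesis. -/
theorem exists_line_of_red [Finite G] (hG : Cfsg.IsMinSimpleOddOrder G) {M E : Subgroup G}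
    (hM : IsCoatom M) (hE : Cfsg.IsComplIn E (Cfsg.sigmaCore M) M) (hab : AbTau2 M) {p : ℕ}
    [Fact p.Prime] (hp : p ∈ Cfsg.tau2 M) {S : Subgroup G} (hS : IsSylowIn p S E)
    (hRED : ∀ A : Subgroup G, A ≤ E → Cfsg.IsElementaryAbelian p A → Nat.card A = p ^ 2 →
      ∃ X : Subgroup G, X ≤ A ∧ Nat.card X = p ∧ E ≤ normalizer (X : Set G)) :
    ∃ X : Subgroup G, Nat.card X = p ∧ E ≤ normalizer (X : Set G) ∧
      Cfsg.sigmaCore M ⊓ centralizer (X : Set G) = ⊥ ∧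
      ∃ u ∈ S, (∀ w ∈ S, w ^ orderOf u = 1) ∧ X ≤ zpowers u :=
  exists_line_of hG hM hE hab hp hS hRED
    (fun _ hA hA2 => Cfsg.Agent.Lib.Helper1.BG1212.comm_normalizer_le hG (hab p hp) hA hA2)
    (Cfsg.Agent.Lib.Helper1.BG1212.sylow_normal hG hM hE hab hp hS)

end Cfsg.Agent.Lib.Helper31.BG1212
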