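import Cfsg.Agent.Lib.Helper5.Coherent
import Cfsg.Agent.Lib.Helper5.Coherent2
import Cfsg.Agent.Lib.Helper32.IndAbove
import Cfsg.Agent.Lib.Helper32.Ortho
import Cfsg.Agent.Lib.Helper19.CharMisc
import Cfsg.Agent.S0161

/-!
# One Frobenius subgroup with TI kernel and a coherent isometry

`L ≤ G` of odd order, `H` normal in `L`, `C_L(h) ≤ H` for `1 ≠ h ∈ H`, `H` a TI-subset of `G` with
normaliser `L`.  `S` is the set of characters of `L` induced from the non-principal irreducible
characters of `H`; `ν` is a linear isometry on `ℤ[S]` extending induction on the degree zero part.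
-/

set_option autoImplicit false
set_option linter.unusedSectionVars false
open Cfsg
open scoped ComplexConjugate

namespace Cfsg.Agent.Lib.Helper31

open Cfsg.Agent.Lib.Helper5 Cfsg.Agent.Lib.Helper20 Cfsg.Agent.Lib.Helper32 Cfsg.Agent.Lib.Helper19

variable {G : Type*} [Group G] [Fintype G]

/-- Frobenius subgroup `L` with TI kernel `H`. -/
structure FrobTI (L H : Subgroup G) : Prop where
  le : H ≤ L
  ne_bot : H ≠ ⊥
  normal : (H.subgroupOf L).Normal
  frob : ∀ k ∈ H.subgroupOf L, k ≠ 1 → Subgroup.centralizer ({k} : Set L) ≤ H.subgroupOf L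
  ti : ∀ g : G, g ∉ L → ∀ x ∈ H, g * x * g⁻¹ ∈ H → x = 1
  odd : Odd (Nat.card L)

/-- the set of characters of `L` induced from non-principal irreducible characters of `H` -/
abbrev frobS (L H : Subgroup G) [Fintype L] : Set (L → ℂ) := inducedIrrAbove (H.subgroupOf L) ⊥

section basic
variable {L H : Subgroup G} [Fintype L]

theorem indFun_eq_zero_of_forall (α : L → ℂ) (g : G)
    (h : ∀ x : G, ∀ hx : x⁻¹ * g * x ∈ L, α ⟨_, hx⟩ = 0) : indFun L α g = 0 := by
  rw [indFun_apply, Finset.sum_eq_zero, mul_zero]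
  intro x _
  by_cases hx : x⁻¹ * g * x ∈ L
  · rw [extendByZero_of_mem L α hx, h x hx]
  · exact extendByZero_of_not_mem L α hx

/-- induction from `L` does not change the values on `H - 1` of a class function vanishing
off `H` -/
theorem FrobTI.indFun_apply_of_mem (D : FrobTI L H) {α : L → ℂ} (hα : IsClassFunction L α)
    (hsupp : ∀ x : L, (x : G) ∉ H → α x = 0) (a : L) (ha : (a : G) ∈ H) (ha1 : a ≠ 1) :
    indFun L α a = α a := by
  classical
  have h1 : ∀ x : G, extendByZero L α (x⁻¹ * a * x) = if x ∈ L then α a else 0 := by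
    intro x
    split_ifs with hx
    · have hm : x⁻¹ * a * x ∈ L := L.mul_mem (L.mul_mem (L.inv_mem hx) a.2) hx
      rw [extendByZero_of_mem L α hm]
      have := hα a (⟨x, hx⟩ : L)⁻¹
      rw [← this]
      congr 1
      apply Subtype.ext
      simp
    · by_cases hm : x⁻¹ * a * x ∈ L
      · rw [extendByZero_of_mem L α hm]
        apply hsupp
        intro hH
        apply ha1
        have hx' : x⁻¹ ∉ L := fun h => hx (by simpa using L.inv_mem h)
        have := D.ti x⁻¹ hx' a ha (by simpa using hH)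
        exact Subtype.ext this
      · exact extendByZero_of_not_mem L α hm
  rw [indFun_apply, Finset.sum_congr rfl (fun x _ => h1 x), Finset.sum_ite, Finset.sum_const_zero,
    add_zero, Finset.sum_const, nsmul_eq_mul, ← mul_assoc]
  have h2 : ((Finset.univ.filter (fun x : G => x ∈ L)).card : ℂ) = (Nat.card L : ℂ) := by
    rw [Nat.card_eq_fintype_card, Fintype.card_subtype]
  rw [h2, inv_mul_cancel₀ (card_ne_zero_complex L), one_mul]

theorem FrobTI.S_irr (D : FrobTI L H) {ξ : L → ℂ} (hξ : ξ ∈ frobS L H) : IsIrrCharacter L ξ := by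
  obtain ⟨θ, h1, h2, -, rfl⟩ := hξ
  exact indFun_irr_of_frob' D.normal D.frob h1 h2

theorem FrobTI.S_vanish (D : FrobTI L H) {ξ : L → ℂ} (hξ : ξ ∈ frobS L H) {x : L}
    (hx : (x : G) ∉ H) : ξ x = 0 := by
  obtain ⟨θ, h1, h2, -, rfl⟩ := hξ
  haveI := D.normal
  exact indFun_normal_eq_zero _ θ (fun h => hx (Subgroup.mem_subgroupOf.mp h))

theorem FrobTI.S_of_irr (D : FrobTI L H) {η : L → ℂ} (hη : IsIrrCharacter L η)
    (hrel : ∃ k ∈ H.subgroupOf L, η k ≠ η 1) : η ∈ frobS L H := by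
  obtain ⟨lam, h1, h2, h3⟩ := exists_eq_indFun_of_frob' D.normal D.frob hη hrel
  refine ⟨lam, h1, h2, ?_, h3⟩
  intro a ha
  have : a = 1 := by
    apply Subtype.ext
    simpa using ha
  rw [this]

/-- `[1_H^L, ξ] = 0` -/
theorem FrobTI.inner_indOne (D : FrobTI L H) {ξ : L → ℂ} (hξ : ξ ∈ frobS L H) :
    classInner (indFun (H.subgroupOf L) (fun _ => (1 : ℂ))) ξ = 0 := by
  classical
  have := Fintype.ofFinite (H.subgroupOf L)
  have hirr := D.S_irr hξ
  obtain ⟨θ, h1, h2, -, rfl⟩ := hξ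
  haveI := D.normal
  rw [frobenius_reciprocity _ _ _ (isClassFunction_of_isCharacter
    (isCharacter_of_isIrrCharacter hirr))]
  exact classInner_eq_zero_symm (indFun_res_inner_one _ h1 h2)

theorem isIrr_one' (X : Type*) [Group X] : IsIrrCharacter X (fun _ => (1 : ℂ)) :=
  Cfsg.Agent.Lib.Helper4.isIrrCharacter_one

theorem FrobTI.S_ne_one (D : FrobTI L H) {ξ : L → ℂ} (hξ : ξ ∈ frobS L H) :
    ξ ≠ fun _ => 1 := by
  classical
  have := Fintype.ofFinite (H.subgroupOf L)
  intro h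
  have h0 := D.inner_indOne hξ
  rw [h, frobenius_reciprocity _ _ _ (fun _ _ => rfl)] at h0
  have h1 : classInner (fun _ : H.subgroupOf L => (1 : ℂ)) (fun _ => (1 : ℂ)) = 1 :=
    classInner_irr_self (isIrr_one' _)
  rw [h1] at h0
  exact one_ne_zero h0

theorem FrobTI.inner_one (D : FrobTI L H) {ξ : L → ℂ} (hξ : ξ ∈ frobS L H) :
    classInner ξ (fun _ => (1 : ℂ)) = 0 :=
  classInner_irr_ne (D.S_irr hξ) (isIrr_one' _) (D.S_ne_one hξ)

theorem FrobTI.S_conj (D : FrobTI L H) {ξ : L → ℂ} (hξ : ξ ∈ frobS L H) :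
    conjFun ξ ∈ frobS L H := inducedIrrAbove_conj _ hξ

theorem FrobTI.S_conj_ne (D : FrobTI L H) {ξ : L → ℂ} (hξ : ξ ∈ frobS L H) :
    conjFun ξ ≠ ξ := by
  intro h
  apply D.S_ne_one hξ
  refine Cfsg.Agent.S0161.result D.odd ⟨ξ, D.S_irr hξ⟩ ?_
  intro g
  have := congrFun h g
  rw [conjFun_apply] at this
  exact Complex.conj_eq_iff_im.mp this

theorem FrobTI.S_deg (D : FrobTI L H) {ξ : L → ℂ} (hξ : ξ ∈ frobS L H) :
    ∃ n : ℕ, 0 < n ∧ ξ 1 = n := irr_apply_one (D.S_irr hξ)

end basic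

end Cfsg.Agent.Lib.Helper31
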