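import Cfsg.Agent.Lib.Helper31.FrobCoh

/-!
# Coherent isometry attached to a Frobenius subgroup with TI kernel: values on the kernel
-/

set_option autoImplicit false
set_option linter.unusedSectionVars false
set_option linter.style.haveILetI false
open Cfsg
open scoped ComplexConjugate

namespace Cfsg.Agent.Lib.Helper31

open Cfsg.Agent.Lib.Helper5 Cfsg.Agent.Lib.Helper20 Cfsg.Agent.Lib.Helper32 Cfsg.Agent.Lib.Helper19

variable {G : Type*} [Group G] [Fintype G] {L H : Subgroup G} [Fintype L]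

/-- coherent isometry -/
structure CohIso (L H : Subgroup G) [Fintype L] (ν : (L → ℂ) → (G → ℂ)) : Prop where
  iso : IsLinearIsometryOn (zspan (frobS L H)) ν
  ext : ∀ α ∈ zspanOn (frobS L H) ({1}ᶜ : Set L), ν α = indFun L α

variable {ν : (L → ℂ) → (G → ℂ)}

theorem CohIso.signed (C : CohIso L H ν) (D : FrobTI L H) {ξ : L → ℂ} (hξ : ξ ∈ frobS L H) :
    SignedIrr G (ν ξ) := iso_signedIrr (fun _ h => D.S_irr h) C.iso hξ

theorem CohIso.genChar (C : CohIso L H ν) {ξ : L → ℂ} (hξ : ξ ∈ frobS L H) :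
    IsGeneralizedCharacter G (ν ξ) := C.iso.2.2.2 ξ (zspan_of_mem hξ)

theorem CohIso.inner (C : CohIso L H ν) {ξ η : L → ℂ} (hξ : ξ ∈ frobS L H)
    (hη : η ∈ frobS L H) : classInner (ν ξ) (ν η) = classInner ξ η :=
  C.iso.2.2.1 ξ (zspan_of_mem hξ) η (zspan_of_mem hη)

/-- **Constancy.**  If `[ν ξ, Z] = [ξ, f]` for all `ξ ∈ S` then `Z - f` is constant on `H - 1`. -/
theorem CohIso.const_of_inner (C : CohIso L H ν) (D : FrobTI L H) {χ : L → ℂ}
    (hχ : χ ∈ frobS L H) {Z : G → ℂ} (hZ : IsClassFunction G Z) {f : L → ℂ}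
    (hf : IsClassFunction L f)
    (h : ∀ ξ ∈ frobS L H, classInner (ν ξ) Z = classInner ξ f) {a b : L}
    (ha : (a : G) ∈ H) (hb : (b : G) ∈ H) (ha1 : a ≠ 1) (hb1 : b ≠ 1) :
    Z a - f a = Z b - f b := by
  obtain ⟨dχ, hdχ0, hdχ⟩ := D.S_deg hχ
  have hZL : IsClassFunction L (fun n : L => Z n) := fun g x => hZ g x
  have hF : IsClassFunction L (fun n : L => Z n - f n) := by
    intro g x
    change Z ((x * g * x⁻¹ : L) : G) - f (x * g * x⁻¹) = Z g - f g
    rw [hf g x]
    congr 1
    exact hZ g x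
  have key := const_of_proportional (H.subgroupOf L) hF
    (classInner (fun n : L => Z n - f n) χ / dχ) ?_ (a := a) (b := b)
    (Subgroup.mem_subgroupOf.mpr ha) (Subgroup.mem_subgroupOf.mpr hb) ha1 hb1
  · exact key
  · intro η hη hrel
    have hηS := D.S_of_irr hη hrel
    obtain ⟨dη, -, hdη⟩ := D.S_deg hηS
    have hrec := star_reciprocity C.iso C.ext hχ hηS (dχ := (dχ : ℤ)) (dξ := (dη : ℤ))
      (by rw [hdχ]; simp) (by rw [hdη]; simp) hZ
    rw [h χ hχ, h η hηS] at hrec
    have e1 : ∀ ξ : L → ℂ, classInner (fun n : L => Z n - f n) ξ =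
        conj (classInner ξ (fun n : L => Z n) - classInner ξ f) := by
      intro ξ
      have : (fun n : L => Z n - f n) = (fun n : L => Z n) - f := rfl
      rw [this, classInner_sub_left, map_sub, classInner_conj_symm, classInner_conj_symm]
    rw [e1, e1, hdη]
    have hd : (dχ : ℂ) ≠ 0 := by exact_mod_cast hdχ0.ne'
    have e2 : classInner η (fun n : L => Z n) - classInner η f =
        (classInner χ (fun n : L => Z n) - classInner χ f) / dχ * dη := by
      field_simp
      push_cast at hrec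
      linear_combination hrec
    rw [e2]
    simp only [map_mul, map_div₀, Complex.conj_natCast]

/-- integrality of the constant -/
theorem CohIso.exists_const (C : CohIso L H ν) (D : FrobTI L H) {χ : L → ℂ}
    (hχ : χ ∈ frobS L H) {Z : G → ℂ} (hZ : IsGeneralizedCharacter G Z) {f : L → ℂ}
    (hf : IsGeneralizedCharacter L f)
    (h : ∀ ξ ∈ frobS L H, classInner (ν ξ) Z = classInner ξ f) :
    ∃ z : ℤ, ∀ a : L, (a : G) ∈ H → a ≠ 1 → Z a = f a + z := by
  classical
  obtain ⟨a₀, ha₀, ha₀1⟩ : ∃ a₀ : G, a₀ ∈ H ∧ a₀ ≠ 1 := by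
    by_contra hcon
    push Not at hcon
    exact D.ne_bot ((Subgroup.eq_bot_iff_forall _).mpr hcon)
  let a₁ : L := ⟨a₀, D.le ha₀⟩
  have ha₁ : a₁ ≠ 1 := fun h => ha₀1 (congrArg Subtype.val h)
  have hconst : ∀ a : L, (a : G) ∈ H → a ≠ 1 → Z a - f a = Z a₁ - f a₁ := fun a ha ha1 =>
    C.const_of_inner D hχ (genChar_isClassFunction hZ) (genChar_isClassFunction hf) h ha ha₀ ha1 ha₁
  haveI : Nontrivial (H.subgroupOf L) :=
    ⟨⟨⟨a₁, Subgroup.mem_subgroupOf.mpr ha₀⟩, 1, fun h => ha₁ (congrArg Subtype.val h)⟩⟩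
  have hg : IsGeneralizedCharacter (H.subgroupOf L)
      (fun k : H.subgroupOf L => Z ((k : L) : G) - f (k : L)) := by
    have h1 := genChar_comp_hom hZ (L.subtype.comp (H.subgroupOf L).subtype)
    have h2 := genChar_comp_hom hf (H.subgroupOf L).subtype
    exact genChar_sub h1 h2
  obtain ⟨z, hz⟩ := int_of_const_genChar hg (Z a₁ - f a₁) (by
    intro k hk
    exact hconst k (Subgroup.mem_subgroupOf.mp k.2) (fun h => hk (Subtype.ext h)))
  refine ⟨z, fun a ha ha1 => ?_⟩
  have := hconst a ha ha1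
  rw [hz] at this
  linear_combination this

/-- difference of two members of `S` of the same degree -/
theorem CohIso.map_sub_of_deg (C : CohIso L H ν) {ξ η : L → ℂ} (hξ : ξ ∈ frobS L H)
    (hη : η ∈ frobS L H) (hdeg : ξ 1 = η 1) : ν ξ - ν η = indFun L (ξ - η) := by
  have hM : IsLinearIsometryOn ((Submodule.span ℤ (frobS L H) : Submodule ℤ (L → ℂ)) :
      Set (L → ℂ)) ν := C.iso
  rw [← iso_map_sub hM (Submodule.subset_span hξ) (Submodule.subset_span hη)]
  apply C.ext
  rw [mem_zspanOn_one]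
  refine ⟨(Submodule.span ℤ (frobS L H)).sub_mem (Submodule.subset_span hξ)
    (Submodule.subset_span hη), ?_⟩
  rw [Pi.sub_apply, hdeg, sub_self]

theorem conjFun_one_of_irr {X : Type*} [Group X] {ξ : X → ℂ} (h : IsIrrCharacter X ξ) :
    conjFun ξ 1 = ξ 1 := conjFun_one_of_char (isCharacter_of_isIrrCharacter h)

theorem signedIrr_conj {α : G → ℂ} (h : SignedIrr G α) : SignedIrr G (conjFun α) := by
  rcases h with h | h
  · exact Or.inl (isIrr_conjFun h)
  · refine Or.inr ?_
    rw [← conjFun_neg]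
    exact isIrr_conjFun h

/-- `ν` commutes with complex conjugation -/
theorem CohIso.map_conj (C : CohIso L H ν) (D : FrobTI L H) {ξ : L → ℂ} (hξ : ξ ∈ frobS L H) :
    ν (conjFun ξ) = conjFun (ν ξ) := by
  have hξ' := D.S_conj hξ
  have hdeg : ξ 1 = conjFun ξ 1 := (conjFun_one_of_irr (D.S_irr hξ)).symm
  have h1 := C.map_sub_of_deg hξ hξ' hdeg
  have h2 : conjFun (ν ξ) - conjFun (ν (conjFun ξ)) = ν (conjFun ξ) - ν ξ := by
    rw [← conjFun_sub, h1, indFun_conjFun, conjFun_sub, conjFun_conjFun,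
      ← C.map_sub_of_deg hξ' hξ hdeg.symm]
  have s1 := C.signed D hξ
  have s2 := C.signed D hξ'
  have o12 : classInner (ν ξ) (ν (conjFun ξ)) = 0 := by
    rw [C.inner hξ hξ']
    exact classInner_irr_ne (D.S_irr hξ) (D.S_irr hξ') (D.S_conj_ne hξ).symm
  have h3 : classInner (conjFun (ν ξ)) (ν (conjFun ξ)) -
      classInner (conjFun (ν (conjFun ξ))) (ν (conjFun ξ)) = 1 := by
    rw [← classInner_sub_left, h2, classInner_sub_left, s2.inner_self, o12, sub_zero]
  -- the second term vanishes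
  have hone : ∀ α : G → ℂ, SignedIrr G α → conjFun α 1 = α 1 := by
    intro α hα
    obtain ⟨n, hn⟩ := genChar_apply_one hα.genChar
    rw [conjFun_apply, hn, map_intCast]
  have h4 : classInner (conjFun (ν (conjFun ξ))) (ν (conjFun ξ)) = 0 := by
    rcases SignedIrr.cases (signedIrr_conj s2) s2 with h | ⟨ε, hε, h⟩
    · exact h
    · exfalso
      rcases hε with rfl | rfl
      · rw [h, classInner_smul_left, s2.inner_self] at h3
        rcases SignedIrr.cases (signedIrr_conj s1) s2 with h' | ⟨ε', hε', h'⟩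
        · rw [h'] at h3; norm_num at h3
        · rw [h', classInner_smul_left, s2.inner_self] at h3
          rcases hε' with rfl | rfl <;> norm_num at h3
      · have := congrFun h 1
        rw [hone _ s2, Pi.smul_apply, smul_eq_mul] at this
        have h0 : ν (conjFun ξ) 1 = 0 := by
          push_cast at this
          linear_combination this / 2
        exact s2.one_ne h0
  rw [h4, sub_zero] at h3
  rcases SignedIrr.cases (signedIrr_conj s1) s2 with h' | ⟨ε', hε', h'⟩
  · rw [h'] at h3; norm_num at h3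
  · rw [h', classInner_smul_left, s2.inner_self] at h3
    rcases hε' with rfl | rfl
    · rw [h']; simp
    · norm_num at h3

end Cfsg.Agent.Lib.Helper31
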