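import Cfsg.Agent.Lib.Helper31.FrobCoh2

/-!
# The class function `β = (1_H^L - χ)^G`
-/

set_option autoImplicit false
set_option linter.unusedSectionVars false
set_option linter.style.haveILetI false
open Cfsg
open scoped ComplexConjugate

namespace Cfsg.Agent.Lib.Helper31

open Cfsg.Agent.Lib.Helper5 Cfsg.Agent.Lib.Helper20 Cfsg.Agent.Lib.Helper32 Cfsg.Agent.Lib.Helper19

variable {G : Type*} [Group G] [Fintype G] {L H : Subgroup G} [Fintype L]

theorem indFun_sub' {X : Type*} [Group X] [Fintype X] (U : Subgroup X) (θ θ' : U → ℂ) :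
    indFun U (θ - θ') = indFun U θ - indFun U θ' := by
  funext g
  simp only [Pi.sub_apply, indFun_apply]
  rw [← mul_sub, ← Finset.sum_sub_distrib]
  congr 1
  apply Finset.sum_congr rfl
  intro x _
  by_cases h : x⁻¹ * g * x ∈ U
  · simp [extendByZero_of_mem _ _ h]
  · simp [extendByZero_of_not_mem _ _ h]

/-- `γ = 1_H^L - χ` -/
noncomputable def gam (L H : Subgroup G) [Fintype L] (χ : L → ℂ) : L → ℂ :=
  indFun (H.subgroupOf L) (fun _ => (1 : ℂ)) - χ

/-- `β = γ^G` -/
noncomputable def bet (L H : Subgroup G) [Fintype L] (χ : L → ℂ) : G → ℂ :=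
  indFun L (gam L H χ)

variable {χ : L → ℂ}

theorem FrobTI.gam_supp (D : FrobTI L H) (hχ : χ ∈ frobS L H) {x : L} (hx : (x : G) ∉ H) :
    gam L H χ x = 0 := by
  haveI := D.normal
  rw [gam, Pi.sub_apply, D.S_vanish hχ hx,
    indFun_normal_eq_zero _ _ (fun h => hx (Subgroup.mem_subgroupOf.mp h)), sub_zero]

theorem gam_one (hdeg : χ 1 = ((H.subgroupOf L).index : ℂ)) : gam L H χ 1 = 0 := by
  rw [gam, Pi.sub_apply, Cfsg.Agent.Lib.Helper5.indFun_one, hdeg, mul_one, sub_self]

theorem FrobTI.gam_class (D : FrobTI L H) (hχ : χ ∈ frobS L H) :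
    IsClassFunction L (gam L H χ) :=
  isClassFunction_sub (indFun_isClassFunction _ _)
    (isClassFunction_of_isCharacter (isCharacter_of_isIrrCharacter (D.S_irr hχ)))

theorem FrobTI.gam_inner_one (D : FrobTI L H) (hχ : χ ∈ frobS L H) :
    classInner (gam L H χ) (fun _ => (1 : ℂ)) = 1 := by
  classical
  have := Fintype.ofFinite (H.subgroupOf L)
  rw [gam, classInner_sub_left, D.inner_one hχ, sub_zero,
    frobenius_reciprocity _ _ _ (fun _ _ => rfl)]
  exact classInner_irr_self (isIrr_one' _)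

theorem FrobTI.gam_inner_S (D : FrobTI L H) (hχ : χ ∈ frobS L H) {ξ : L → ℂ}
    (hξ : ξ ∈ frobS L H) : classInner (gam L H χ) ξ = - classInner χ ξ := by
  rw [gam, classInner_sub_left, D.inner_indOne hξ, zero_sub]

theorem FrobTI.gam_norm (D : FrobTI L H) (hχ : χ ∈ frobS L H) :
    classInner (gam L H χ) (gam L H χ) = ((H.subgroupOf L).index : ℂ) + 1 := by
  haveI := D.normal
  have h1 : classInner (gam L H χ) (indFun (H.subgroupOf L) (fun _ => (1 : ℂ))) =
      ((H.subgroupOf L).index : ℂ) := by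
    rw [gam, classInner_sub_left,
      classInner_indFun_self_of_invariant _ _ (isIrr_one' _) (fun _ _ => rfl),
      classInner_eq_zero_symm (D.inner_indOne hχ), sub_zero]
  conv_lhs => rw [gam, classInner_sub_right]
  rw [← gam, h1, D.gam_inner_S hχ hχ, classInner_irr_self (D.S_irr hχ)]
  ring

theorem FrobTI.bet_genChar (D : FrobTI L H) (hχ : χ ∈ frobS L H) :
    IsGeneralizedCharacter G (bet L H χ) := by
  refine ⟨indFun L (indFun (H.subgroupOf L) (fun _ => (1 : ℂ))), indFun L χ, ?_, ?_, ?_⟩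
  · exact isCharacter_indFun _ _ (isCharacter_indFun _ _
      (isCharacter_of_isIrrCharacter (isIrr_one' _)))
  · exact isCharacter_indFun _ _ (isCharacter_of_isIrrCharacter (D.S_irr hχ))
  · rw [bet, gam]
    exact indFun_sub' _ _ _

/-- inner product of `β` with a class function known on `H - 1` -/
theorem FrobTI.bet_inner (D : FrobTI L H) (hχ : χ ∈ frobS L H)
    (hdeg : χ 1 = ((H.subgroupOf L).index : ℂ)) {Z : G → ℂ} (hZ : IsClassFunction G Z)
    (f : L → ℂ) (z : ℂ) (h : ∀ a : L, (a : G) ∈ H → a ≠ 1 → Z a = f a + z) :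
    classInner (bet L H χ) Z = classInner (gam L H χ) f + conj z := by
  rw [bet, frobenius_reciprocity _ _ _ hZ]
  have h1 : classInner (gam L H χ) (fun n : L => Z n) =
      classInner (gam L H χ) (f + z • (fun _ => (1 : ℂ))) := by
    unfold classInner
    congr 1
    apply Finset.sum_congr rfl
    intro x _
    by_cases hx : (x : G) ∈ H
    · by_cases hx1 : x = 1
      · rw [hx1, gam_one hdeg, zero_mul, zero_mul]
      · have := h x hx hx1
        simp only [this]
        simp
    · rw [D.gam_supp hχ hx, zero_mul, zero_mul]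
  rw [h1, classInner_add_right, classInner_smul_right, D.gam_inner_one hχ, mul_one]

theorem FrobTI.bet_apply (D : FrobTI L H) (hχ : χ ∈ frobS L H) (a : L) (ha : (a : G) ∈ H)
    (ha1 : a ≠ 1) : bet L H χ a = gam L H χ a :=
  D.indFun_apply_of_mem (D.gam_class hχ) (fun _ hx => D.gam_supp hχ hx) a ha ha1

theorem FrobTI.bet_norm (D : FrobTI L H) (hχ : χ ∈ frobS L H)
    (hdeg : χ 1 = ((H.subgroupOf L).index : ℂ)) :
    classInner (bet L H χ) (bet L H χ) = ((H.subgroupOf L).index : ℂ) + 1 := by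
  have hc : IsClassFunction G (bet L H χ) := indFun_isClassFunction _ _
  rw [D.bet_inner hχ hdeg hc (gam L H χ) 0
    (fun a ha ha1 => by rw [D.bet_apply hχ a ha ha1, add_zero]), D.gam_norm hχ, map_zero, add_zero]

theorem FrobTI.bet_inner_one (D : FrobTI L H) (hχ : χ ∈ frobS L H)
    (hdeg : χ 1 = ((H.subgroupOf L).index : ℂ)) :
    classInner (bet L H χ) (fun _ => (1 : ℂ)) = 1 := by
  rw [D.bet_inner hχ hdeg (fun _ _ => rfl) 0 1 (fun a _ _ => by simp)]
  simp

/-- an induced function vanishes at elements not conjugate into `H - 1` -/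
theorem FrobTI.indFun_eq_zero (D : FrobTI L H) {α : L → ℂ}
    (hsupp : ∀ x : L, (x : G) ∉ H → α x = 0) (h1 : α 1 = 0) {g : G}
    (hg : ∀ x : G, x⁻¹ * g * x ∈ H → g = 1) : indFun L α g = 0 := by
  apply indFun_eq_zero_of_forall
  intro x hx
  by_cases hH : x⁻¹ * g * x ∈ H
  · have := hg x hH
    subst this
    have : (⟨x⁻¹ * 1 * x, hx⟩ : L) = 1 := by
      apply Subtype.ext; simp
    rw [this, h1]
  · exact hsupp _ hH

theorem FrobTI.bet_eq_zero (D : FrobTI L H) (hχ : χ ∈ frobS L H)
    (hdeg : χ 1 = ((H.subgroupOf L).index : ℂ)) {g : G}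
    (hg : ∀ x : G, x⁻¹ * g * x ∈ H → g = 1) : bet L H χ g = 0 :=
  D.indFun_eq_zero (fun _ hx => D.gam_supp hχ hx) (gam_one hdeg) hg

variable {ν : (L → ℂ) → (G → ℂ)}

/-- `β + ν χ` is real -/
theorem CohIso.bet_add_real (C : CohIso L H ν) (D : FrobTI L H) (hχ : χ ∈ frobS L H) :
    conjFun (bet L H χ + ν χ) = bet L H χ + ν χ := by
  have hχ' := D.S_conj hχ
  have hdeg : χ 1 = conjFun χ 1 := (conjFun_one_of_irr (D.S_irr hχ)).symm
  have h1 := C.map_sub_of_deg hχ' hχ hdeg.symm
  have h2 : conjFun (bet L H χ) = bet L H χ - indFun L (conjFun χ - χ) := by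
    rw [bet, indFun_conjFun, ← indFun_sub']
    congr 1
    rw [gam, conjFun_sub, indFun_conjFun]
    have : conjFun (fun _ : H.subgroupOf L => (1 : ℂ)) = fun _ => 1 := by
      funext x; simp [conjFun_apply]
    rw [this]
    abel
  rw [conjFun_add, h2, ← h1, ← C.map_conj D hχ]
  abel

end Cfsg.Agent.Lib.Helper31
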