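import Cfsg.Agent.Lib.Helper31.FrobCoh3

/-!
# Parity of inner products of real generalized characters in groups of odd order; sums over `H - 1`
-/

set_option autoImplicit false
set_option linter.unusedSectionVars false
set_option linter.style.haveILetI false
open Cfsg
open scoped ComplexConjugate

namespace Cfsg.Agent.Lib.Helper31

open Cfsg.Agent.Lib.Helper5 Cfsg.Agent.Lib.Helper20 Cfsg.Agent.Lib.Helper32 Cfsg.Agent.Lib.Helper19

variable {G : Type*} [Group G] [Fintype G]

/-- In a group of odd order, `[A, B] ≡ [A, 1][B, 1] (mod 2)` for real generalized characters. -/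
theorem real_genChar_parity (hodd : Odd (Nat.card G)) {A B : G → ℂ}
    (hA : IsGeneralizedCharacter G A) (hB : IsGeneralizedCharacter G B)
    (hAr : conjFun A = A) (hBr : conjFun B = B) {a0 b0 m : ℤ}
    (ha0 : classInner A (fun _ => (1 : ℂ)) = a0) (hb0 : classInner B (fun _ => (1 : ℂ)) = b0)
    (hm : classInner A B = m) : Even (m - a0 * b0) := by
  classical
  have := Cfsg.Agent.Lib.Helper20.finite_irrCharacter (G := G)
  have := Fintype.ofFinite (IrrCharacter G)
  obtain ⟨a, ha⟩ := genChar_exists_coeff hA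
  obtain ⟨b, hb⟩ := genChar_exists_coeff hB
  have hexp := genChar_expand hA ha
  have hsum : m = ∑ χ : IrrCharacter G, a χ * b χ := by
    have h1 : classInner A B = ∑ χ : IrrCharacter G, (a χ : ℂ) * (b χ : ℂ) := by
      conv_lhs => rw [hexp]
      rw [classInner_sum_left]
      apply Finset.sum_congr rfl
      intro χ _
      rw [classInner_smul_left, ← classInner_conj_symm, hb χ, map_intCast]
    rw [hm] at h1
    exact_mod_cast h1
  let one : IrrCharacter G := ⟨fun _ => 1, isIrr_one' G⟩
  let cj : IrrCharacter G → IrrCharacter G := fun χ => ⟨conjFun χ.1, isIrr_conjFun χ.2⟩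
  have hcj2 : ∀ χ, cj (cj χ) = χ := fun χ => Subtype.ext (conjFun_conjFun _)
  have hacj : ∀ χ, a (cj χ) = a χ := by
    intro χ
    have h1 : classInner A (conjFun χ.1) = conj (classInner A χ.1) := by
      conv_lhs => rw [← hAr]
      exact classInner_conjFun _ _
    have h2 := ha (cj χ)
    change classInner A (conjFun χ.1) = _ at h2
    rw [h1, ha χ, map_intCast] at h2
    exact_mod_cast h2.symm
  have hbcj : ∀ χ, b (cj χ) = b χ := by
    intro χ
    have h1 : classInner B (conjFun χ.1) = conj (classInner B χ.1) := by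
      conv_lhs => rw [← hBr]
      exact classInner_conjFun _ _
    have h2 := hb (cj χ)
    change classInner B (conjFun χ.1) = _ at h2
    rw [h1, hb χ, map_intCast] at h2
    exact_mod_cast h2.symm
  have hfix : ∀ χ, cj χ = χ → χ = one := by
    intro χ h
    apply Subtype.ext
    refine Cfsg.Agent.S0161.result hodd χ ?_
    intro g
    have := congrFun (congrArg Subtype.val h) g
    change conjFun χ.1 g = _ at this
    rw [conjFun_apply] at this
    exact Complex.conj_eq_iff_im.mp this
  have hone : cj one = one := by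
    apply Subtype.ext
    funext g
    change conjFun (fun _ => (1 : ℂ)) g = 1
    simp [conjFun_apply]
  have hrest : ((∑ χ ∈ Finset.univ.erase one, a χ * b χ : ℤ) : ZMod 2) = 0 := by
    push_cast
    apply Finset.sum_involution (fun χ _ => cj χ)
    · intro χ _
      rw [hacj, hbcj]
      have : (2 : ZMod 2) = 0 := by decide
      linear_combination ((a χ : ZMod 2) * (b χ : ZMod 2)) * this
    · intro χ hχ _ h
      exact (Finset.mem_erase.mp hχ).1 (hfix χ h)
    · intro χ hχ
      rw [Finset.mem_erase]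
      refine ⟨?_, Finset.mem_univ _⟩
      intro h
      apply (Finset.mem_erase.mp hχ).1
      rw [← hcj2 χ, h, hone]
    · intro χ _
      exact hcj2 χ
  have ha1 : a one = a0 := by
    have := ha one
    change classInner A (fun _ => (1 : ℂ)) = _ at this
    rw [ha0] at this
    exact_mod_cast this.symm
  have hb1 : b one = b0 := by
    have := hb one
    change classInner B (fun _ => (1 : ℂ)) = _ at this
    rw [hb0] at this
    exact_mod_cast this.symm
  rw [← Finset.add_sum_erase _ _ (Finset.mem_univ one), ha1, hb1] at hsum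
  rw [hsum, add_sub_cancel_left]
  rw [(ZMod.intCast_zmod_eq_zero_iff_dvd _ 2)] at hrest
  exact even_iff_two_dvd.mpr (by exact_mod_cast hrest)

section sums
variable {L H : Subgroup G} [Fintype L]

open Classical in
theorem sum_ite_mem_eq (hHL : H ≤ L) (Φ : G → ℂ) :
    (∑ a : G, if (a ∈ H ∧ a ≠ 1) then Φ a else 0) =
      ∑ x : L, if ((x : G) ∈ H ∧ x ≠ 1) then Φ x else 0 := by
  rw [← sum_extendByZero L (fun x : L => if ((x : G) ∈ H ∧ x ≠ 1) then Φ x else 0)]
  apply Finset.sum_congr rfl
  intro a _
  by_cases ha : a ∈ L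
  · rw [extendByZero_of_mem L _ ha]
    have : (⟨a, ha⟩ : L) ≠ 1 ↔ a ≠ 1 := by
      rw [not_iff_not]
      exact ⟨fun h => congrArg Subtype.val h, fun h => Subtype.ext h⟩
    simp only [this]
  · rw [extendByZero_of_not_mem L _ ha, if_neg]
    exact fun h => ha (hHL h.1)

open Classical in
theorem sum_ite_mem_const (w : ℂ) {F : G → ℂ} (h : ∀ a ∈ H, a ≠ 1 → F a = w) :
    (∑ a : G, if (a ∈ H ∧ a ≠ 1) then F a else 0) = w * ((Nat.card H : ℂ) - 1) := by
  have h1 : ∀ a : G, (if (a ∈ H ∧ a ≠ 1) then F a else 0) =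
      (if (a ∈ H ∧ a ≠ 1) then w else 0) := by
    intro a
    split_ifs with ha
    · exact h a ha.1 ha.2
    · rfl
  rw [Finset.sum_congr rfl (fun a _ => h1 a), Finset.sum_ite, Finset.sum_const_zero, add_zero,
    Finset.sum_const, nsmul_eq_mul, mul_comm]
  congr 1
  have e1 : (Finset.univ.filter (fun a : G => a ∈ H ∧ a ≠ 1)) =
      (Finset.univ.filter (fun a : G => a ∈ H)).erase 1 := by
    ext a
    simp [and_comm]
  rw [e1, Finset.card_erase_of_mem (by simp [H.one_mem]), Nat.card_eq_fintype_card,
    Fintype.card_subtype, Nat.cast_sub (Finset.card_pos.mpr ⟨1, by simp [H.one_mem]⟩)]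
  simp

open Classical in
/-- the contribution of `H - 1` to the norm of a class function equal to `χ + z` there -/
theorem FrobTI.sum_norm (D : FrobTI L H) {χ : L → ℂ} (hχ : χ ∈ frobS L H) {Z : G → ℂ} (z : ℤ)
    (h : ∀ a : L, (a : G) ∈ H → a ≠ 1 → Z a = χ a + z) :
    (∑ a : G, if (a ∈ H ∧ a ≠ 1) then Z a * conj (Z a) else 0) =
      (Nat.card L : ℂ) + (z : ℂ) ^ 2 * ((Nat.card H : ℂ) - 1) - χ 1 ^ 2 - 2 * χ 1 * z := by
  obtain ⟨d, -, hd⟩ := D.S_deg hχ
  rw [sum_ite_mem_eq D.le]
  have h1 : ∀ x : L, (if ((x : G) ∈ H ∧ x ≠ 1) then Z x * conj (Z x) else 0) =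
      (χ x * conj (χ x) + z * χ x + z * conj (χ x) + (if (x : G) ∈ H then (z : ℂ) ^ 2 else 0)) -
        (if x = 1 then (χ 1 + z) ^ 2 else 0) := by
    intro x
    by_cases hx : (x : G) ∈ H
    · by_cases hx1 : x = 1
      · subst hx1
        rw [if_neg (by simp), if_pos hx, if_pos rfl, hd]
        simp only [Complex.conj_natCast]
        ring
      · rw [if_pos ⟨hx, hx1⟩, if_pos hx, if_neg hx1, h x hx hx1]
        simp only [map_add, map_intCast]
        ring
    · have hx1 : x ≠ 1 := by
        rintro rfl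
        exact hx H.one_mem
      rw [if_neg (fun h => hx h.1), if_neg hx, if_neg hx1, D.S_vanish hχ hx]
      simp
  rw [Finset.sum_congr rfl (fun x _ => h1 x), Finset.sum_sub_distrib, Finset.sum_add_distrib,
    Finset.sum_add_distrib, Finset.sum_add_distrib, Finset.sum_ite_eq' Finset.univ (1 : L),
    if_pos (Finset.mem_univ _), ← Finset.mul_sum, ← Finset.mul_sum]
  have hL : (Nat.card L : ℂ) ≠ 0 := card_ne_zero_complex L
  have e1 : ∑ x : L, χ x * conj (χ x) = (Nat.card L : ℂ) := by
    have := classInner_irr_self (D.S_irr hχ)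
    rw [classInner] at this
    field_simp at this
    exact this
  have e2 : ∑ x : L, χ x = 0 := by
    have := D.inner_one hχ
    rw [classInner] at this
    simpa [hL] using this
  have e3 : ∑ x : L, conj (χ x) = 0 := by
    rw [← map_sum, e2, map_zero]
  have e4 : (∑ x : L, if (x : G) ∈ H then (z : ℂ) ^ 2 else 0) = (z : ℂ) ^ 2 * (Nat.card H : ℂ) := by
    rw [Finset.sum_ite, Finset.sum_const_zero, add_zero, Finset.sum_const, nsmul_eq_mul, mul_comm]
    congr 2
    rw [← Nat.card_congr (Subgroup.subgroupOfEquivOfLe D.le).toEquiv, Nat.card_eq_fintype_card,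
      Fintype.card_subtype]
    rfl
  rw [e1, e2, e3, e4]
  ring

end sums

end Cfsg.Agent.Lib.Helper31
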