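import Mathlib
import Cfsg.Prelude.Def_OddOrderLocal
import Cfsg.Prelude.Def_Characters

/-!
# Partition of a finite group by the conjugates of a family of TI-subgroups

`sum_eq_of_ti_cover`: if the subgroups `H i` have pairwise coprime orders, are TI-subsets and every
non-identity element is conjugate into some `H i`, then for a class function `F`
`∑ g, F g = F 1 + ∑ i, [G : N(H i)] * ∑_{a ∈ H i, a ≠ 1} F a`.
-/

set_option autoImplicit false
set_option linter.unusedSectionVars false
open Cfsg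

namespace Cfsg.Agent.Lib.Helper31

variable {G : Type*} [Group G] [Fintype G]

open Classical in
/-- for `a ∈ H`, `a ≠ 1` and `H` TI: `y a y⁻¹ ∈ H ↔ y ∈ N(H)` -/
theorem ti_conj_mem_iff {H : Subgroup G} (hTI : IsTISubset (H : Set G)) {a : G} (ha : a ∈ H)
    (ha1 : a ≠ 1) (y : G) : y * a * y⁻¹ ∈ H ↔ y ∈ Subgroup.normalizer (H : Set G) := by
  constructor
  · intro h
    by_contra hy
    exact ha1 (hTI y hy a ha h)
  · intro h
    exact (Subgroup.mem_normalizer_iff.mp h a).mp ha

open Classical in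
/-- counting the conjugating elements -/
theorem ti_count {H : Subgroup G} (hTI : IsTISubset (H : Set G)) (g : G) :
    (∑ x : G, if (x * g * x⁻¹ ∈ H ∧ g ≠ 1) then (1 : ℂ) else 0) =
      if (g ≠ 1 ∧ ∃ x : G, x * g * x⁻¹ ∈ H) then
        (Nat.card (Subgroup.normalizer (H : Set G)) : ℂ) else 0 := by
  split_ifs with h
  · obtain ⟨hg, x₀, hx₀⟩ := h
    have ha1 : x₀ * g * x₀⁻¹ ≠ 1 := by
      intro h1
      apply hg
      have : g = x₀⁻¹ * (x₀ * g * x₀⁻¹) * x₀ := by group
      rw [this, h1]; group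
    have h1 : ∀ x : G, (x * g * x⁻¹ ∈ H ∧ g ≠ 1) ↔
        x * x₀⁻¹ ∈ Subgroup.normalizer (H : Set G) := by
      intro x
      rw [← ti_conj_mem_iff hTI hx₀ ha1]
      have : x * x₀⁻¹ * (x₀ * g * x₀⁻¹) * (x * x₀⁻¹)⁻¹ = x * g * x⁻¹ := by group
      rw [this]
      exact ⟨fun h => h.1, fun h => ⟨h, hg⟩⟩
    simp only [h1]
    rw [← Equiv.sum_comp (Equiv.mulRight x₀)
      (fun x => if x * x₀⁻¹ ∈ Subgroup.normalizer (H : Set G) then (1 : ℂ) else 0)]
    simp only [Equiv.coe_mulRight, mul_inv_cancel_right]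
    rw [Finset.sum_ite, Finset.sum_const_zero, add_zero, Finset.sum_const, nsmul_eq_mul, mul_one,
      Nat.card_eq_fintype_card, Fintype.card_subtype]
  · apply Finset.sum_eq_zero
    intro x _
    rw [if_neg]
    rintro ⟨h1, h2⟩
    exact h ⟨h2, x, h1⟩

open Classical in
/-- the sum of a class function over the non-identity elements conjugate into a TI-subgroup -/
theorem ti_sum {H : Subgroup G} (hTI : IsTISubset (H : Set G)) {F : G → ℂ}
    (hF : IsClassFunction G F) :
    (∑ g : G, if (g ≠ 1 ∧ ∃ x : G, x * g * x⁻¹ ∈ H) then F g else 0) =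
      ((Subgroup.normalizer (H : Set G)).index : ℂ) *
        ∑ a : G, if (a ∈ H ∧ a ≠ 1) then F a else 0 := by
  have hN : (Nat.card (Subgroup.normalizer (H : Set G)) : ℂ) ≠ 0 := by
    exact_mod_cast Nat.card_pos.ne'
  have h1 : ∀ x : G, (∑ g : G, if (x * g * x⁻¹ ∈ H ∧ g ≠ 1) then F g else 0) =
      ∑ a : G, if (a ∈ H ∧ a ≠ 1) then F a else 0 := by
    intro x
    rw [← Equiv.sum_comp (MulAut.conj x).toEquiv
      (fun a => if (a ∈ H ∧ a ≠ 1) then F a else 0)]
    apply Finset.sum_congr rfl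
    intro g _
    have e1 : (MulAut.conj x).toEquiv g = x * g * x⁻¹ := rfl
    rw [e1, hF g x]
    have e2 : x * g * x⁻¹ ≠ 1 ↔ g ≠ 1 := by
      rw [not_iff_not]
      constructor
      · intro h
        have : g = x⁻¹ * (x * g * x⁻¹) * x := by group
        rw [this, h]; group
      · intro h; rw [h]; group
    simp only [e2]
  have h2 : (∑ x : G, ∑ g : G, if (x * g * x⁻¹ ∈ H ∧ g ≠ 1) then F g else 0) =
      (Nat.card G : ℂ) * ∑ a : G, if (a ∈ H ∧ a ≠ 1) then F a else 0 := by
    rw [Finset.sum_congr rfl (fun x _ => h1 x), Finset.sum_const, nsmul_eq_mul,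
      Nat.card_eq_fintype_card]
    rfl
  have h3 : (∑ x : G, ∑ g : G, if (x * g * x⁻¹ ∈ H ∧ g ≠ 1) then F g else 0) =
      (Nat.card (Subgroup.normalizer (H : Set G)) : ℂ) *
        ∑ g : G, if (g ≠ 1 ∧ ∃ x : G, x * g * x⁻¹ ∈ H) then F g else 0 := by
    rw [Finset.sum_comm, Finset.mul_sum]
    apply Finset.sum_congr rfl
    intro g _
    have := ti_count hTI g
    have e : (∑ x : G, if (x * g * x⁻¹ ∈ H ∧ g ≠ 1) then F g else 0) =
        (∑ x : G, if (x * g * x⁻¹ ∈ H ∧ g ≠ 1) then (1 : ℂ) else 0) * F g := by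
      rw [Finset.sum_mul]
      apply Finset.sum_congr rfl
      intro x _
      split_ifs <;> simp
    rw [e, this]
    split_ifs <;> simp
  have h4 : (Nat.card G : ℂ) = (Nat.card (Subgroup.normalizer (H : Set G)) : ℂ) *
      ((Subgroup.normalizer (H : Set G)).index : ℂ) := by
    rw [← Nat.cast_mul, Subgroup.card_mul_index]
  rw [h2, h4, mul_assoc] at h3
  exact (mul_left_cancel₀ hN h3).symm

open Classical in
/-- **Partition formula.** -/
theorem sum_eq_of_ti_cover {ι : Type*} [Fintype ι] (H : ι → Subgroup G)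
    (hcop : ∀ i j, i ≠ j → Nat.Coprime (Nat.card (H i)) (Nat.card (H j)))
    (hTI : ∀ i, IsTISubset (H i : Set G))
    (hcover : ∀ g : G, g ≠ 1 → ∃ i, ∃ x : G, x * g * x⁻¹ ∈ H i) {F : G → ℂ}
    (hF : IsClassFunction G F) :
    ∑ g : G, F g = F 1 + ∑ i, ((Subgroup.normalizer (H i : Set G)).index : ℂ) *
        ∑ a : G, if (a ∈ H i ∧ a ≠ 1) then F a else 0 := by
  have h1 : ∀ g : G, F g = (if g = 1 then F 1 else 0) +
      ∑ i, if (g ≠ 1 ∧ ∃ x : G, x * g * x⁻¹ ∈ H i) then F g else 0 := by
    intro g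
    by_cases hg : g = 1
    · subst hg; simp
    · obtain ⟨i, x, hx⟩ := hcover g hg
      rw [if_neg hg, zero_add, Finset.sum_eq_single i]
      · rw [if_pos ⟨hg, x, hx⟩]
      · intro j _ hji
        rw [if_neg]
        rintro ⟨-, y, hy⟩
        apply hg
        have o1 : orderOf g ∣ Nat.card (H i) := by
          have : orderOf (x * g * x⁻¹) = orderOf g := by
            have := MulEquiv.orderOf_eq (MulAut.conj x) g
            simpa using this
          rw [← this]
          have h2 := orderOf_dvd_natCard (⟨x * g * x⁻¹, hx⟩ : H i)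
          rwa [← Subgroup.orderOf_coe] at h2
        have o2 : orderOf g ∣ Nat.card (H j) := by
          have : orderOf (y * g * y⁻¹) = orderOf g := by
            have := MulEquiv.orderOf_eq (MulAut.conj y) g
            simpa using this
          rw [← this]
          have h2 := orderOf_dvd_natCard (⟨y * g * y⁻¹, hy⟩ : H j)
          rwa [← Subgroup.orderOf_coe] at h2
        have := Nat.eq_one_of_dvd_coprimes (hcop i j (Ne.symm hji)) o1 o2
        exact orderOf_eq_one_iff.mp this
      · intro h; exact absurd (Finset.mem_univ i) h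
  rw [Finset.sum_congr rfl (fun g _ => h1 g), Finset.sum_add_distrib, Finset.sum_ite_eq',
    if_pos (Finset.mem_univ _), Finset.sum_comm]
  congr 1
  apply Finset.sum_congr rfl
  intro i _
  exact ti_sum (hTI i) hF

end Cfsg.Agent.Lib.Helper31
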