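import Cfsg.Agent.Lib.Helper31.FrobCoh4
import Cfsg.Agent.Lib.Helper31.TIPart

/-!
# A family of Frobenius subgroups with TI kernels of coprime orders: orthogonality and constants
-/

set_option autoImplicit false
set_option linter.unusedSectionVars false
set_option linter.style.haveILetI false
open Cfsg
open scoped ComplexConjugate

namespace Cfsg.Agent.Lib.Helper31

open Cfsg.Agent.Lib.Helper5 Cfsg.Agent.Lib.Helper20 Cfsg.Agent.Lib.Helper32 Cfsg.Agent.Lib.Helper19

variable {G : Type*} [Group G] [Fintype G]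

section two
variable {L H : Subgroup G} [Fintype L] {ν : (L → ℂ) → (G → ℂ)}

/-- an induced class function supported on `H - 1` is orthogonal to class functions vanishing
there -/
theorem FrobTI.inner_ind_zero (D : FrobTI L H) {α : L → ℂ}
    (hsupp : ∀ x : L, (x : G) ∉ H → α x = 0) (h1 : α 1 = 0) {Z : G → ℂ}
    (hZ : IsClassFunction G Z) (h : ∀ a ∈ H, a ≠ 1 → Z a = 0) :
    classInner (indFun L α) Z = 0 := by
  rw [frobenius_reciprocity _ _ _ hZ, classInner, Finset.sum_eq_zero, mul_zero]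
  intro x _
  by_cases hx : (x : G) ∈ H
  · by_cases hx1 : x = 1
    · rw [hx1, h1, zero_mul]
    · rw [h x hx (fun h => hx1 (Subtype.ext h)), map_zero, mul_zero]
  · rw [hsupp x hx, zero_mul]

theorem FrobTI.sub_conj_supp (D : FrobTI L H) {ξ : L → ℂ} (hξ : ξ ∈ frobS L H) (x : L)
    (hx : (x : G) ∉ H) : (ξ - conjFun ξ) x = 0 := by
  rw [Pi.sub_apply, D.S_vanish hξ hx, D.S_vanish (D.S_conj hξ) hx, sub_zero]

theorem FrobTI.sub_conj_one (D : FrobTI L H) {ξ : L → ℂ} (hξ : ξ ∈ frobS L H) :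
    (ξ - conjFun ξ) 1 = 0 := by
  rw [Pi.sub_apply, conjFun_one_of_irr (D.S_irr hξ), sub_self]

theorem CohIso.sub_conj (C : CohIso L H ν) (D : FrobTI L H) {ξ : L → ℂ} (hξ : ξ ∈ frobS L H) :
    ν ξ - ν (conjFun ξ) = indFun L (ξ - conjFun ξ) :=
  C.map_sub_of_deg hξ (D.S_conj hξ) (conjFun_one_of_irr (D.S_irr hξ)).symm

theorem CohIso.ortho_conj (C : CohIso L H ν) (D : FrobTI L H) {ξ : L → ℂ}
    (hξ : ξ ∈ frobS L H) : classInner (ν ξ) (ν (conjFun ξ)) = 0 := by
  rw [C.inner hξ (D.S_conj hξ)]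
  exact classInner_irr_ne (D.S_irr hξ) (D.S_irr (D.S_conj hξ)) (D.S_conj_ne hξ).symm

theorem CohIso.deg_conj (C : CohIso L H ν) (D : FrobTI L H) {ξ : L → ℂ}
    (hξ : ξ ∈ frobS L H) : ν ξ 1 = ν (conjFun ξ) 1 := by
  have := congrFun (C.sub_conj D hξ) 1
  rw [Pi.sub_apply, Cfsg.Agent.Lib.Helper5.indFun_one, D.sub_conj_one hξ, mul_zero] at this
  exact sub_eq_zero.mp this

/-- `ν ξ` is orthogonal to the principal character -/
theorem CohIso.inner_one (C : CohIso L H ν) (D : FrobTI L H) {ξ : L → ℂ}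
    (hξ : ξ ∈ frobS L H) : classInner (ν ξ) (fun _ => (1 : ℂ)) = 0 := by
  have s1 := C.signed D hξ
  have sOne : SignedIrr G (fun _ => (1 : ℂ)) := Or.inl (isIrr_one' G)
  have h1 : classInner (ν ξ) (fun _ => (1 : ℂ)) = classInner (ν (conjFun ξ)) (fun _ => (1 : ℂ)) := by
    rw [← sub_eq_zero, ← classInner_sub_left, C.sub_conj D hξ,
      frobenius_reciprocity _ _ _ (fun _ _ => rfl), classInner_sub_left, D.inner_one hξ,
      D.inner_one (D.S_conj hξ), sub_zero]
  rcases SignedIrr.cases s1 sOne with h | ⟨ε, hε, h⟩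
  · exact h
  · exfalso
    have o := C.ortho_conj D hξ
    have h2 : classInner (ν ξ) (fun _ => (1 : ℂ)) = ε := by
      rw [h, classInner_smul_left, sOne.inner_self, mul_one]
    rw [h, classInner_smul_left, ← classInner_conj_symm, ← h1, h2] at o
    rcases hε with rfl | rfl <;> simp at o

end two

section fam
variable {ι : Type*} [Fintype ι]

/-- the family -/
structure FrobFam (L H : ι → Subgroup G) [∀ i, Fintype (L i)]
    (ν : ∀ i, (L i → ℂ) → (G → ℂ)) (χ : ∀ i, L i → ℂ) : Prop where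
  D : ∀ i, FrobTI (L i) (H i)
  C : ∀ i, CohIso (L i) (H i) (ν i)
  mem : ∀ i, χ i ∈ frobS (L i) (H i)
  deg : ∀ i, χ i 1 = (((H i).subgroupOf (L i)).index : ℂ)
  cop : ∀ i j, i ≠ j → Nat.Coprime (Nat.card (H i)) (Nat.card (H j))
  odd : Odd (Nat.card G)
  norm : ∀ i, Subgroup.normalizer (H i : Set G) = L i
  cover : ∀ g : G, g ≠ 1 → ∃ i, ∃ x : G, x * g * x⁻¹ ∈ H i

variable {L H : ι → Subgroup G} [∀ i, Fintype (L i)] {ν : ∀ i, (L i → ℂ) → (G → ℂ)}
  {χ : ∀ i, L i → ℂ}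

theorem FrobFam.disj (F : FrobFam L H ν χ) {i j : ι} (hij : i ≠ j) {a : G} (ha : a ∈ H i) (x : G)
    (hx : x⁻¹ * a * x ∈ H j) : a = 1 := by
  have o1 : orderOf a ∣ Nat.card (H i) := by
    have h2 := orderOf_dvd_natCard (⟨a, ha⟩ : H i)
    rwa [← Subgroup.orderOf_coe] at h2
  have o2 : orderOf a ∣ Nat.card (H j) := by
    have : orderOf (x⁻¹ * a * x) = orderOf a := by
      have := MulEquiv.orderOf_eq (MulAut.conj x⁻¹) a
      simpa using this
    rw [← this]
    have h2 := orderOf_dvd_natCard (⟨x⁻¹ * a * x, hx⟩ : H j)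
    rwa [← Subgroup.orderOf_coe] at h2
  exact orderOf_eq_one_iff.mp (Nat.eq_one_of_dvd_coprimes (F.cop i j hij) o1 o2)

/-- functions induced from `L j` and supported on `H j - 1` vanish on `H i` -/
theorem FrobFam.ind_vanish (F : FrobFam L H ν χ) {i j : ι} (hij : i ≠ j) {α : L j → ℂ}
    (hsupp : ∀ x : L j, (x : G) ∉ H j → α x = 0) (h1 : α 1 = 0) {a : G} (ha : a ∈ H i) :
    indFun (L j) α a = 0 :=
  (F.D j).indFun_eq_zero hsupp h1 (fun x hx => F.disj hij ha x hx)

/-- orthogonality of the images of different families -/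
theorem FrobFam.ortho (F : FrobFam L H ν χ) {i j : ι} (hij : i ≠ j) {ξ : L i → ℂ}
    (hξ : ξ ∈ frobS (L i) (H i)) {η : L j → ℂ} (hη : η ∈ frobS (L j) (H j)) :
    classInner (ν i ξ) (ν j η) = 0 := by
  have hmix : classInner (ν i ξ - ν i (conjFun ξ)) (ν j η - ν j (conjFun η)) = 0 := by
    rw [(F.C i).sub_conj (F.D i) hξ, (F.C j).sub_conj (F.D j) hη]
    apply (F.D i).inner_ind_zero ((F.D i).sub_conj_supp hξ) ((F.D i).sub_conj_one hξ)
      (indFun_isClassFunction _ _)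
    intro a ha _
    exact F.ind_vanish hij ((F.D j).sub_conj_supp hη) ((F.D j).sub_conj_one hη) ha
  exact (four_signed ((F.C i).signed (F.D i) hξ) ((F.C i).signed (F.D i) ((F.D i).S_conj hξ))
    ((F.C j).signed (F.D j) hη) ((F.C j).signed (F.D j) ((F.D j).S_conj hη)) 1 1 1 1
    one_ne_zero one_ne_zero one_ne_zero one_ne_zero ((F.C i).ortho_conj (F.D i) hξ)
    ((F.C j).ortho_conj (F.D j) hη) (by simpa using hmix)
    (by simpa using (F.C i).deg_conj (F.D i) hξ) (by simpa using (F.C j).deg_conj (F.D j) hη)).1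

/-- off-diagonal constants -/
theorem FrobFam.exists_cc (F : FrobFam L H ν χ) (i j : ι) :
    ∃ z : ℤ, i ≠ j → ∀ a : L j, (a : G) ∈ H j → a ≠ 1 → ν i (χ i) a = z := by
  by_cases hij : i = j
  · exact ⟨0, fun h => absurd hij h⟩
  · obtain ⟨z, hz⟩ := (F.C j).exists_const (F.D j) (F.mem j) ((F.C i).genChar (F.mem i))
      (f := 0) genChar_zero (by
        intro ξ hξ
        rw [F.ortho (Ne.symm hij) hξ (F.mem i), classInner_zero_right])
    exact ⟨z, fun _ a ha ha1 => by rw [hz a ha ha1]; simp⟩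

/-- diagonal constants -/
theorem FrobFam.exists_cd (F : FrobFam L H ν χ) (i : ι) :
    ∃ z : ℤ, ∀ a : L i, (a : G) ∈ H i → a ≠ 1 → ν i (χ i) a = χ i a + z :=
  (F.C i).exists_const (F.D i) (F.mem i) ((F.C i).genChar (F.mem i))
    (genChar_of_irr ((F.D i).S_irr (F.mem i))) (fun ξ hξ => (F.C i).inner hξ (F.mem i))

end fam

end Cfsg.Agent.Lib.Helper31
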