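import Cfsg.Agent.Lib.Helper31.FrobCoh5

/-!
# The numerical relations (P), (I), (T)
-/

set_option autoImplicit false
set_option linter.unusedSectionVars false
set_option linter.style.haveILetI false
open Cfsg
open scoped ComplexConjugate

namespace Cfsg.Agent.Lib.Helper31

open Cfsg.Agent.Lib.Helper5 Cfsg.Agent.Lib.Helper20 Cfsg.Agent.Lib.Helper32 Cfsg.Agent.Lib.Helper19

variable {G : Type*} [Group G] [Fintype G] {ι : Type*} [Fintype ι]
  {L H : ι → Subgroup G} [∀ i, Fintype (L i)] {ν : ∀ i, (L i → ℂ) → (G → ℂ)}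
  {χ : ∀ i, L i → ℂ}

theorem FrobFam.isTI (F : FrobFam L H ν χ) (i : ι) : IsTISubset (H i : Set G) := by
  intro g hg x hx h
  rw [F.norm i] at hg
  exact (F.D i).ti g hg x hx h

open Classical in
theorem FrobFam.part (F : FrobFam L H ν χ) {Φ : G → ℂ} (hΦ : IsClassFunction G Φ) :
    ∑ g : G, Φ g = Φ 1 + ∑ i, ((L i).index : ℂ) *
        ∑ a : G, if (a ∈ H i ∧ a ≠ 1) then Φ a else 0 := by
  have := sum_eq_of_ti_cover H F.cop F.isTI F.cover hΦ
  simp only [F.norm] at this
  exact this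

/-- (P) -/
theorem FrobFam.relP (F : FrobFam L H ν χ) :
    (Nat.card G : ℂ) = 1 + ∑ i, ((L i).index : ℂ) * ((Nat.card (H i) : ℂ) - 1) := by
  classical
  have h := F.part (Φ := fun _ => (1 : ℂ)) (fun _ _ => rfl)
  rw [Finset.sum_const, nsmul_eq_mul, mul_one] at h
  rw [Nat.card_eq_fintype_card]
  have h2 : ((Finset.univ : Finset G).card : ℂ) = (Fintype.card G : ℂ) := rfl
  rw [← h2, h]
  congr 1
  apply Finset.sum_congr rfl
  intro i _
  rw [sum_ite_mem_const 1 (fun _ _ _ => rfl), one_mul]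

/-- (I) -/
theorem FrobFam.relI [DecidableEq ι] (F : FrobFam L H ν χ) (i : ι) {d cd : ℤ} {c : ι → ℤ}
    (hd : ν i (χ i) 1 = d)
    (hcd : ∀ a : L i, (a : G) ∈ H i → a ≠ 1 → ν i (χ i) a = χ i a + cd)
    (hc : ∀ j, i ≠ j → ∀ a : L j, (a : G) ∈ H j → a ≠ 1 → ν i (χ i) a = c j) :
    (Nat.card G : ℂ) = (d : ℂ) ^ 2 + ((L i).index : ℂ) * ((Nat.card (L i) : ℂ) +
        (cd : ℂ) ^ 2 * ((Nat.card (H i) : ℂ) - 1) - (((H i).subgroupOf (L i)).index : ℂ) ^ 2
          - 2 * (((H i).subgroupOf (L i)).index : ℂ) * cd) +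
      ∑ j ∈ Finset.univ.erase i, ((L j).index : ℂ) *
        ((c j : ℂ) ^ 2 * ((Nat.card (H j) : ℂ) - 1)) := by
  classical
  have hs := ((F.C i).signed (F.D i) (F.mem i)).inner_self
  have hcl := genChar_isClassFunction ((F.C i).genChar (F.mem i))
  have hΦ : IsClassFunction G (fun g => ν i (χ i) g * conj (ν i (χ i) g)) := by
    intro g x
    change ν i (χ i) (x * g * x⁻¹) * conj (ν i (χ i) (x * g * x⁻¹)) = _
    rw [hcl g x]
  have h := F.part hΦ
  have hG : (Nat.card G : ℂ) ≠ 0 := Cfsg.Agent.Lib.Helper20.card_ne_zero_complex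
  have h1 : ∑ g : G, ν i (χ i) g * conj (ν i (χ i) g) = (Nat.card G : ℂ) := by
    rw [classInner] at hs
    field_simp at hs
    exact hs
  rw [h1] at h
  rw [h, ← Finset.add_sum_erase _ _ (Finset.mem_univ i), hd, map_intCast,
    (F.D i).sum_norm (F.mem i) cd hcd, F.deg i, ← add_assoc]
  congr 1
  · ring
  · apply Finset.sum_congr rfl
    intro j hj
    have hij : i ≠ j := (Finset.mem_erase.mp hj).1.symm
    rw [sum_ite_mem_const ((c j : ℂ) ^ 2)]
    intro a ha ha1
    have := hc j hij ⟨a, (F.D j).le ha⟩ ha (fun h => ha1 (congrArg Subtype.val h))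
    change ν i (χ i) a = _ at this
    rw [this, map_intCast]
    ring

theorem FrobFam.bet_inner_off (F : FrobFam L H ν χ) {i j : ι} (hij : i ≠ j) {z : ℤ}
    (hz : ∀ a : L i, (a : G) ∈ H i → a ≠ 1 → ν j (χ j) a = z) :
    classInner (bet (L i) (H i) (χ i)) (ν j (χ j)) = z := by
  rw [(F.D i).bet_inner (F.mem i) (F.deg i) (genChar_isClassFunction ((F.C j).genChar (F.mem j)))
    0 z (fun a ha ha1 => by rw [hz a ha ha1]; simp), classInner_zero_right, zero_add, map_intCast]

theorem FrobFam.bet_bet (F : FrobFam L H ν χ) {i j : ι} (hij : i ≠ j) :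
    classInner (bet (L i) (H i) (χ i)) (bet (L j) (H j) (χ j)) = 0 := by
  have hc : IsClassFunction G (bet (L j) (H j) (χ j)) := indFun_isClassFunction _ _
  rw [(F.D i).bet_inner (F.mem i) (F.deg i) hc 0 0 (fun a ha _ => by
    rw [(F.D j).bet_eq_zero (F.mem j) (F.deg j) (fun x hx => F.disj hij ha x hx)]; simp),
    classInner_zero_right, zero_add, map_zero]

/-- (T) -/
theorem FrobFam.relT (F : FrobFam L H ν χ) {i j : ι} (hij : i ≠ j) {z z' : ℤ}
    (hz : ∀ a : L i, (a : G) ∈ H i → a ≠ 1 → ν j (χ j) a = z)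
    (hz' : ∀ a : L j, (a : G) ∈ H j → a ≠ 1 → ν i (χ i) a = z') : Odd (z' + z) := by
  have gi := genChar_add ((F.D i).bet_genChar (F.mem i)) ((F.C i).genChar (F.mem i))
  have gj := genChar_add ((F.D j).bet_genChar (F.mem j)) ((F.C j).genChar (F.mem j))
  have ri := (F.C i).bet_add_real (F.D i) (F.mem i)
  have rj := (F.C j).bet_add_real (F.D j) (F.mem j)
  have oi : classInner (bet (L i) (H i) (χ i) + ν i (χ i)) (fun _ => (1 : ℂ)) = ((1 : ℤ) : ℂ) := by
    rw [classInner_add_left, (F.D i).bet_inner_one (F.mem i) (F.deg i),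
      (F.C i).inner_one (F.D i) (F.mem i)]
    simp
  have oj : classInner (bet (L j) (H j) (χ j) + ν j (χ j)) (fun _ => (1 : ℂ)) = ((1 : ℤ) : ℂ) := by
    rw [classInner_add_left, (F.D j).bet_inner_one (F.mem j) (F.deg j),
      (F.C j).inner_one (F.D j) (F.mem j)]
    simp
  have hm : classInner (bet (L i) (H i) (χ i) + ν i (χ i)) (bet (L j) (H j) (χ j) + ν j (χ j)) =
      ((z' + z : ℤ) : ℂ) := by
    rw [classInner_add_left, classInner_add_right, classInner_add_right, F.bet_bet hij,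
      F.bet_inner_off hij hz, F.ortho hij (F.mem i) (F.mem j), ← classInner_conj_symm,
      F.bet_inner_off (Ne.symm hij) hz', map_intCast]
    push_cast
    ring
  have := real_genChar_parity F.odd gi gj ri rj oi oj hm
  rw [mul_one] at this
  have h2 : z' + z = (z' + z - 1) + 1 := by ring
  rw [h2]
  exact this.add_one

end Cfsg.Agent.Lib.Helper31
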