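import Cfsg.Agent.Lib.Helper31.FrobCoh6

/-!
# The relation (II): Bessel's inequality for `β - 1`
-/

set_option autoImplicit false
set_option linter.unusedSectionVars false
set_option linter.style.haveILetI false
open Cfsg
open scoped ComplexConjugate

namespace Cfsg.Agent.Lib.Helper31

open Cfsg.Agent.Lib.Helper5 Cfsg.Agent.Lib.Helper20 Cfsg.Agent.Lib.Helper32 Cfsg.Agent.Lib.Helper19

variable {G : Type*} [Group G] [Fintype G] {ι : Type*} [Fintype ι]
  {L H : ι → Subgroup G} [∀ i, Fintype (L i)] {ν : ∀ i, (L i → ℂ) → (G → ℂ)}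
  {χ : ∀ i, L i → ℂ}

/-- the degree as a natural number -/
noncomputable def degNat {X : Type*} [One X] (φ : X → ℂ) : ℕ := Nat.floor (φ 1).re

theorem FrobTI.degNat_eq {L H : Subgroup G} [Fintype L] (D : FrobTI L H) {ξ : L → ℂ}
    (hξ : ξ ∈ frobS L H) : ξ 1 = (degNat ξ : ℂ) := by
  obtain ⟨n, -, hn⟩ := D.S_deg hξ
  rw [degNat, hn]
  simp

theorem FrobTI.sum_deg_sq {L H : Subgroup G} [Fintype L] (D : FrobTI L H) :
    ∑ φ ∈ indAbove (H.subgroupOf L) ⊥, (degNat φ : ℝ) ^ 2 =
      ((H.subgroupOf L).index : ℝ) * ((Nat.card H : ℝ) - 1) := by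
  haveI := D.normal
  have := sum_indAbove_sq_div (H.subgroupOf L) ⊥
    (fun χ hχ φ hφ hne => classInner_irr_ne (D.S_irr hχ) (D.S_irr hφ) hne) degNat (fun _ => 1)
    (fun φ hφ => D.degNat_eq hφ) (fun φ hφ => by
      rw [classInner_irr_self (D.S_irr hφ)]; simp)
  simp only [Nat.cast_one, div_one] at this
  rw [this, Subgroup.relIndex_bot_left, Nat.card_congr (Subgroup.subgroupOfEquivOfLe D.le).toEquiv]

/-- values of `ν j ξ` on `H i - 1`, `i ≠ j` -/
theorem FrobFam.value_off (F : FrobFam L H ν χ) {i j : ι} (hij : i ≠ j) {z : ℤ}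
    (hz : ∀ a : L i, (a : G) ∈ H i → a ≠ 1 → ν j (χ j) a = z) {ξ : L j → ℂ}
    (hξ : ξ ∈ frobS (L j) (H j)) (a : L i) (ha : (a : G) ∈ H i) (ha1 : a ≠ 1) :
    ν j ξ a = (degNat ξ : ℂ) * z / (((H j).subgroupOf (L j)).index : ℂ) := by
  have he : (((H j).subgroupOf (L j)).index : ℂ) ≠ 0 := by
    have := irr_one_ne_zero ((F.D j).S_irr (F.mem j))
    rwa [F.deg j] at this
  have h := star_comb (F.C j).iso (F.C j).ext (F.mem j) hξ
    (dχ := (((H j).subgroupOf (L j)).index : ℤ)) (dξ := (degNat ξ : ℤ))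
    (by rw [F.deg j]; simp) (by rw [(F.D j).degNat_eq hξ]; simp)
  have h0 : indFun (L j) ((degNat ξ : ℤ) • χ j - (((H j).subgroupOf (L j)).index : ℤ) • ξ)
      (a : G) = 0 := by
    apply F.ind_vanish hij _ _ ha
    · intro x hx
      simp [(F.D j).S_vanish (F.mem j) hx, (F.D j).S_vanish hξ hx]
    · rw [Pi.sub_apply, Pi.smul_apply, Pi.smul_apply, zsmul_eq_mul, zsmul_eq_mul, F.deg j,
        (F.D j).degNat_eq hξ]
      push_cast
      ring
  rw [h] at h0
  rw [Pi.sub_apply, Pi.smul_apply, Pi.smul_apply, zsmul_eq_mul, zsmul_eq_mul, hz a ha ha1] at h0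
  push_cast at h0
  field_simp
  linear_combination -h0

/-- (II) -/
theorem FrobFam.relII [DecidableEq ι] (F : FrobFam L H ν χ) (i : ι) {cd : ℤ} {c' : ι → ℤ}
    (hcd : ∀ a : L i, (a : G) ∈ H i → a ≠ 1 → ν i (χ i) a = χ i a + cd)
    (hc' : ∀ j, j ≠ i → ∀ a : L i, (a : G) ∈ H i → a ≠ 1 → ν j (χ j) a = c' j) :
    ((cd : ℝ) - 1) ^ 2 + (cd : ℝ) ^ 2 + ∑ j ∈ Finset.univ.erase i, (c' j : ℝ) ^ 2 *
        (((Nat.card (H j) : ℝ) - 1) / (((H j).subgroupOf (L j)).index : ℝ)) ≤
      (((H i).subgroupOf (L i)).index : ℝ) := by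
  classical
  set β := bet (L i) (H i) (χ i) with hβ
  set v : G → ℂ := β - (fun _ => (1 : ℂ)) with hv
  have hb1 := (F.D i).bet_inner_one (F.mem i) (F.deg i)
  have hvv : classInner v v = (((H i).subgroupOf (L i)).index : ℂ) := by
    rw [hv, classInner_sub_left, classInner_sub_right, classInner_sub_right,
      (F.D i).bet_norm (F.mem i) (F.deg i), hb1, ← classInner_conj_symm β (fun _ => (1 : ℂ)), hb1,
      classInner_irr_self (isIrr_one' G)]
    simp
  let s : Finset (Σ j : ι, (L j → ℂ)) :=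
    Finset.univ.sigma (fun j => indAbove ((H j).subgroupOf (L j)) ⊥)
  let ef : (Σ j : ι, (L j → ℂ)) → (G → ℂ) := fun p => ν p.1 p.2
  have hmem : ∀ p ∈ s, p.2 ∈ frobS (L p.1) (H p.1) := by
    intro p hp
    exact (mem_indAbove _).mp (Finset.mem_sigma.mp hp).2
  have hO : OrthoN s ef := by
    rintro ⟨j, ξ⟩ hp ⟨k, η⟩ hq
    have hξ := hmem _ hp
    have hη := hmem _ hq
    constructor
    · intro h
      obtain ⟨rfl, h2⟩ := Sigma.mk.inj_iff.mp h
      obtain rfl := eq_of_heq h2
      change classInner (ν j ξ) (ν j ξ) = 1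
      rw [(F.C j).inner hξ hξ, classInner_irr_self ((F.D j).S_irr hξ)]
    · intro hne
      change classInner (ν j ξ) (ν k η) = 0
      by_cases hjk : j = k
      · subst hjk
        have : ξ ≠ η := fun h => hne (by rw [h])
        rw [(F.C j).inner hξ hη, classInner_irr_ne ((F.D j).S_irr hξ) ((F.D j).S_irr hη) this]
      · exact F.ortho hjk hξ hη
  have hpy := hO.pythagoras v
  have hve : ∀ j (ξ : L j → ℂ), ξ ∈ frobS (L j) (H j) →
      classInner v (ν j ξ) = classInner β (ν j ξ) := by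
    intro j ξ hξ
    rw [hv, classInner_sub_left, ← classInner_conj_symm (ν j ξ) (fun _ => (1 : ℂ)),
      (F.C j).inner_one (F.D j) hξ]
    simp
  -- real form
  have hreal : (((H i).subgroupOf (L i)).index : ℝ) =
      ∑ j, ∑ ξ ∈ indAbove ((H j).subgroupOf (L j)) ⊥, Complex.normSq (classInner v (ν j ξ)) +
        (classInner (v - proj s ef v) (v - proj s ef v)).re := by
    have h1 := congrArg Complex.re hpy
    rw [hvv, Complex.add_re, Complex.natCast_re, Finset.sum_sigma, Complex.re_sum] at h1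
    rw [h1]
    congr 1
    apply Finset.sum_congr rfl
    intro j _
    rw [Complex.re_sum]
    apply Finset.sum_congr rfl
    intro ξ _
    rw [Complex.mul_conj, Complex.ofReal_re]
  have hnn := classInner_self_re_nonneg (v - proj s ef v)
  -- the blocks j ≠ i
  have hoff : ∀ j, j ≠ i → ∑ ξ ∈ indAbove ((H j).subgroupOf (L j)) ⊥,
      Complex.normSq (classInner v (ν j ξ)) = (c' j : ℝ) ^ 2 *
        (((Nat.card (H j) : ℝ) - 1) / (((H j).subgroupOf (L j)).index : ℝ)) := by
    intro j hj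
    have he : (((H j).subgroupOf (L j)).index : ℝ) ≠ 0 := by
      have := irr_one_ne_zero ((F.D j).S_irr (F.mem j))
      rw [F.deg j] at this
      exact_mod_cast this
    have h1 : ∀ ξ ∈ indAbove ((H j).subgroupOf (L j)) ⊥,
        Complex.normSq (classInner v (ν j ξ)) = (degNat ξ : ℝ) ^ 2 *
          ((c' j : ℝ) ^ 2 / (((H j).subgroupOf (L j)).index : ℝ) ^ 2) := by
      intro ξ hξ
      have hξ' : ξ ∈ frobS (L j) (H j) := (mem_indAbove _).mp hξ
      rw [hve j ξ hξ', hβ, (F.D i).bet_inner (F.mem i) (F.deg i)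
        (genChar_isClassFunction ((F.C j).genChar hξ')) 0
        ((degNat ξ : ℂ) * (c' j) / (((H j).subgroupOf (L j)).index : ℂ))
        (fun a ha ha1 => by
          rw [F.value_off (Ne.symm hj) (hc' j hj) hξ' a ha ha1]; simp),
        classInner_zero_right, zero_add, Complex.normSq_conj]
      have : ((degNat ξ : ℂ) * (c' j) / (((H j).subgroupOf (L j)).index : ℂ)) =
          (((degNat ξ : ℝ) * (c' j : ℝ) / (((H j).subgroupOf (L j)).index : ℝ) : ℝ) : ℂ) := by
        push_cast; rfl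
      rw [this, Complex.normSq_ofReal]
      field_simp
    rw [Finset.sum_congr rfl h1, ← Finset.sum_mul, (F.D j).sum_deg_sq]
    field_simp
  -- the block i
  have hχ' := (F.D i).S_conj (F.mem i)
  have hdiag : ((cd : ℝ) - 1) ^ 2 + (cd : ℝ) ^ 2 ≤
      ∑ ξ ∈ indAbove ((H i).subgroupOf (L i)) ⊥, Complex.normSq (classInner v (ν i ξ)) := by
    have hsub : ({χ i, conjFun (χ i)} : Finset (L i → ℂ)) ⊆
        indAbove ((H i).subgroupOf (L i)) ⊥ := by
      intro ξ hξ
      rw [Finset.mem_insert, Finset.mem_singleton] at hξ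
      rcases hξ with rfl | rfl
      · exact (mem_indAbove _).mpr (F.mem i)
      · exact (mem_indAbove _).mpr hχ'
    refine le_trans ?_ (Finset.sum_le_sum_of_subset_of_nonneg hsub
      (fun _ _ _ => Complex.normSq_nonneg _))
    rw [Finset.sum_pair ((F.D i).S_conj_ne (F.mem i)).symm]
    have e1 : classInner v (ν i (χ i)) = (((cd : ℝ) - 1 : ℝ) : ℂ) := by
      rw [hve i _ (F.mem i), hβ, (F.D i).bet_inner (F.mem i) (F.deg i)
        (genChar_isClassFunction ((F.C i).genChar (F.mem i))) (χ i) cd hcd,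
        (F.D i).gam_inner_S (F.mem i) (F.mem i), classInner_irr_self ((F.D i).S_irr (F.mem i)),
        map_intCast]
      push_cast
      ring
    have e2 : classInner v (ν i (conjFun (χ i))) = ((cd : ℝ) : ℂ) := by
      rw [hve i _ hχ', hβ, (F.D i).bet_inner (F.mem i) (F.deg i)
        (genChar_isClassFunction ((F.C i).genChar hχ')) (conjFun (χ i)) cd (by
          intro a ha ha1
          rw [(F.C i).map_conj (F.D i) (F.mem i), conjFun_apply, hcd a ha ha1, conjFun_apply,
            map_add, map_intCast]),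
        (F.D i).gam_inner_S (F.mem i) hχ',
        classInner_irr_ne ((F.D i).S_irr (F.mem i)) ((F.D i).S_irr hχ')
          ((F.D i).S_conj_ne (F.mem i)).symm, map_intCast]
      push_cast
      ring
    rw [e1, e2, Complex.normSq_ofReal, Complex.normSq_ofReal]
    nlinarith
  rw [← Finset.add_sum_erase _ _ (Finset.mem_univ i)] at hreal
  rw [Finset.sum_congr rfl (fun j hj => hoff j (Finset.mem_erase.mp hj).1)] at hreal
  linarith

end Cfsg.Agent.Lib.Helper31
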