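import Mathlib

/-!
# The arithmetic endgame of the Frobenius partition theorem
-/

set_option autoImplicit false

namespace Cfsg.Agent.Lib.Helper31

theorem frob_endgame {ι : Type*} [Fintype ι] [DecidableEq ι] (g : ℝ) (h e : ι → ℝ) (d cd : ℤ)
    (c c' : ι → ℤ) (i : ι)
    (hg : 0 < g) (he : ∀ j, 1 < e j) (hh : ∀ j, 2 * e j + 1 ≤ h j)
    (hP : 1 = 1 / g + ∑ j, (h j - 1) / (h j * e j))
    (hI : 0 = (d : ℝ) ^ 2 / g + (cd : ℝ) ^ 2 * ((h i - 1) / (h i * e i)) - e i / h i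
      - 2 * cd / h i + ∑ j ∈ Finset.univ.erase i, (c j : ℝ) ^ 2 * ((h j - 1) / (h j * e j)))
    (hII : ((cd : ℝ) - 1) ^ 2 + (cd : ℝ) ^ 2 +
      ∑ j ∈ Finset.univ.erase i, (c' j : ℝ) ^ 2 * ((h j - 1) / e j) ≤ e i)
    (hT : ∀ j, j ≠ i → Odd (c j + c' j)) (hd : d ≠ 0)
    (hmin : ∀ j, j ≠ i → h i + 1 ≤ h j) : False := by
  have hepos : ∀ j, 0 < e j := fun j => by linarith [he j]
  have hhpos : ∀ j, 0 < h j := fun j => by linarith [hh j, hepos j]
  have hw : ∀ j, 0 ≤ (h j - 1) / (h j * e j) := fun j =>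
    div_nonneg (by linarith [hh j, hepos j]) (mul_pos (hhpos j) (hepos j)).le
  -- Claim 1
  have c1 : ∑ j ∈ Finset.univ.erase i, (h j - 1) / (h j * e j) ≤
      ∑ j ∈ Finset.univ.erase i, (c j : ℝ) ^ 2 * ((h j - 1) / (h j * e j)) +
      ∑ j ∈ Finset.univ.erase i, (c' j : ℝ) ^ 2 * ((h j - 1) / (h j * e j)) := by
    rw [← Finset.sum_add_distrib]
    apply Finset.sum_le_sum
    intro j hj
    have hji := (Finset.mem_erase.mp hj).1
    have h1 : (1 : ℤ) ≤ c j ^ 2 + c' j ^ 2 := by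
      by_contra hcon
      have h2 : c j ^ 2 + c' j ^ 2 ≤ 0 := by omega
      have h3 : c j = 0 := by nlinarith [sq_nonneg (c j), sq_nonneg (c' j)]
      have h4 : c' j = 0 := by nlinarith [sq_nonneg (c j), sq_nonneg (c' j)]
      have := hT j hji
      rw [h3, h4] at this
      simp at this
    have h1' : (1 : ℝ) ≤ (c j : ℝ) ^ 2 + (c' j : ℝ) ^ 2 := by exact_mod_cast h1
    nlinarith [hw j]
  -- Claim 2
  have c2 : ∑ j ∈ Finset.univ.erase i, (c' j : ℝ) ^ 2 * ((h j - 1) / (h j * e j)) ≤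
      (∑ j ∈ Finset.univ.erase i, (c' j : ℝ) ^ 2 * ((h j - 1) / e j)) / (h i + 1) := by
    rw [Finset.sum_div]
    apply Finset.sum_le_sum
    intro j hj
    have hji := (Finset.mem_erase.mp hj).1
    have h1 := hmin j hji
    have h2 : (h j - 1) / (h j * e j) = ((h j - 1) / e j) / h j := by
      rw [div_div, mul_comm]
    rw [h2, mul_div_assoc]
    apply mul_le_mul_of_nonneg_left _ (sq_nonneg _)
    apply div_le_div_of_nonneg_left _ (by linarith [hhpos i]) h1
    exact div_nonneg (by linarith [hh j, hepos j]) (hepos j).le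
  have c2' : (∑ j ∈ Finset.univ.erase i, (c' j : ℝ) ^ 2 * ((h j - 1) / e j)) ≤ e i - 1 := by
    have h1 : (1 : ℤ) ≤ (cd - 1) ^ 2 + cd ^ 2 := by
      rcases le_or_gt cd 0 with h | h
      · nlinarith
      · nlinarith
    have h1' : (1 : ℝ) ≤ ((cd : ℝ) - 1) ^ 2 + (cd : ℝ) ^ 2 := by exact_mod_cast h1
    linarith
  have c2'' : ∑ j ∈ Finset.univ.erase i, (c' j : ℝ) ^ 2 * ((h j - 1) / (h j * e j)) ≤
      (e i - 1) / (h i + 1) :=
    c2.trans (div_le_div_of_nonneg_right c2' (by linarith [hhpos i]))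
  -- Claim 3
  have c3 : ∑ j ∈ Finset.univ.erase i, (c j : ℝ) ^ 2 * ((h j - 1) / (h j * e j)) ≤
      e i / h i - 1 / g := by
    have h1 : (1 : ℝ) ≤ (d : ℝ) ^ 2 := by
      have : (1 : ℤ) ≤ d ^ 2 := by
        have := sq_nonneg d
        have h0 : d ^ 2 ≠ 0 := pow_ne_zero 2 hd
        omega
      exact_mod_cast this
    have h2 : 1 / g ≤ (d : ℝ) ^ 2 / g := div_le_div_of_nonneg_right h1 hg.le
    have h3 : 2 * (cd : ℝ) / h i - (cd : ℝ) ^ 2 * ((h i - 1) / (h i * e i)) ≤ 0 := by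
      have e1 : 2 * (cd : ℝ) / h i - (cd : ℝ) ^ 2 * ((h i - 1) / (h i * e i)) =
          ((cd : ℝ) * (2 * e i - cd * (h i - 1))) / (h i * e i) := by
        have := (hhpos i).ne'
        have := (hepos i).ne'
        field_simp
      rw [e1]
      apply div_nonpos_of_nonpos_of_nonneg _ (mul_pos (hhpos i) (hepos i)).le
      rcases le_or_gt cd 0 with h | h
      · have h' : (cd : ℝ) ≤ 0 := by exact_mod_cast h
        apply mul_nonpos_of_nonpos_of_nonneg h'
        nlinarith [hh i, hepos i]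
      · have h' : (1 : ℝ) ≤ cd := by exact_mod_cast h
        apply mul_nonpos_of_nonneg_of_nonpos (by linarith)
        nlinarith [hh i, hepos i]
    linarith
  -- Claim 4
  have c4 : ∑ j ∈ Finset.univ.erase i, (h j - 1) / (h j * e j) =
      1 - 1 / g - (h i - 1) / (h i * e i) := by
    rw [← Finset.add_sum_erase _ _ (Finset.mem_univ i)] at hP
    linarith
  have key : 1 - (h i - 1) / (h i * e i) - e i / h i ≤ (e i - 1) / (h i + 1) := by linarith
  have hH := hhpos i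
  have hE := hepos i
  have e1 : 1 - (h i - 1) / (h i * e i) - e i / h i =
      (h i * e i - (h i - 1) - e i ^ 2) / (h i * e i) := by
    field_simp
  rw [e1, div_le_div_iff₀ (mul_pos hH hE) (by linarith)] at key
  have h5 := hh i
  have h6 := he i
  have h7 : 0 < (e i - 1) * (h i * (h i - 2 * e i) - e i - 1) := by
    apply mul_pos (by linarith)
    nlinarith
  nlinarith

end Cfsg.Agent.Lib.Helper31
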