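import Cfsg.Agent.Lib.Helper31.FrobCoh7
import Cfsg.Agent.Lib.Helper31.FrobEnd
import Cfsg.Agent.Lib.Helper32.FrobQuot

/-!
# No coherent Frobenius partition (Peterfalvi 7.10)
-/

set_option autoImplicit false
set_option linter.unusedSectionVars false
set_option linter.style.haveILetI false
open Cfsg
open scoped ComplexConjugate

namespace Cfsg.Agent.Lib.Helper31

open Cfsg.Agent.Lib.Helper5 Cfsg.Agent.Lib.Helper20 Cfsg.Agent.Lib.Helper32 Cfsg.Agent.Lib.Helper19

variable {G : Type*} [Group G] [Fintype G]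

theorem FrobTI.index_dvd {L H : Subgroup G} (D : FrobTI L H) :
    (H.subgroupOf L).index ∣ Nat.card H - 1 := by
  haveI := D.normal
  have := index_dvd_card_sub_one (H.subgroupOf L) (H.subgroupOf L) (by
    intro y hy hy1 g hg
    apply D.frob y hy hy1
    rw [Subgroup.mem_centralizer_singleton_iff]
    have : g * y = g * y * g⁻¹ * g := by group
    rw [this, hg])
  rwa [Nat.card_congr (Subgroup.subgroupOfEquivOfLe D.le).toEquiv] at this

theorem FrobTI.card_L {L H : Subgroup G} (D : FrobTI L H) :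
    Nat.card L = Nat.card H * (H.subgroupOf L).index := by
  rw [← Subgroup.card_mul_index (H.subgroupOf L),
    Nat.card_congr (Subgroup.subgroupOfEquivOfLe D.le).toEquiv]

theorem FrobTI.two_mul_index_le {L H : Subgroup G} (D : FrobTI L H) :
    2 * (H.subgroupOf L).index + 1 ≤ Nat.card H := by
  have h1 := D.index_dvd
  have h2 := D.card_L
  have h3 := D.odd
  rw [h2, Nat.odd_mul] at h3
  have h4 : 1 < Nat.card H := by
    rw [Finite.one_lt_card_iff_nontrivial]
    exact (Subgroup.nontrivial_iff_ne_bot H).mpr D.ne_bot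
  obtain ⟨k, hk⟩ := h1
  have h5 : Even (Nat.card H - 1) := by
    obtain ⟨m, hm⟩ := h3.1
    exact ⟨m, by omega⟩
  rw [hk, Nat.even_mul] at h5
  have h6 : Even k := by
    rcases h5 with h | h
    · exact absurd h (Nat.not_even_iff_odd.mpr h3.2)
    · exact h
  obtain ⟨m, hm⟩ := h6
  have hm0 : m ≠ 0 := by
    rintro rfl
    simp at hm
    subst hm
    omega
  have : (H.subgroupOf L).index * 2 ≤ (H.subgroupOf L).index * k := by
    apply Nat.mul_le_mul_left
    omega
  omega

variable {ι : Type*} [Fintype ι]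
  {L H : ι → Subgroup G} [∀ i, Fintype (L i)] {ν : ∀ i, (L i → ℂ) → (G → ℂ)}
  {χ : ∀ i, L i → ℂ}

/-- **No coherent Frobenius partition.** -/
theorem FrobFam.false [Nonempty ι] (F : FrobFam L H ν χ) (hlt : ∀ i, H i < L i) : False := by
  classical
  choose cc hcc using F.exists_cc
  choose cd hcd using F.exists_cd
  have hdd : ∀ i, ∃ d : ℤ, ν i (χ i) 1 = d := fun i =>
    genChar_apply_one ((F.C i).genChar (F.mem i))
  choose d hd using hdd
  obtain ⟨i, -, hi⟩ := Finset.exists_min_image Finset.univ (fun j => Nat.card (H j))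
    ⟨Classical.arbitrary ι, Finset.mem_univ _⟩
  obtain ⟨g, hgd⟩ : ∃ g : ℝ, g = Nat.card G := ⟨_, rfl⟩
  obtain ⟨h, hhd⟩ : ∃ h : ι → ℝ, ∀ j, h j = Nat.card (H j) := ⟨fun j => Nat.card (H j), fun _ => rfl⟩
  obtain ⟨e, hed⟩ : ∃ e : ι → ℝ, ∀ j, e j = ((H j).subgroupOf (L j)).index :=
    ⟨fun j => ((H j).subgroupOf (L j)).index, fun _ => rfl⟩
  have hg : 0 < g := by
    have : 0 < Nat.card G := Nat.card_pos
    rw [hgd]
    exact_mod_cast this
  have he : ∀ j, 1 < e j := by
    intro j
    have h1 : ((H j).subgroupOf (L j)).index ≠ 1 := by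
      intro h1
      rw [Subgroup.index_eq_one, Subgroup.subgroupOf_eq_top] at h1
      exact absurd h1 (not_le_of_gt (hlt j))
    have h0 : ((H j).subgroupOf (L j)).index ≠ 0 := Subgroup.index_ne_zero_of_finite
    have : 1 < ((H j).subgroupOf (L j)).index := by omega
    rw [hed]
    exact_mod_cast this
  have hh : ∀ j, 2 * e j + 1 ≤ h j := by
    intro j
    rw [hed, hhd]
    exact_mod_cast (F.D j).two_mul_index_le
  have hepos : ∀ j, 0 < e j := fun j => by linarith [he j]
  have hhpos : ∀ j, 0 < h j := fun j => by linarith [hh j, hepos j]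
  have hidx : ∀ j, ((L j).index : ℝ) = g / (h j * e j) := by
    intro j
    have h1 := Subgroup.card_mul_index (L j)
    rw [(F.D j).card_L] at h1
    have h2 : h j * e j * ((L j).index : ℝ) = g := by
      rw [hed, hhd, hgd]
      exact_mod_cast h1
    rw [eq_div_iff (mul_pos (hhpos j) (hepos j)).ne']
    linarith
  -- (P)
  have hP : 1 = 1 / g + ∑ j, (h j - 1) / (h j * e j) := by
    have h1 : g = 1 + ∑ j, ((L j).index : ℝ) * (h j - 1) := by
      have := F.relP
      simp only [hhd, hgd]
      apply Complex.ofReal_injective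
      push_cast
      exact this
    have h2 : ∑ j, ((L j).index : ℝ) * (h j - 1) = g * ∑ j, (h j - 1) / (h j * e j) := by
      rw [Finset.mul_sum]
      apply Finset.sum_congr rfl
      intro j _
      rw [hidx j]
      ring
    rw [h2] at h1
    field_simp
    linarith
  -- (I)
  have hI : 0 = (d i : ℝ) ^ 2 / g + (cd i : ℝ) ^ 2 * ((h i - 1) / (h i * e i)) - e i / h i
      - 2 * (cd i) / h i +
      ∑ j ∈ Finset.univ.erase i, (cc i j : ℝ) ^ 2 * ((h j - 1) / (h j * e j)) := by
    have h1 : g = (d i : ℝ) ^ 2 + ((L i).index : ℝ) * ((Nat.card (L i) : ℝ) +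
        (cd i : ℝ) ^ 2 * (h i - 1) - (e i) ^ 2 - 2 * (e i) * (cd i)) +
      ∑ j ∈ Finset.univ.erase i, ((L j).index : ℝ) * ((cc i j : ℝ) ^ 2 * (h j - 1)) := by
      have := F.relI i (hd i) (hcd i) (c := cc i) (fun j hij => hcc i j hij)
      simp only [hhd, hgd, hed]
      apply Complex.ofReal_injective
      push_cast
      exact this
    have h2 : ∑ j ∈ Finset.univ.erase i, ((L j).index : ℝ) * ((cc i j : ℝ) ^ 2 * (h j - 1)) =
        g * ∑ j ∈ Finset.univ.erase i, (cc i j : ℝ) ^ 2 * ((h j - 1) / (h j * e j)) := by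
      rw [Finset.mul_sum]
      apply Finset.sum_congr rfl
      intro j _
      rw [hidx j]
      ring
    have h3 : (Nat.card (L i) : ℝ) = h i * e i := by
      rw [hed, hhd]
      exact_mod_cast (F.D i).card_L
    rw [h2, h3, hidx i] at h1
    have hH := (hhpos i).ne'
    have hE := (hepos i).ne'
    have hG := hg.ne'
    have h4 : g / (h i * e i) * (h i * e i + (cd i : ℝ) ^ 2 * (h i - 1) - e i ^ 2
        - 2 * e i * (cd i)) = g * (1 + (cd i : ℝ) ^ 2 * ((h i - 1) / (h i * e i)) - e i / h i
        - 2 * (cd i) / h i) := by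
      field_simp
    rw [h4] at h1
    have h5 : (d i : ℝ) ^ 2 = g * ((d i : ℝ) ^ 2 / g) := by field_simp
    rw [h5] at h1
    have h6 : g * 1 = g * ((d i : ℝ) ^ 2 / g + (1 + (cd i : ℝ) ^ 2 * ((h i - 1) / (h i * e i))
        - e i / h i - 2 * (cd i) / h i) +
        ∑ j ∈ Finset.univ.erase i, (cc i j : ℝ) ^ 2 * ((h j - 1) / (h j * e j))) := by
      linarith
    have h7 := mul_left_cancel₀ hG h6
    linarith
  -- (II)
  have hII := F.relII i (hcd i) (c' := fun j => cc j i) (fun j hj => hcc j i hj)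
  simp only [← hhd, ← hed] at hII
  -- (T)
  have hT : ∀ j, j ≠ i → Odd (cc i j + cc j i) := fun j hj =>
    F.relT (Ne.symm hj) (hcc j i hj) (hcc i j (Ne.symm hj))
  have hd0 : d i ≠ 0 := by
    intro h0
    have := ((F.C i).signed (F.D i) (F.mem i)).one_ne
    rw [hd i, h0] at this
    simp at this
  have hmin : ∀ j, j ≠ i → h i + 1 ≤ h j := by
    intro j hj
    have h1 := hi j (Finset.mem_univ j)
    have h2 : Nat.card (H i) ≠ Nat.card (H j) := by
      intro heq
      have := F.cop i j (Ne.symm hj)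
      rw [heq, Nat.coprime_self] at this
      have h4 : 1 < Nat.card (H j) := by
        rw [Finite.one_lt_card_iff_nontrivial]
        exact (Subgroup.nontrivial_iff_ne_bot _).mpr (F.D j).ne_bot
      omega
    have : Nat.card (H i) + 1 ≤ Nat.card (H j) := by omega
    rw [hhd, hhd]
    exact_mod_cast this
  exact frob_endgame g h e (d i) (cd i) (cc i) (fun j => cc j i) i hg he hh hP hI hII hT hd0 hmin

end Cfsg.Agent.Lib.Helper31
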